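import Mathlib
import Cfsg.Agent.H672.Main
import Cfsg.Agent.CharactersDeep.FeitLinear
set_option linter.all false

-- part: H673/Dist
section
/-!
# Distances in the common-divisor graph on the relative degree set

Refined versions of the cases in the proof of the theorem on the relative degree graph.
-/

set_option autoImplicit false
set_option linter.style.haveILetI false
set_option linter.unusedSectionVars false
open Cfsg

namespace Cfsg.Agent.H673

open Cfsg.Agent.H672
open Cfsg.Agent.Characters.Core Cfsg.Agent.Characters.Clifford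
open scoped ComplexConjugate

universe u v w

variable {G : Type u} [Group G] [Finite G] {N : Subgroup G} [hN : N.Normal]

/-- members of the relative degree set of a subgroup of `G'` exceed one -/
theorem one_lt_of_mem_rel (hNG : N ≤ commutator G) {d : ℕ} (hd : d ∈ relCharDegrees N) : 1 < d := by
  obtain ⟨⟨χ, hχ⟩, ⟨x, hx, hne⟩, rfl⟩ := hd
  dsimp only at hne ⊢
  have h0 := charDegree_pos hχ
  by_contra hcon
  obtain ⟨l, rfl⟩ := exists_hom_of_degree_one hχ (by omega)
  apply hne
  have h1 : x ∈ l.ker := Abelianization.commutator_subset_ker l (hNG hx)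
  rw [lf_apply, lf_apply, MonoidHom.mem_ker.1 h1, map_one]

theorem not_coprime_self {d : ℕ} (h : 1 < d) : ¬ Nat.Coprime d d := by
  rw [Nat.coprime_self]; omega

/-- Every degree prime to `p` is within distance two of `|G : I(l)|`. -/
theorem caseI' (hNG : N ≤ commutator G) {p k : ℕ} [hp : Fact p.Prime] (P : Sylow p G)
    {l : N →* ℂˣ} (hl1 : l ≠ 1) (hl : ∀ n, l n ^ p ^ k = 1)
    (ν : (N ⊔ (P : Subgroup G) : Subgroup G) →* ℂˣ) (hν : ∀ n : N, ν (inclK N P n) = l n) :
    ∀ a ∈ relCharDegrees N, ¬ p ∣ a → ∃ d ∈ relCharDegrees N, ¬ Nat.Coprime a d ∧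
      ¬ Nat.Coprime d (inertia N (lf l)).index := by
  have hKT : N ⊔ (P : Subgroup G) ≤ inertia N (lf l) := by
    refine le_inertia_of_extends (isIrr_isClassFunction (isIrr_lf ν)) ?_
    funext n
    exact congrArg _ (hν n)
  have hT := inertia_ne_top hNG P hl1 hl ν hν
  have ht := (caseI hNG P hl1 hl ν hν).1
  have ht1 : 1 < (inertia N (lf l)).index := one_lt_of_mem_rel hNG ht
  have hpt : ¬ p ∣ (inertia N (lf l)).index := fun h =>
    P.not_dvd_index (h.trans (Subgroup.index_dvd_of_le (le_sup_right.trans hKT)))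
  intro a ha hpa
  by_cases hc : Nat.Coprime a (inertia N (lf l)).index
  swap
  · exact ⟨_, ht, hc, not_coprime_self ht1⟩
  obtain ⟨⟨χ, hχ⟩, hk, rfl⟩ := ha
  dsimp only at hk hpa hc ⊢
  have ha : charDegree χ ∈ relCharDegrees N := ⟨⟨χ, hχ⟩, hk, rfl⟩
  obtain ⟨θ, hθ, ho⟩ := exists_under (f := N.subtype) hχ
  have hθ1 := ne_one_of_over N hχ hk hθ ho
  have hcl := index_mul_charDegree_dvd N hχ hθ ho
  have hS : (inertia N θ).index ∣ charDegree χ := (dvd_mul_right _ _).trans hcl
  have hθd : charDegree θ ∣ charDegree χ := (dvd_mul_left _ _).trans hcl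
  have hpS : ¬ p ∣ (inertia N θ).index := fun h => hpa (h.trans hS)
  have hpθ : ¬ p ∣ charDegree θ := fun h => hpa (h.trans hθd)
  have hcS : Nat.Coprime (inertia N θ).index (inertia N (lf l)).index := hc.coprime_dvd_left hS
  -- the character `l θ`
  have hlθ := isIrr_mul_lf l hθ
  obtain ⟨ψ, hψ, hψo⟩ := exists_over N _ hlθ
  have hψU := index_dvd_of_over hψ hlθ hψo
  have hnot : ¬ Nat.Coprime (inertia N (fun n => (l n : ℂ) * θ n)).index
      (inertia N (lf l)).index := fun h => hT (inertia_eq_top N hθ hpθ hpS l hl hcS h)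
  have hnot' : ¬ Nat.Coprime (charDegree ψ) (inertia N (lf l)).index := fun h =>
    hnot (h.coprime_dvd_left hψU)
  have hψm : charDegree ψ ∈ relCharDegrees N := by
    refine mem_relCharDegrees_of_over N hψ hlθ hψo ?_
    intro h
    apply hnot
    have : inertia N (fun n => (l n : ℂ) * θ n) = ⊤ := by
      rw [eq_top_iff]
      intro g _
      rw [mem_inertia, h]
      rfl
    rw [this, Subgroup.index_top]
    exact Nat.coprime_one_left _
  by_cases hθ2 : charDegree θ = 1
  swap
  · -- `θ` nonlinear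
    refine ⟨_, hψm, ?_, hnot'⟩
    intro hcop
    have h1 := index_mul_charDegree_dvd N hψ hlθ hψo
    rw [charDegree_mul_lf] at h1
    exact hθ2 (Nat.eq_one_of_dvd_coprimes hcop hθd ((dvd_mul_left _ _).trans h1))
  · obtain ⟨ϕ, rfl⟩ := exists_hom_of_degree_one hθ hθ2
    obtain ⟨b, n', hn', hn'0, hpow⟩ := card_factor (H := N) p
    by_cases hμ : ∃ x, ϕ x ^ p ^ b ≠ 1
    · -- the `p'`-part is not trivial
      obtain ⟨ψ', hψ', hψo'⟩ := exists_over N _ (isIrr_lf (l * ϕ ^ p ^ b))
      have hcop : Nat.Coprime (p ^ k) n' :=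
        Nat.Coprime.pow_left _ ((Nat.Prime.coprime_iff_not_dvd hp.out).2 hn')
      have h1 : inertia N (lf (l * ϕ ^ p ^ b)) ≤ inertia N (lf l) := by
        refine inertia_mul_le N hcop hl ?_
        intro x
        rw [MonoidHom.pow_apply, ← pow_mul]
        exact hpow ϕ x
      have h2 : (inertia N (lf l)).index ∣ charDegree ψ' :=
        (Subgroup.index_dvd_of_le h1).trans (index_dvd_of_over hψ' (isIrr_lf _) hψo')
      have h3 : ¬ Nat.Coprime (charDegree χ) (charDegree ψ') :=
        not_coprime_of_over hNG hl hn' (hpow ϕ) hμ hχ ho hψ' hψo'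
      have hψm' : charDegree ψ' ∈ relCharDegrees N := by
        refine mem_relCharDegrees_of_over N hψ' (isIrr_lf _) hψo' (lf_ne_one ?_)
        intro h
        have h6 : inertia N (lf (1 : N →* ℂˣ)) ≤ inertia N (lf l) := h ▸ h1
        apply hT
        rw [eq_top_iff]
        refine le_trans ?_ h6
        intro g _
        rw [mem_inertia_lf]
        intro n
        rfl
      refine ⟨_, hψm', h3, fun h => ?_⟩
      have := Nat.eq_one_of_dvd_coprimes h h2 dvd_rfl
      omega
    · -- `ϕ` of `p`-power order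
      push Not at hμ
      have hS1 : inertia N (lf ϕ) ≠ ⊤ := by
        intro htop
        apply hpa
        have hϕ1 : ∃ x, ϕ x ≠ 1 := by
          by_contra hcon
          push Not at hcon
          apply hθ1
          funext n
          simp [lf, hcon]
        refine prime_dvd_of_over hNG (k := b) (j := 1) ?_ ?_ ?_ hχ ho
        · obtain ⟨x, hx⟩ := hϕ1
          exact ⟨x, by rwa [pow_one]⟩
        · intro x
          rw [one_mul]
          exact hμ x
        · rw [← htop]
          congr 2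
          ext x
          rw [MonoidHom.pow_apply, pow_one]
      have e : (fun n : N => (ϕ n : ℂ) * lf l n) = fun n => (l n : ℂ) * lf ϕ n := by
        funext n
        rw [lf_apply, lf_apply, mul_comm]
      have hnot2 : ¬ Nat.Coprime (inertia N (fun n => (l n : ℂ) * lf ϕ n)).index
          (inertia N (lf ϕ)).index := fun h => by
        refine hS1 (inertia_eq_top N (isIrr_lf l) ?_ hpt ϕ hμ hcS.symm ?_)
        · rw [charDegree_lf]; exact hp.out.one_lt.ne' ∘ Nat.dvd_one.1
        · rw [e]; exact h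
      have h7 : ¬ Nat.Coprime (charDegree ψ) (charDegree χ) := fun h =>
        hnot2 ((h.coprime_dvd_left hψU).coprime_dvd_right hS)
      exact ⟨_, hψm, fun h => h7 h.symm, hnot'⟩

/-- `μ` extends to `N R` if `θ` and `μ θ` do (in terms of characters of degree prime to `r`
above them). -/
theorem extends_of_two {r : ℕ} [hr : Fact r.Prime] (R : Sylow r G)
    {θ : N → ℂ} (hθ : IsIrrCharacter N θ) (hRθ : (R : Subgroup G) ≤ inertia N θ)
    {χ : G → ℂ} (hχ : IsIrrCharacter G χ) (ho : Over N.subtype χ θ) (hd : ¬ r ∣ charDegree χ)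
    (l : N →* ℂˣ) (hRl : (R : Subgroup G) ≤ inertia N (lf l))
    {ψ : G → ℂ} (hψ : IsIrrCharacter G ψ) (hψo : Over N.subtype ψ (fun n => (l n : ℂ) * θ n))
    (hψd : ¬ r ∣ charDegree ψ) :
    ∃ ν : (N ⊔ (R : Subgroup G) : Subgroup G) →* ℂˣ, ∀ n : N, ν (inclK N R n) = l n := by
  have hlθ := isIrr_mul_lf l hθ
  obtain ⟨ξ, hξ, hξθ⟩ := extends_of_invariant N R hθ hRθ hχ ho hd
  have hinv : (R : Subgroup G) ≤ inertia N (fun n => (l n : ℂ) * θ n) := fun g hg =>
    (mem_inertia_mul N (hRl hg)).2 (hRθ hg)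
  obtain ⟨ξ₂, hξ₂, hξ₂θ⟩ := extends_of_invariant N R hlθ hinv hψ hψo hψd
  have hKl : N ⊔ (R : Subgroup G) ≤ inertia N (lf l) :=
    sup_le (le_inertia (isIrr_isClassFunction (isIrr_lf l))) hRl
  exact lin_ext_of_two (inclK N (R : Subgroup G)) (inclK_injective N _)
      (inclK_range_normal N _) hξ hξ₂ hθ l (by
        intro k h h' e
        have h1 := (mem_inertia_lf N).1 (hKl k.2) h
        rw [← h1]
        have e' : h' = MulAut.conjNormal (k : G) h := by
          apply Subtype.ext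
          rw [MulAut.conjNormal_apply]
          exact congrArg Subtype.val e
        rw [e']) hξθ hξ₂θ

/-- If the degree of a character over the linear character `ϕ` of `N` is prime to `r`, then a power
of `ϕ` of `r`-power order extends to `N R` for some Sylow `r`-subgroup `R`. -/
theorem exists_extends_of_lin {r : ℕ} [hr : Fact r.Prime] {ϕ : N →* ℂˣ}
    {χ : G → ℂ} (hχ : IsIrrCharacter G χ) (ho : Over N.subtype χ (lf ϕ)) (hd : ¬ r ∣ charDegree χ) :
    ∃ (R : Sylow r G) (ν : (N ⊔ (R : Subgroup G) : Subgroup G) →* ℂˣ),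
      ∀ n : N, ν (inclK N R n) = ϕ n := by
  have h4 := index_mul_charDegree_dvd N hχ (isIrr_lf ϕ) ho
  have h5 : ¬ r ∣ (inertia N (lf ϕ)).index := fun h => hd ((dvd_mul_of_dvd_left h _).trans h4)
  obtain ⟨R, hR⟩ := exists_sylow_le (r := r) (inertia N (lf ϕ)) h5
  obtain ⟨ξ, hξ, he⟩ := extends_of_invariant N R (isIrr_lf ϕ) hR hχ ho hd
  have hξ1 : charDegree ξ = 1 := by
    rw [← charDegree_comp_one (inclK N (R : Subgroup G)), he, charDegree_lf]
  obtain ⟨ν, rfl⟩ := exists_hom_of_degree_one hξ hξ1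
  exact ⟨R, ν, fun n => Units.ext (congrFun he n)⟩

/-- a prime dividing the order of a linear character divides `|N : N'|` -/
theorem dvd_relIndex_of_pow {r : ℕ} (hr : r.Prime) {l : N →* ℂˣ} (hl1 : l ≠ 1)
    (hl : ∀ x, l x ^ r = 1) : r ∣ ⁅N, N⁆.relIndex N := by
  haveI : Fact r.Prime := ⟨hr⟩
  rw [← index_commutator_eq_relIndex]
  obtain ⟨x, hx⟩ : ∃ x, l x ≠ 1 := by
    by_contra hcon
    push Not at hcon
    exact hl1 (by ext y; simp [hcon y])
  have h1 : orderOf (l x) = r := orderOf_eq_prime (hl x) hx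
  have hle : commutator N ≤ l.ker := Abelianization.commutator_subset_ker l
  have h2 : l.ker.index ∣ (commutator N).index := Subgroup.index_dvd_of_le hle
  refine dvd_trans ?_ h2
  rw [Subgroup.index_ker]
  let y : l.range := ⟨l x, x, rfl⟩
  have h3 : orderOf y = r := by
    rw [← h1]
    exact (Subgroup.orderOf_coe y).symm
  rw [← h3]
  exact orderOf_dvd_natCard _

theorem rel_mono {M N : Subgroup G} (h : M ≤ N) {d : ℕ} (hd : d ∈ relCharDegrees M) :
    d ∈ relCharDegrees N := by
  obtain ⟨χ, ⟨x, hx, hne⟩, h2⟩ := hd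
  exact ⟨χ, ⟨x, h hx, hne⟩, h2⟩

theorem conn_mono {M N : Subgroup G} (h : M ≤ N) {a b : ℕ} (hab : Conn M a b) : Conn N a b := by
  obtain ⟨ha, hb, hr⟩ := hab
  refine ⟨rel_mono h ha, rel_mono h hb, ?_⟩
  let f : commonDivisorGraph.induce (relCharDegrees M) →g
      commonDivisorGraph.induce (relCharDegrees N) :=
    { toFun := fun x => ⟨x.1, rel_mono h x.2⟩
      map_rel' := by
        intro x y hxy
        rw [SimpleGraph.comap_adj] at hxy ⊢
        exact hxy }
  exact hr.map f

/-- A nontrivial constituent along a homomorphism: the character is not constant on the image. -/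
theorem exists_ne_of_over {H : Type v} [Group H] [Finite H] (f : H →* G) {χ : G → ℂ}
    {η : H → ℂ} (hη : IsIrrCharacter H η) (h : Over f χ η) (h1 : η ≠ 1) :
    ∃ x : H, χ (f x) ≠ χ 1 := by
  by_contra hcon
  push Not at hcon
  letI := Fintype.ofFinite H
  rw [over_iff] at h
  apply h
  have e : χ ∘ f = (χ 1) • (1 : H → ℂ) := by
    funext n
    simp only [Function.comp, Pi.smul_apply, Pi.one_apply, smul_eq_mul, mul_one]
    exact hcon n
  rw [e, classInner_smul_left, classInner_irr_ne isIrr_one hη (Ne.symm h1), mul_zero]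

/-- A character whose constituent on `N` is not linear does not have `N'` in its kernel. -/
theorem mem_rel_commutator_of_nonlinear {χ : G → ℂ} (hχ : IsIrrCharacter G χ) {θ : N → ℂ}
    (hθ : IsIrrCharacter N θ) (ho : Over N.subtype χ θ) (h1 : charDegree θ ≠ 1) :
    charDegree χ ∈ relCharDegrees ⁅N, N⁆ := by
  classical
  refine ⟨⟨χ, hχ⟩, ?_, rfl⟩
  -- the restriction of `θ` to the derived subgroup is not constant
  have hk : ∃ k ∈ commutator N, θ k ≠ θ 1 := by
    by_contra hcon
    push Not at hcon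
    apply h1
    apply charDegree_of_eq
    rw [Nat.cast_one]
    exact CharactersDeep.FeitLinear.apply_one_eq_one (commutator N)
      (fun x y => Subgroup.commutator_mem_commutator (Subgroup.mem_top x) (Subgroup.mem_top y))
      hθ hcon
  obtain ⟨η, hη, hoη⟩ := exists_under (f := (commutator N).subtype) hθ
  have hη1 := ne_one_of_over (commutator N) hθ hk hη hoη
  have h2 : Over (N.subtype.comp (commutator N).subtype) χ η :=
    (over_comp_iff _ _ (isIrr_isCharacter hχ) hη).2 ⟨θ, hθ, ho, hoη⟩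
  obtain ⟨x, hx⟩ := exists_ne_of_over _ hη h2 hη1
  refine ⟨_, ?_, hx⟩
  rw [← Subgroup.map_subtype_commutator]
  exact Subgroup.mem_map_of_mem _ x.2

end Cfsg.Agent.H673
end

-- part: H673/Disc
section
/-!
# The disconnected case: the two components of the relative degree graph

`N` solvable, normal in `G`, `N ≤ G'`, and the common-divisor graph on `cd(G|N)` disconnected:
one component is complete, the other one has diameter at most two.
-/

set_option autoImplicit false
set_option linter.style.haveILetI false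
set_option linter.unusedSectionVars false
open Cfsg

namespace Cfsg.Agent.H673

open Cfsg.Agent.H672
open Cfsg.Agent.Characters.Core Cfsg.Agent.Characters.Clifford
open scoped ComplexConjugate

universe u v w

variable {G : Type u} [Group G] [Finite G]

theorem commutator_lt_of_solvable {N : Subgroup G} (hs : Group.IsSolvable N) (h : N ≠ ⊥) :
    ⁅N, N⁆ < N := by
  haveI : Nontrivial N := (Subgroup.nontrivial_iff_ne_bot N).2 h
  have h1 : commutator N < ⊤ := Group.IsSolvable.commutator_lt_top_of_nontrivial (G := N)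
  have h2 := Subgroup.map_subtype_lt_map_subtype.2 h1
  rwa [Subgroup.map_subtype_commutator, ← MonoidHom.range_eq_map, Subgroup.range_subtype] at h2

theorem ne_bot_of_mem_rel {N : Subgroup G} {d : ℕ} (hd : d ∈ relCharDegrees N) : N ≠ ⊥ := by
  rintro rfl
  obtain ⟨χ, ⟨x, hx, hne⟩, -⟩ := hd
  rw [Subgroup.mem_bot] at hx
  exact hne (by rw [hx])

section
variable {N : Subgroup G} [hN : N.Normal]

/-- `x`, `y` in different components, `r ∣ x`, `r ∤ b`: then `x`, `b` are in different
components. -/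
theorem not_conn_side (hNG : N ≤ commutator G) {r : ℕ} [hr : Fact r.Prime]
    (hrm : r ∣ ⁅N, N⁆.relIndex N) {x y b : ℕ} (hx : x ∈ relCharDegrees N)
    (hy : y ∈ relCharDegrees N) (hxy : ¬ Conn N x y) (hb : b ∈ relCharDegrees N)
    (hrx : r ∣ x) (hrb : ¬ r ∣ b) : ¬ Conn N x b := by
  obtain ⟨h1, l, -, -, -, -, hc⟩ := xor_of_not_conn hNG hrm hx hy hxy
  have hry : ¬ r ∣ y := by
    rcases h1 with h | h
    · exact h.2
    · exact absurd hrx h.2
  intro hxb
  exact hxy ((hxb.trans (hc b hb hrb)).trans (hc y hy hry).symm)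

/-- In the disconnected case all the degrees outside the component of `x`, where `r ∣ x`, are
prime to `|N : N'|`. -/
theorem coprime_of_side (hN' : ⁅N, N⁆ < N) (hNG : N ≤ commutator G) {r : ℕ} (hr : r.Prime)
    (hrm : r ∣ ⁅N, N⁆.relIndex N) {x b : ℕ} (hx : x ∈ relCharDegrees N)
    (hb : b ∈ relCharDegrees N) (hxb : ¬ Conn N x b) (hrx : r ∣ x) :
    Nat.Coprime b (⁅N, N⁆.relIndex N) ∧ ∀ s : ℕ, s.Prime → s ∣ ⁅N, N⁆.relIndex N → s ∣ x := by
  rcases main_xor hN' hNG hx hb hxb with h | h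
  · exact absurd (Nat.eq_one_of_dvd_coprimes h.1 hrx hrm) hr.one_lt.ne'
  · exact h

/-- If `b` lies over a nontrivial linear character of `N` and is prime to `|N : N'|` then any
other degree prime to `|N : N'|` is within distance two. -/
theorem near_of_linear (hNG : N ≤ commutator G) {χ : G → ℂ} (hχ : IsIrrCharacter G χ)
    {ϕ : N →* ℂˣ} (hϕ : ϕ ≠ 1) (ho : Over N.subtype χ (lf ϕ))
    (hcop : Nat.Coprime (charDegree χ) (⁅N, N⁆.relIndex N)) {c : ℕ} (hc : c ∈ relCharDegrees N)
    (hcc : Nat.Coprime c (⁅N, N⁆.relIndex N)) :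
    ∃ d ∈ relCharDegrees N, ¬ Nat.Coprime (charDegree χ) d ∧ ¬ Nat.Coprime d c := by
  obtain ⟨r, j, hr, ⟨x, hx⟩, hj⟩ := exists_pow_prime ϕ hϕ
  haveI : Fact r.Prime := ⟨hr⟩
  have hl1 : ϕ ^ j ≠ 1 := fun h => hx (DFunLike.congr_fun h x)
  have hl : ∀ x, (ϕ ^ j) x ^ r = 1 := by
    intro x; rw [MonoidHom.pow_apply, ← pow_mul]; exact hj x
  have hrm := dvd_relIndex_of_pow hr hl1 hl
  have hrb : ¬ r ∣ charDegree χ := fun h => hr.one_lt.ne' (Nat.eq_one_of_dvd_coprimes hcop h hrm)
  have hrc : ¬ r ∣ c := fun h => hr.one_lt.ne' (Nat.eq_one_of_dvd_coprimes hcc h hrm)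
  obtain ⟨R, ν, hν⟩ := exists_extends_of_lin hχ ho hrb
  obtain ⟨d, hd, h1, h2⟩ := caseI' hNG R (k := 1) hl1 (by intro n; rw [pow_one]; exact hl n)
    (ν ^ j) (by intro n; rw [MonoidHom.pow_apply, MonoidHom.pow_apply, hν]) c hc hrc
  refine ⟨d, hd, ?_, fun h => h1 h.symm⟩
  intro h
  apply h2
  have h3 : (inertia N (lf (ϕ ^ j))).index ∣ charDegree χ :=
    (Subgroup.index_dvd_of_le (inertia_pow N ϕ j)).trans (index_dvd_of_over hχ (isIrr_lf _) ho)
  exact (h.coprime_dvd_left h3).symm

/-- The contradiction in the last case: `θ` nonlinear over a degree prime to `r`, `μ'` of order `r`,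
all degrees over `μ' θ` prime to `r` and to `|G : I(μ')|`. -/
theorem last_case (hNG : N ≤ commutator G) {r : ℕ} [hr : Fact r.Prime] {θ : N → ℂ}
    (hθ : IsIrrCharacter N θ) {χ : G → ℂ} (hχ : IsIrrCharacter G χ) (ho : Over N.subtype χ θ)
    (hrχ : ¬ r ∣ charDegree χ) {l : N →* ℂˣ} (hl1 : l ≠ 1) (hl : ∀ x, l x ^ r = 1)
    {ψ : G → ℂ} (hψ : IsIrrCharacter G ψ) (hψo : Over N.subtype ψ (fun n => (l n : ℂ) * θ n))
    (hrψ : ¬ r ∣ charDegree ψ)
    (h1 : Nat.Coprime (charDegree χ) (inertia N (lf l)).index)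
    (h2 : Nat.Coprime (charDegree ψ) (inertia N (lf l)).index) : False := by
  have hlθ := isIrr_mul_lf l hθ
  have hcl := index_mul_charDegree_dvd N hχ hθ ho
  have hS : (inertia N θ).index ∣ charDegree χ := (dvd_mul_right _ _).trans hcl
  have hθd : charDegree θ ∣ charDegree χ := (dvd_mul_left _ _).trans hcl
  have hψU := index_dvd_of_over hψ hlθ hψo
  have hl' : ∀ x, l x ^ r ^ 1 = 1 := by intro x; rw [pow_one]; exact hl x
  have htop : inertia N (lf l) = ⊤ := inertia_eq_top N hθ (fun h => hrχ (h.trans hθd))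
    (fun h => hrχ (h.trans hS)) l hl' (h1.coprime_dvd_left hS) (h2.coprime_dvd_left hψU)
  obtain ⟨R, hR⟩ := exists_sylow_le (r := r) (inertia N θ) (fun h => hrχ (h.trans hS))
  obtain ⟨ν, hν⟩ := extends_of_two R hθ hR hχ ho hrχ l (by rw [htop]; exact le_top) hψ hψo hrψ
  exact inertia_ne_top hNG R hl1 hl' ν hν htop

end

/-- **The disconnected case.** -/
theorem disc_aux (n : ℕ) : ∀ (N : Subgroup G) [N.Normal], Nat.card N = n → Group.IsSolvable N →
    N ≤ commutator G → ∀ {x y : ℕ}, x ∈ relCharDegrees N → y ∈ relCharDegrees N → ¬ Conn N x y →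
    ∀ {r : ℕ}, r.Prime → r ∣ ⁅N, N⁆.relIndex N → r ∣ x →
    ∀ b ∈ relCharDegrees N, ∀ c ∈ relCharDegrees N, ¬ r ∣ b → ¬ r ∣ c →
      ∃ d ∈ relCharDegrees N, ¬ Nat.Coprime b d ∧ ¬ Nat.Coprime d c := by
  induction n using Nat.strong_induction_on with
  | _ n ih =>
  intro N _ hcard hs hNG x y hx hy hxy r hr hrm hrx b hb c hc hrb hrc
  haveI : Fact r.Prime := ⟨hr⟩
  have hN' : ⁅N, N⁆ < N := commutator_lt_of_solvable hs (ne_bot_of_mem_rel hx)
  have hxb := not_conn_side hNG hrm hx hy hxy hb hrx hrb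
  have hxc := not_conn_side hNG hrm hx hy hxy hc hrx hrc
  have hbm := (coprime_of_side hN' hNG hr hrm hx hb hxb hrx).1
  have hcm := (coprime_of_side hN' hNG hr hrm hx hc hxc hrx).1
  have hxall := (coprime_of_side hN' hNG hr hrm hx hb hxb hrx).2
  obtain ⟨⟨χb, hχb⟩, hkb, hdb⟩ := id hb
  dsimp only at hkb hdb
  subst hdb
  obtain ⟨⟨χc, hχc⟩, hkc, hdc⟩ := id hc
  dsimp only at hkc hdc
  subst hdc
  obtain ⟨θb, hθb, hob⟩ := exists_under (f := N.subtype) hχb
  obtain ⟨θc, hθc, hoc⟩ := exists_under (f := N.subtype) hχc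
  have hθb1 := ne_one_of_over N hχb hkb hθb hob
  have hθc1 := ne_one_of_over N hχc hkc hθc hoc
  by_cases h1 : charDegree θb = 1
  · obtain ⟨ϕ, rfl⟩ := exists_hom_of_degree_one hθb h1
    have hϕ : ϕ ≠ 1 := by rintro rfl; exact hθb1 lf_one
    exact near_of_linear hNG hχb hϕ hob hbm hc hcm
  by_cases h2 : charDegree θc = 1
  · obtain ⟨ϕ, rfl⟩ := exists_hom_of_degree_one hθc h2
    have hϕ : ϕ ≠ 1 := by rintro rfl; exact hθc1 lf_one
    obtain ⟨d, hd, h3, h4⟩ := near_of_linear hNG hχc hϕ hoc hcm hb hbm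
    exact ⟨d, hd, fun h => h4 h.symm, fun h => h3 h.symm⟩
  have hb' := mem_rel_commutator_of_nonlinear hχb hθb hob h1
  have hc' := mem_rel_commutator_of_nonlinear hχc hθc hoc h2
  have hmono : ∀ {d : ℕ}, d ∈ relCharDegrees ⁅N, N⁆ → d ∈ relCharDegrees N :=
    fun hd => rel_mono hN'.le hd
  have hNG' : ⁅N, N⁆ ≤ commutator G := hN'.le.trans hNG
  have hs' : Group.IsSolvable (⁅N, N⁆ : Subgroup G) := by
    haveI := hs
    exact Group.isSolvable_of_isSolvable_injective (f := Subgroup.inclusion hN'.le)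
      (Subgroup.inclusion_injective _)
  have hN'' : ⁅⁅N, N⁆, ⁅N, N⁆⁆ < ⁅N, N⁆ := commutator_lt_of_solvable hs' (ne_bot_of_mem_rel hb')
  by_cases h3 : ∃ x' ∈ relCharDegrees ⁅N, N⁆, r ∣ x'
  · -- the graph of `N'` is disconnected as well
    obtain ⟨x', hx', hrx'⟩ := h3
    have hx'b : ¬ Conn ⁅N, N⁆ x' (charDegree χb) := fun h =>
      not_conn_side hNG hrm hx hy hxy hb hrx hrb ((Conn.of_dvd hx (hmono hx') hr.one_lt hrx hrx').trans
        (conn_mono hN'.le h))
    have hx'c : ¬ Conn ⁅N, N⁆ x' (charDegree χc) := fun h =>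
      not_conn_side hNG hrm hx hy hxy hc hrx hrc ((Conn.of_dvd hx (hmono hx') hr.one_lt hrx hrx').trans
        (conn_mono hN'.le h))
    have hm1 : ⁅⁅N, N⁆, ⁅N, N⁆⁆.relIndex ⁅N, N⁆ ≠ 1 :=
      fun h => hN''.not_ge (Subgroup.relIndex_eq_one.1 h)
    obtain ⟨q, hq, hqm⟩ := Nat.exists_prime_and_dvd hm1
    rcases main_xor hN'' hNG' hx' hb' hx'b with h4 | h4
    · have hqb := h4.2 q hq hqm
      rcases main_xor hN'' hNG' hx' hc' hx'c with h5 | h5
      · have hqc := h5.2 q hq hqm
        refine ⟨charDegree χb, hb, not_coprime_self (one_lt_of_mem_rel hNG hb), fun h => ?_⟩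
        exact hq.one_lt.ne' (Nat.eq_one_of_dvd_coprimes h hqb hqc)
      · exact absurd (Nat.eq_one_of_dvd_coprimes h4.1 (h5.2 q hq hqm) hqm) hq.one_lt.ne'
    · have hqx' := h4.2 q hq hqm
      have hqb : ¬ q ∣ charDegree χb := fun h =>
        hq.one_lt.ne' (Nat.eq_one_of_dvd_coprimes h4.1 h hqm)
      have hqc : ¬ q ∣ charDegree χc := by
        intro h
        rcases main_xor hN'' hNG' hx' hc' hx'c with h5 | h5
        · exact hq.one_lt.ne' (Nat.eq_one_of_dvd_coprimes h5.1 hqx' hqm)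
        · exact hq.one_lt.ne' (Nat.eq_one_of_dvd_coprimes h5.1 h hqm)
      have hlt : Nat.card (⁅N, N⁆ : Subgroup G) < n := by
        rw [← hcard]
        exact Set.Finite.card_lt_card (Set.toFinite _) hN'
      obtain ⟨d, hd, h5, h6⟩ := ih _ hlt ⁅N, N⁆ rfl hs' hNG' hx' hb' hx'b hq hqm hqx' _ hb' _ hc'
        hqb hqc
      exact ⟨d, hmono hd, h5, h6⟩
  · -- otherwise `x` lies over a linear character
    exfalso
    push Not at h3
    obtain ⟨⟨χx, hχx⟩, hkx, hdx⟩ := id hx
    dsimp only at hkx hdx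
    subst hdx
    obtain ⟨θx, hθx, hox⟩ := exists_under (f := N.subtype) hχx
    have hθx1 := ne_one_of_over N hχx hkx hθx hox
    have h4 : charDegree θx = 1 := by
      by_contra h
      exact h3 _ (mem_rel_commutator_of_nonlinear hχx hθx hox h) hrx
    obtain ⟨μ, rfl⟩ := exists_hom_of_degree_one hθx h4
    have hμ : μ ≠ 1 := by rintro rfl; exact hθx1 lf_one
    obtain ⟨s, j, hs, ⟨z, hz⟩, hj⟩ := exists_pow_prime μ hμ
    haveI : Fact s.Prime := ⟨hs⟩
    have hl1 : μ ^ j ≠ 1 := fun h => hz (DFunLike.congr_fun h z)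
    have hl : ∀ x, (μ ^ j) x ^ s = 1 := by
      intro x; rw [MonoidHom.pow_apply, ← pow_mul]; exact hj x
    have hsm := dvd_relIndex_of_pow hs hl1 hl
    have hix : (inertia N (lf (μ ^ j))).index ∣ charDegree χx :=
      (Subgroup.index_dvd_of_le (inertia_pow N μ j)).trans (index_dvd_of_over hχx (isIrr_lf _) hox)
    have hlθ := isIrr_mul_lf (μ ^ j) hθb
    obtain ⟨ψ, hψ, hψo⟩ := exists_over N _ hlθ
    have hψm : charDegree ψ ∈ relCharDegrees N := by
      refine mem_relCharDegrees_of_over N hψ hlθ hψo ?_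
      apply one_ne_of_charDegree
      rwa [charDegree_mul_lf]
    have hψb : Conn N (charDegree ψ) (charDegree χb) := by
      refine Conn.of_dvd hψm hb (r := charDegree θb) ?_ ?_ ?_
      · have := charDegree_pos hθb; omega
      · have h1 := index_mul_charDegree_dvd N hψ hlθ hψo
        rw [charDegree_mul_lf] at h1
        exact (dvd_mul_left _ _).trans h1
      · exact (dvd_mul_left _ _).trans (index_mul_charDegree_dvd N hχb hθb hob)
    have hxψ : ¬ Conn N (charDegree χx) (charDegree ψ) := fun h => hxb (h.trans hψb)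
    have hψcop := (coprime_of_side hN' hNG hr hrm hx hψm hxψ hrx).1
    have hcop1 : Nat.Coprime (charDegree χb) (inertia N (lf (μ ^ j))).index := by
      by_contra h
      exact hxb (Conn.of_not_coprime hb hx (fun h' => h (h'.coprime_dvd_right hix))).symm
    have hcop2 : Nat.Coprime (charDegree ψ) (inertia N (lf (μ ^ j))).index := by
      by_contra h
      exact hxψ (Conn.of_not_coprime hψm hx (fun h' => h (h'.coprime_dvd_right hix))).symm
    exact last_case hNG hθb hχb hob
      (fun h => hs.one_lt.ne' (Nat.eq_one_of_dvd_coprimes hbm h hsm)) hl1 hl hψ hψo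
      (fun h => hs.one_lt.ne' (Nat.eq_one_of_dvd_coprimes hψcop h hsm)) hcop1 hcop2

end Cfsg.Agent.H673
end
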