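import Mathlib
import Cfsg.Agent.S0543
import Cfsg.Agent.H672.Main
import Cfsg.Agent.H670.PSing
import Cfsg.Agent.H673.Disc
import Cfsg.Agent.CharDeep.PowerDegrees
import Cfsg.Agent.H681.DegBasic
import Cfsg.Agent.S0169
import Cfsg.Agent.Characters.CCBasic
import Cfsg.Agent.H597.FrobC
import Cfsg.Agent.FastGrp
import Cfsg.Agent.Prune
set_option linter.all false

section
prune_inst 0x7f00000000000000000000000000000000000000000000000000000000000000000000000000000000000000000000000000000000000000000000000000000000000000000000000000000000000000003fffffffffffffffffffffffffffbeffbdfbfeffff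

-- part: H673/DiscAb
section
prune_inst 0x4010000
set_option linter.all false
open scoped Cfsg.Agent.FastGrp

-- part: H673/Orb
section
/-!
# Orbits on an abelian group and coprime orbit lengths
-/

set_option autoImplicit false
set_option linter.unusedSectionVars false
set_option linter.style.haveILetI false

namespace Cfsg.Agent.H673.Orb

open MulAction

universe u v

section basic

variable {G : Type u} [Group G] [Finite G] {V : Type v} [CommGroup V] [MulDistribMulAction G V]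

theorem exists_smul_pair {a b : V}
    (h : Nat.Coprime (stabilizer G a).index (stabilizer G b).index) (g k : G) :
    ∃ x : G, x • a = g • a ∧ x • b = k • b := by
  obtain ⟨s, hs, t, ht, hst⟩ := S0543.exists_mul_eq_of_coprime_index _ _ h (g⁻¹ * k)
  refine ⟨g * s, ?_, ?_⟩
  · rw [mul_smul, mem_stabilizer_iff.1 hs]
  · have h1 : g * s = k * t⁻¹ := by
      rw [eq_mul_inv_iff_mul_eq, mul_assoc, ← hst, mul_inv_cancel_left]
    rw [h1, mul_smul, mem_stabilizer_iff.1 ((stabilizer G b).inv_mem ht)]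

theorem index_inf_of_coprime (A B : Subgroup G) (h : Nat.Coprime A.index B.index) :
    (A ⊓ B).index = A.index * B.index := by
  refine le_antisymm (Subgroup.index_inf_le) (Nat.le_of_dvd (Nat.pos_of_ne_zero
    Subgroup.index_ne_zero_of_finite) ?_)
  exact h.mul_dvd_of_dvd_of_dvd (Subgroup.index_dvd_of_le inf_le_left)
    (Subgroup.index_dvd_of_le inf_le_right)

/-- If the orbit lengths of `a` and `b`, and of `a * b` and `b`, are coprime then the orbit of `a`
is stable under multiplication by `(g • b) * b⁻¹`. -/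
theorem shift {a b : V}
    (h1 : Nat.Coprime (stabilizer G a).index (stabilizer G b).index)
    (h2 : Nat.Coprime (stabilizer G (a * b)).index (stabilizer G b).index) (g k : G) :
    ∃ y : G, y • a = (k • a) * ((g • b) * b⁻¹) := by
  have hinf : stabilizer G a ⊓ stabilizer G b = stabilizer G (a * b) ⊓ stabilizer G b := by
    ext x
    simp only [Subgroup.mem_inf, mem_stabilizer_iff, smul_mul']
    constructor
    · rintro ⟨h3, h4⟩
      rw [h3, h4]
      exact ⟨rfl, rfl⟩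
    · rintro ⟨h3, h4⟩
      rw [h4] at h3
      exact ⟨mul_right_cancel h3, h4⟩
  have hcard : (stabilizer G a).index = (stabilizer G (a * b)).index := by
    have h3 := index_inf_of_coprime _ _ h1
    have h4 := index_inf_of_coprime _ _ h2
    rw [hinf, h4] at h3
    exact (Nat.eq_of_mul_eq_mul_right (Nat.pos_of_ne_zero Subgroup.index_ne_zero_of_finite) h3).symm
  have hsub : (fun x : V => x * b) '' (orbit G a) ⊆ orbit G (a * b) := by
    rintro _ ⟨_, ⟨x, rfl⟩, rfl⟩
    obtain ⟨y, hy1, hy2⟩ := exists_smul_pair h1 x 1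
    refine ⟨y, ?_⟩
    show y • (a * b) = x • a * b
    rw [smul_mul', hy1, hy2, one_smul]
  have hfin : (orbit G (a * b)).Finite := Set.finite_range _
  have heq : (fun x : V => x * b) '' (orbit G a) = orbit G (a * b) := by
    refine Set.eq_of_subset_of_ncard_le hsub ?_ hfin
    rw [Set.ncard_image_of_injective _ (mul_left_injective b), ← index_stabilizer,
      ← index_stabilizer, hcard]
  obtain ⟨x, hx1, hx2⟩ := exists_smul_pair h1 k g
  have h3 : (k • a) * (g • b) ∈ (fun x : V => x * b) '' (orbit G a) := by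
    rw [heq]
    exact ⟨x, by show x • (a * b) = _; rw [smul_mul', hx1, hx2]⟩
  obtain ⟨_, ⟨y, rfl⟩, hy⟩ := h3
  refine ⟨y, ?_⟩
  dsimp only at hy
  rw [← mul_assoc, ← hy, mul_inv_cancel_right]

theorem pow_eq_one_of_stable (O : Finset V) {x : V} (h : ∀ a ∈ O, a * x ∈ O) :
    x ^ O.card = 1 := by
  classical
  have himg : O.image (fun a => a * x) = O := by
    refine Finset.eq_of_subset_of_card_le ?_ ?_
    · intro y hy
      obtain ⟨a, ha, rfl⟩ := Finset.mem_image.1 hy
      exact h a ha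
    · rw [Finset.card_image_of_injective _ (mul_left_injective x)]
  have h1 : ∏ a ∈ O, (a * x) = ∏ a ∈ O, a := by
    conv_rhs => rw [← himg]
    rw [Finset.prod_image (fun a _ b _ hab => mul_left_injective x hab)]
  rw [Finset.prod_mul_distrib, Finset.prod_const] at h1
  exact mul_eq_left.1 h1

/-- version for orbits -/
theorem pow_eq_one_of_orbit {a x : V} (h : ∀ k : G, ∃ y : G, y • a = (k • a) * x) :
    x ^ (stabilizer G a).index = 1 := by
  classical
  have hfin : (orbit G a).Finite := Set.finite_range _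
  have h1 := pow_eq_one_of_stable hfin.toFinset (x := x) (by
    intro b hb
    rw [Set.Finite.mem_toFinset] at hb ⊢
    obtain ⟨k, rfl⟩ := hb
    obtain ⟨y, hy⟩ := h k
    exact ⟨y, hy⟩)
  rwa [index_stabilizer, Set.ncard_eq_toFinset_card _ hfin]

theorem eq_one_of_coprime_pow {a : V} {m n : ℕ} (h : Nat.Coprime m n) (h1 : a ^ m = 1)
    (h2 : a ^ n = 1) : a = 1 := by
  have := pow_gcd_eq_one.2 ⟨h1, h2⟩
  rwa [Nat.Coprime.gcd_eq_one h, pow_one] at this

end basic

section str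

variable {p : ℕ} {G : Type u} [Group G] {V : Type v} [CommGroup V] [MulDistribMulAction G V]

/-- The set of elements lying in one of the subgroups `E R`. -/
def WS (E : Sylow p G → Subgroup V) : Set V := {a | ∃ R, a ∈ E R}

/-- The action of `G` on the dual of an abelian normal `p`-subgroup with disconnected relative
degree graph. -/
structure Hyp (E : Sylow p G → Subgroup V) : Prop where
  pV : ∃ k : ℕ, ∀ a : V, a ^ (p ^ k) = 1
  conj : ∀ (g : G) (R : Sylow p G) (a : V), a ∈ E R → g • a ∈ E (g • R)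
  ne_top : ∀ (R : Sylow p G) (a : V), a ∈ E R → a ≠ 1 → stabilizer G a ≠ ⊤
  le : ∀ (R : Sylow p G) (a : V), a ∈ E R → (R : Subgroup G) ≤ stabilizer G a
  inv : ∀ (R : Sylow p G) (a : V), a ∈ WS E → (R : Subgroup G) ≤ stabilizer G a → a ∈ E R
  cop : ∀ a b : V, a ∈ WS E → a ≠ 1 → b ∉ WS E →
    Nat.Coprime (stabilizer G a).index (stabilizer G b).index

variable {E : Sylow p G → Subgroup V} [Finite G] [hp : Fact p.Prime]

namespace Hyp

theorem not_dvd (h : Hyp E) {a : V} (ha : a ∈ WS E) : ¬ p ∣ (stabilizer G a).index := by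
  obtain ⟨R, hR⟩ := ha
  exact fun h1 => R.not_dvd_index (h1.trans (Subgroup.index_dvd_of_le (h.le R a hR)))

theorem one_mem (E : Sylow p G → Subgroup V) : (1 : V) ∈ WS E := by
  obtain ⟨R⟩ : Nonempty (Sylow p G) := inferInstance
  exact ⟨R, (E R).one_mem⟩

theorem inv_mem (E : Sylow p G → Subgroup V) {a : V} (ha : a ∈ WS E) : a⁻¹ ∈ WS E := by
  obtain ⟨R, hR⟩ := ha
  exact ⟨R, (E R).inv_mem hR⟩

theorem smul_mem (h : Hyp E) {a : V} (g : G) (ha : a ∈ WS E) : g • a ∈ WS E := by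
  obtain ⟨R, hR⟩ := ha
  exact ⟨_, h.conj g R a hR⟩

theorem eq_one (h : Hyp E) {a : V} {m : ℕ} (hm : ¬ p ∣ m) (ha : a ^ m = 1) : a = 1 := by
  obtain ⟨k, hk⟩ := h.pV
  exact eq_one_of_coprime_pow
    (Nat.Coprime.pow_right k ((Nat.Prime.coprime_iff_not_dvd hp.out).2 hm).symm) ha (hk a)

/-- the product of an element of `W` and an element outside `W` is outside `W` -/
theorem mul_notMem (h : Hyp E) {a b : V} (ha : a ∈ WS E) (hb : b ∉ WS E) : a * b ∉ WS E := by
  intro hab
  by_cases ha1 : a = 1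
  · rw [ha1, one_mul] at hab; exact hb hab
  have hab1 : a * b ≠ 1 := by
    intro h1
    rw [mul_eq_one_iff_eq_inv'] at h1
    exact hb (h1 ▸ inv_mem E ha)
  have h1 := h.cop a b ha ha1 hb
  have h2 := h.cop (a * b) b hab hab1 hb
  have hfix : ∀ g : G, g • b = b := by
    intro g
    have h3 := pow_eq_one_of_orbit (G := G) (a := a) (x := (g • b) * b⁻¹) (fun k => shift h1 h2 g k)
    have h4 := h.eq_one (h.not_dvd ha) h3
    exact mul_inv_eq_one.1 h4
  obtain ⟨R, hR⟩ := ha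
  have hRs : (R : Subgroup G) ≤ stabilizer G (a * b) := by
    intro x hx
    rw [mem_stabilizer_iff, smul_mul', hfix x, mem_stabilizer_iff.1 (h.le R a hR hx)]
  have h5 := h.inv R _ hab hRs
  have h6 : b ∈ E R := by
    have := (E R).mul_mem ((E R).inv_mem hR) h5
    rwa [inv_mul_cancel_left] at this
  exact hb ⟨R, h6⟩

theorem mul_mem (h : Hyp E) {a b : V} (ha : a ∈ WS E) (hb : b ∈ WS E) : a * b ∈ WS E := by
  by_contra hab
  apply h.mul_notMem (inv_mem E ha) hab
  rwa [inv_mul_cancel_left]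

/-- `W` as a subgroup -/
def W (h : Hyp E) : Subgroup V where
  carrier := WS E
  one_mem' := one_mem E
  mul_mem' := h.mul_mem
  inv_mem' := inv_mem E

theorem mem_W (h : Hyp E) {a : V} : a ∈ h.W ↔ a ∈ WS E := Iff.rfl

/-- Orbits of elements outside `W` are stable under multiplication by `W`. -/
theorem exists_smul_eq (h : Hyp E) {a b : V} (ha : a ∈ WS E) (hb : b ∉ WS E) :
    ∀ k : G, ∃ y : G, y • b = (k • b) * a := by
  classical
  by_cases ha1 : a = 1
  · intro k
    exact ⟨k, by rw [ha1, mul_one]⟩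
  have h1 := h.cop a b ha ha1 hb
  have h2 := h.cop a (b * a) ha ha1 (by rw [mul_comm]; exact h.mul_notMem ha hb)
  have hsh := fun g k => shift (G := G) h1.symm h2.symm g k
  have hfin : (orbit G a).Finite := Set.finite_range _
  set O : Finset V := hfin.toFinset with hO
  have hOmem : ∀ {x : V}, x ∈ O ↔ x ∈ orbit G a := by intro x; rw [hO, Set.Finite.mem_toFinset]
  have hOc : O.card = (stabilizer G a).index := by
    rw [index_stabilizer, Set.ncard_eq_toFinset_card _ hfin]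
  -- the stable elements
  let H : Submonoid V :=
    { carrier := {x | ∀ k : G, ∃ y : G, y • b = (k • b) * x}
      one_mem' := fun k => ⟨k, by rw [mul_one]⟩
      mul_mem' := by
        intro x y hx hy k
        obtain ⟨k1, hk1⟩ := hx k
        obtain ⟨k2, hk2⟩ := hy k1
        exact ⟨k2, by rw [hk2, hk1, mul_assoc]⟩ }
  -- the product of the orbit
  have hprod : ∏ x ∈ O, x = 1 := by
    by_contra hne
    have hW : ∏ x ∈ O, x ∈ h.W := Subgroup.prod_mem _ (by
      intro x hx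
      obtain ⟨g, rfl⟩ := hOmem.1 hx
      exact h.smul_mem g ha)
    obtain ⟨R, hR⟩ := hW
    apply h.ne_top R _ hR hne
    rw [eq_top_iff]
    intro g _
    rw [mem_stabilizer_iff, Finset.smul_prod']
    have himg : O.image (fun x => g • x) = O := by
      refine Finset.eq_of_subset_of_card_le ?_ ?_
      · intro y hy
        obtain ⟨x, hx, rfl⟩ := Finset.mem_image.1 hy
        obtain ⟨k, rfl⟩ := hOmem.1 hx
        exact hOmem.2 ⟨g * k, mul_smul g k a⟩
      · rw [Finset.card_image_of_injective _ (MulAction.injective g)]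
    conv_rhs => rw [← himg]
    rw [Finset.prod_image (fun x _ y _ hxy => MulAction.injective g hxy)]
  have h3 : ∏ x ∈ O, (x * a⁻¹) ∈ H := Submonoid.prod_mem _ (by
    intro x hx
    obtain ⟨g, rfl⟩ := hOmem.1 hx
    exact fun k => hsh g k)
  rw [Finset.prod_mul_distrib, hprod, one_mul, Finset.prod_const, hOc] at h3
  -- `a⁻¹` is a power of this element
  have hm := h.not_dvd ha
  set m := (stabilizer G a).index with hmdef
  obtain ⟨k, hk⟩ := h.pV
  have hcop : Nat.Coprime m (p ^ k) :=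
    Nat.Coprime.pow_right k ((Nat.Prime.coprime_iff_not_dvd hp.out).2 hm).symm
  obtain ⟨j, hj⟩ : ∃ j : ℕ, m * j ≡ 1 [MOD p ^ k] := by
    by_cases hk1 : 1 < p ^ k
    · obtain ⟨j, hj⟩ := Nat.exists_mul_mod_eq_one_of_coprime hcop hk1
      exact ⟨j, by rw [Nat.ModEq, hj.2, Nat.mod_eq_of_lt hk1]⟩
    · have : p ^ k = 1 := le_antisymm (not_lt.1 hk1) (Nat.one_le_pow _ _ hp.out.pos)
      exact ⟨0, by rw [this]; exact Nat.modEq_one⟩
  have h4 : a⁻¹ ∈ H := by
    have h5 := H.pow_mem h3 j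
    rw [← pow_mul] at h5
    have h6 : a⁻¹ ^ (m * j) = a⁻¹ ^ 1 :=
      pow_eq_pow_iff_modEq.2 (hj.of_dvd (orderOf_dvd_of_pow_eq_one (hk a⁻¹)))
    rwa [h6, pow_one] at h5
  have h7 : a ∈ H := by
    have h5 := H.pow_mem h4 (p ^ k - 1)
    have h6 : a⁻¹ ^ (p ^ k - 1) = a := by
      have h8 : a⁻¹ ^ (p ^ k - 1) * a⁻¹ = 1 := by
        rw [← pow_succ, Nat.sub_add_cancel (Nat.one_le_pow _ _ hp.out.pos), hk]
      rw [mul_inv_eq_one] at h8
      exact h8
    rwa [h6] at h5
  exact h7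

/-- A `p`-subgroup normalising a Sylow subgroup is contained in it. -/
theorem _root_.Cfsg.Agent.H673.Orb.le_sylow_of_normalizes {Q : Subgroup G} (hQ : IsPGroup p Q)
    (R : Sylow p G) (hn : ∀ t ∈ Q, ∀ x ∈ (R : Subgroup G), t * x * t⁻¹ ∈ (R : Subgroup G)) :
    Q ≤ (R : Subgroup G) := by
  have h1 := hQ.inf_normalizer_sylow R
  have h2 : Q ≤ Subgroup.normalizer (R : Set G) := by
    intro t ht
    exact Subgroup.mem_normalizer_fintype (fun x hx => hn t ht x hx)
  intro t ht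
  have h3 : t ∈ Q ⊓ Subgroup.normalizer (R : Set G) := ⟨ht, h2 ht⟩
  rw [h1] at h3
  exact h3.2

theorem exists_fixed_coset [Finite V] (h : Hyp E) (hW : ∃ b : V, b ∉ WS E) (P : Sylow p G) :
    ∃ b : V, b ∉ WS E ∧ ∀ x ∈ (P : Subgroup G), b⁻¹ * (x • b) ∈ WS E := by
  haveI : MulAction.QuotientAction (P : Subgroup G) h.W := ⟨by
    intro x a a' ha
    show _ ∈ WS E
    have h1 : (x • a)⁻¹ * (x • a') = (x : G) • (a⁻¹ * a') := by
      rw [smul_mul', smul_inv']; rfl
    rw [h1]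
    exact h.smul_mem _ ha⟩
  obtain ⟨k, hk⟩ := h.pV
  have hVp : IsPGroup p V := fun a => ⟨k, hk a⟩
  have hcard : p ∣ Nat.card (V ⧸ h.W) := by
    have h1 := hVp.to_quotient h.W
    obtain ⟨n, hn⟩ := IsPGroup.iff_card.1 h1
    rcases Nat.eq_zero_or_pos n with h0 | h0
    · exfalso
      rw [h0, pow_zero] at hn
      obtain ⟨b, hb⟩ := hW
      apply hb
      have h2 : h.W.index = 1 := hn
      rw [Subgroup.index_eq_one] at h2
      rw [← h.mem_W, h2]
      trivial
    · rw [hn]; exact dvd_pow_self p h0.ne'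
  have hfix : ((1 : V) : V ⧸ h.W) ∈ fixedPoints (P : Subgroup G) (V ⧸ h.W) := by
    intro x
    show (((x : G) • (1 : V) : V) : V ⧸ h.W) = _
    rw [smul_one]
  obtain ⟨c, hc, hne⟩ :=
    P.isPGroup'.exists_fixed_point_of_prime_dvd_card_of_fixed_point _ hcard hfix
  obtain ⟨b, rfl⟩ := QuotientGroup.mk_surjective c
  refine ⟨b, ?_, ?_⟩
  · intro hb
    apply hne
    rw [QuotientGroup.eq, inv_one, one_mul]
    exact hb
  · intro x hx
    have h2 := hc ⟨x, hx⟩
    have h3 : ((x • b : V) : V ⧸ h.W) = (b : V ⧸ h.W) := h2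
    exact QuotientGroup.eq.1 h3.symm

theorem exists_smul_P [Finite V] (h : Hyp E) (P : Sylow p G) {b : V} (hb : b ∉ WS E)
    (hcos : ∀ x ∈ (P : Subgroup G), b⁻¹ * (x • b) ∈ WS E) {w : V} (hw : w ∈ WS E) :
    ∃ x ∈ (P : Subgroup G), x • b = b * w := by
  classical
  let S : Subgroup G :=
    { carrier := {g | b⁻¹ * (g • b) ∈ WS E}
      one_mem' := by
        show b⁻¹ * ((1 : G) • b) ∈ WS E
        rw [one_smul, inv_mul_cancel]; exact one_mem E
      mul_mem' := by
        intro x y hx hy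
        have hx' : b⁻¹ * (x • b) ∈ WS E := hx
        have hy' : b⁻¹ * (y • b) ∈ WS E := hy
        show b⁻¹ * ((x * y) • b) ∈ WS E
        have h1 : b⁻¹ * ((x * y) • b) = (b⁻¹ * (x • b)) * (x • (b⁻¹ * (y • b))) := by
          rw [smul_mul', smul_inv', mul_smul]
          group
        rw [h1]
        exact h.mul_mem hx' (h.smul_mem x hy')
      inv_mem' := by
        intro x hx
        have hx' : b⁻¹ * (x • b) ∈ WS E := hx
        show b⁻¹ * (x⁻¹ • b) ∈ WS E
        have h1 : b⁻¹ * (x⁻¹ • b) = (x⁻¹ • (b⁻¹ * (x • b)))⁻¹ := by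
          rw [smul_mul', smul_inv', inv_smul_smul, mul_inv_rev, inv_inv]
        rw [h1]
        exact inv_mem E (h.smul_mem _ hx') }
  have hS : ∀ g : G, g ∈ S ↔ b⁻¹ * (g • b) ∈ WS E := fun g => Iff.rfl
  have hPS : (P : Subgroup G) ≤ S := hcos
  have hA : ¬ p ∣ ((P : Subgroup G).subgroupOf S).index := by
    have h1 : ((P : Subgroup G).subgroupOf S).index = (P : Subgroup G).relIndex S := rfl
    rw [h1]
    exact fun h2 => P.not_dvd_index (h2.trans (Subgroup.relIndex_dvd_index_of_le hPS))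
  have horb : orbit S b = (fun x : V => b * x) '' (WS E) := by
    ext v
    constructor
    · rintro ⟨g, rfl⟩
      refine ⟨b⁻¹ * ((g : G) • b), g.2, ?_⟩
      show b * (b⁻¹ * ((g : G) • b)) = (g : G) • b
      rw [mul_inv_cancel_left]
    · rintro ⟨w, hw, rfl⟩
      obtain ⟨y, hy⟩ := h.exists_smul_eq hw hb 1
      rw [one_smul] at hy
      refine ⟨⟨y, ?_⟩, hy⟩
      rw [hS, hy, inv_mul_cancel_left]
      exact hw
  obtain ⟨k, hk⟩ := h.pV
  have hWp : IsPGroup p h.W := fun a => ⟨k, Subtype.ext (hk a)⟩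
  obtain ⟨n, hn⟩ := IsPGroup.iff_card.1 hWp
  have hB : (stabilizer S b).index = p ^ n := by
    rw [index_stabilizer, horb, Set.ncard_image_of_injective _ (mul_right_injective b), ← hn]
    rfl
  have hcop : Nat.Coprime ((P : Subgroup G).subgroupOf S).index (stabilizer S b).index := by
    rw [hB]
    exact Nat.Coprime.pow_right n ((Nat.Prime.coprime_iff_not_dvd hp.out).2 hA).symm
  obtain ⟨y, hy⟩ := h.exists_smul_eq hw hb 1
  rw [one_smul] at hy
  have hyS : y ∈ S := by
    rw [hS, hy, inv_mul_cancel_left]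
    exact hw
  obtain ⟨a, ha, c, hc, hac⟩ := S0543.exists_mul_eq_of_coprime_index _ _ hcop ⟨y, hyS⟩
  refine ⟨a, ha, ?_⟩
  rw [← hy]
  have h1 : y = (a : G) * (c : G) := congrArg Subtype.val hac
  have h2 : (c : G) • b = b := hc
  rw [h1, mul_smul, h2]

/-- an element fixed by a Sylow subgroup lies in `W` -/
theorem fixed_mem (h : Hyp E) (P : Sylow p G) (hW1 : ∃ a ∈ WS E, a ≠ 1) {b : V}
    (hb : ∀ x ∈ (P : Subgroup G), x • b = b) : b ∈ WS E := by
  by_contra hbW
  obtain ⟨a, ha, ha1⟩ := hW1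
  have h1 := pow_eq_one_of_orbit (h.exists_smul_eq ha hbW)
  refine ha1 (h.eq_one ?_ h1)
  have h2 : (P : Subgroup G) ≤ stabilizer G b := hb
  exact fun h3 => P.not_dvd_index (h3.trans (Subgroup.index_dvd_of_le h2))

/-- **Normality of the Sylow subgroup.** -/
theorem sylow_normal [Finite V] (h : Hyp E) (hW : ∃ b : V, b ∉ WS E) (hW1 : ∃ a ∈ WS E, a ≠ 1)
    (huniq : ∀ (R : Sylow p G) (a : V), a ∈ WS E → a ≠ 1 → (∀ x ∈ (R : Subgroup G), x • a = a) →
      ∀ t : G, t • a = a → ∀ x ∈ (R : Subgroup G), t * x * t⁻¹ ∈ (R : Subgroup G))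
    (hcomm : ∀ (R : Sylow p G), ∀ x ∈ (R : Subgroup G), ∀ y ∈ (R : Subgroup G), ∀ b : V,
      x • y • b = y • x • b) (P : Sylow p G) : (P : Subgroup G).Normal := by
  obtain ⟨b, hb, hcos⟩ := h.exists_fixed_coset hW P
  obtain ⟨e, heP, he1⟩ : ∃ e, e ∈ E P ∧ e ≠ 1 := by
    obtain ⟨a, ⟨R, hR⟩, ha1⟩ := hW1
    obtain ⟨g, rfl⟩ := MulAction.exists_smul_eq G R P
    refine ⟨g • a, h.conj g R a hR, fun h1 => ha1 ?_⟩
    rw [← inv_smul_smul g a, h1, smul_one]
  have heW : e ∈ WS E := ⟨P, heP⟩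
  have hPe : ∀ y ∈ (P : Subgroup G), y • e = e := fun y hy => h.le P e heP hy
  obtain ⟨x, hxP, hx⟩ := h.exists_smul_P P hb hcos heW
  have hxw : ∀ w ∈ WS E, x • w = w := by
    intro w hw
    obtain ⟨y, hyP, hy⟩ := h.exists_smul_P P hb hcos hw
    have h1 := hcomm P x hxP y hyP b
    rw [hx, hy, smul_mul', smul_mul', hx, hy, hPe y hyP] at h1
    -- b * e * x • w = b * w * e
    have h2 : b * e * (x • w) = b * e * w := by rw [h1, mul_right_comm]
    exact mul_left_cancel h2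
  have key : ∀ t : G, t • b = b → ∀ z ∈ (P : Subgroup G), t * z * t⁻¹ ∈ (P : Subgroup G) := by
    intro t ht
    have hte : t • e ∈ E (t • P) := h.conj t P e heP
    have hteW : t • e ∈ WS E := ⟨_, hte⟩
    have hte1 : t • e ≠ 1 := by
      intro h1
      apply he1
      rw [← inv_smul_smul t e, h1, smul_one]
    have hP1e : ∀ y ∈ ((t • P : Sylow p G) : Subgroup G), y • (t • e) = t • e :=
      fun y hy => h.le _ _ hte hy
    have hxP1 : x ∈ ((t • P : Sylow p G) : Subgroup G) := by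
      have h1 : Subgroup.zpowers x ≤ ((t • P : Sylow p G) : Subgroup G) := by
        apply le_sylow_of_normalizes (P.isPGroup'.to_le (by rwa [Subgroup.zpowers_le]))
        intro s hs
        have h2 : s • (t • e) = t • e := by
          have h3 : Subgroup.zpowers x ≤ stabilizer G (t • e) := by
            rw [Subgroup.zpowers_le]; exact hxw _ hteW
          exact h3 hs
        exact huniq _ _ hteW hte1 hP1e s h2
      exact h1 (Subgroup.mem_zpowers x)
    have hmem : ∀ y ∈ ((t • P : Sylow p G) : Subgroup G), ∃ y' ∈ (P : Subgroup G),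
        y = t * y' * t⁻¹ := by
      intro y hy
      rw [Sylow.coe_subgroup_smul] at hy
      obtain ⟨y', hy', rfl⟩ := hy
      exact ⟨y', hy', rfl⟩
    have hye : ∀ y ∈ ((t • P : Sylow p G) : Subgroup G), y • e = e := by
      intro y hy
      obtain ⟨y', hy', hyy⟩ := hmem y hy
      have h1 : y • b = b * (t • (b⁻¹ * (y' • b))) := by
        rw [hyy, mul_smul, mul_smul, smul_mul', smul_inv', ht, mul_inv_cancel_left]
        congr 2
        rw [inv_smul_eq_iff, ht]
      set w := t • (b⁻¹ * (y' • b)) with hw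
      have hwW : w ∈ WS E := h.smul_mem t (hcos y' hy')
      have h2 := hcomm _ x hxP1 y hy b
      rw [hx, h1, smul_mul', smul_mul', hx, h1, hxw w hwW] at h2
      -- b * e * w = b * w * y • e
      have h3 : b * w * (y • e) = b * w * e := by rw [← h2, mul_right_comm]
      exact mul_left_cancel h3
    have hle : ((t • P : Sylow p G) : Subgroup G) ≤ (P : Subgroup G) := by
      apply le_sylow_of_normalizes (t • P).isPGroup'
      intro s hs
      exact huniq P e heW he1 hPe s (hye s hs)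
    intro z hz
    apply hle
    rw [Sylow.coe_subgroup_smul]
    exact ⟨z, hz, rfl⟩
  refine ⟨fun z hz g => ?_⟩
  obtain ⟨s, hs, t, ht, hst⟩ :=
    S0543.exists_mul_eq_of_coprime_index _ _ (h.cop e b heW he1 hb) g
  have h1 := key t ht z hz
  have h2 := huniq P e heW he1 hPe s hs _ h1
  have h3 : g * z * g⁻¹ = s * (t * z * t⁻¹) * s⁻¹ := by rw [hst]; group
  rw [h3]
  exact h2

/-- **Coprime action.** -/
theorem q_trivial [Finite V] (h : Hyp E) (hW : ∃ b : V, b ∉ WS E) (P : Sylow p G)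
    (hPW : ∀ x ∈ (P : Subgroup G), ∀ w ∈ WS E, x • w = w) (Q : Subgroup G)
    (hc : ∀ x ∈ (P : Subgroup G), ∀ y ∈ Q, ∀ b : V, x • y • b = y • x • b)
    (hfix : ∃ a ∈ WS E, a ≠ 1 ∧ ∀ y ∈ Q, y • a = a) (hQ : ¬ p ∣ Nat.card Q) :
    ∀ y ∈ Q, ∀ v : V, y • v = v := by
  classical
  letI := Fintype.ofFinite Q
  obtain ⟨a, haW, ha1, haQ⟩ := hfix
  let nm : V →* V :=
    { toFun := fun v => ∏ g : Q, (g : G) • v
      map_one' := by simp
      map_mul' := by
        intro v w
        simp only [smul_mul', Finset.prod_mul_distrib] }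
  have hnm : ∀ v, nm v = ∏ g : Q, (g : G) • v := fun v => rfl
  have hnm1 : ∀ y ∈ Q, ∀ v, y • nm v = nm v := by
    intro y hy v
    rw [hnm, Finset.smul_prod']
    refine Fintype.prod_equiv (Equiv.mulLeft (⟨y, hy⟩ : Q)) _ _ (fun g => ?_)
    rw [Equiv.coe_mulLeft, ← mul_smul]; rfl
  have hnm2 : ∀ y ∈ Q, ∀ v, nm (y • v) = nm v := by
    intro y hy v
    rw [hnm, hnm]
    refine Fintype.prod_equiv (Equiv.mulRight (⟨y, hy⟩ : Q)) _ _ (fun g => ?_)
    rw [Equiv.coe_mulRight, ← mul_smul]; rfl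
  have hnm3 : ∀ x ∈ (P : Subgroup G), ∀ v, nm (x • v) = x • nm v := by
    intro x hx v
    rw [hnm, hnm, Finset.smul_prod']
    refine Finset.prod_congr rfl (fun g _ => ?_)
    rw [hc x hx g g.2]
  have hnm4 : ∀ v, (∀ y ∈ Q, y • v = v) → nm v = v ^ Nat.card Q := by
    intro v hv
    rw [hnm, Finset.prod_congr rfl (fun (g : Q) _ => hv (g : G) g.2), Finset.prod_const,
      Finset.card_univ, Nat.card_eq_fintype_card]
  have hnmW : ∀ w ∈ WS E, nm w ∈ WS E := by
    intro w hw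
    rw [hnm]
    exact Subgroup.prod_mem h.W (fun g _ => h.smul_mem (g : G) hw)
  obtain ⟨b, hb, hcos⟩ := h.exists_fixed_coset hW P
  have hκ : nm b ∉ WS E := by
    intro hκ
    obtain ⟨x, hxP, hx⟩ := h.exists_smul_P P hb hcos haW
    have h1 := hnm3 x hxP b
    rw [hPW x hxP _ hκ, hx, map_mul, mul_eq_left, hnm4 a haQ] at h1
    exact ha1 (h.eq_one hQ h1)
  have hκcos : ∀ x ∈ (P : Subgroup G), (nm b)⁻¹ * (x • nm b) ∈ WS E := by
    intro x hx
    rw [← hnm3 x hx, ← map_inv, ← map_mul]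
    exact hnmW _ (hcos x hx)
  have hQW : ∀ y ∈ Q, ∀ w ∈ WS E, y • w = w := by
    intro y hy w hw
    obtain ⟨x, hxP, hx⟩ := h.exists_smul_P P hκ hκcos hw
    have h1 := hc x hxP y hy (nm b)
    rw [hnm1 y hy, hx, smul_mul', hnm1 y hy] at h1
    exact (mul_left_cancel h1).symm
  -- the kernel of the norm
  have hK : nm.ker = ⊥ := by
    by_contra hne
    letI : MulAction (P : Subgroup G) nm.ker :=
      { smul := fun x k => ⟨(x : G) • (k : V), by
          rw [MonoidHom.mem_ker, hnm3 x x.2, MonoidHom.mem_ker.1 k.2, smul_one]⟩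
        one_smul := fun k => Subtype.ext (one_smul G (k : V))
        mul_smul := fun x y k => Subtype.ext (mul_smul (x : G) (y : G) (k : V)) }
    obtain ⟨k, hk⟩ := h.pV
    have hKp : IsPGroup p nm.ker := fun a => ⟨k, Subtype.ext (hk a)⟩
    have hcard : p ∣ Nat.card nm.ker := by
      obtain ⟨n, hn⟩ := IsPGroup.iff_card.1 hKp
      rcases Nat.eq_zero_or_pos n with h0 | h0
      · exact absurd (Subgroup.card_eq_one.1 (by rw [hn, h0, pow_zero])) hne
      · rw [hn]; exact dvd_pow_self p h0.ne'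
    have hfix1 : (1 : nm.ker) ∈ fixedPoints (P : Subgroup G) nm.ker := by
      intro x
      exact Subtype.ext (smul_one (x : G))
    obtain ⟨c, hc', hne'⟩ :=
      P.isPGroup'.exists_fixed_point_of_prime_dvd_card_of_fixed_point _ hcard hfix1
    apply hne'
    have h1 : (c : V) ∈ WS E := h.fixed_mem P ⟨a, haW, ha1⟩ (fun x hx =>
      congrArg Subtype.val (hc' ⟨x, hx⟩))
    have h2 := hnm4 c (fun y hy => hQW y hy c h1)
    rw [MonoidHom.mem_ker.1 c.2] at h2
    exact (Subtype.ext (h.eq_one hQ h2.symm)).symm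
  intro y hy v
  have h1 : (y • v) * v⁻¹ ∈ nm.ker := by
    rw [MonoidHom.mem_ker, map_mul, map_inv, hnm2 y hy, mul_inv_cancel]
  rw [hK, Subgroup.mem_bot, mul_inv_eq_one] at h1
  exact h1

end Hyp

end str

end Cfsg.Agent.H673.Orb
end

-- part: H673/InIM
section
/-!
# The Itô-Michler theorem in the inertia group of a linear character of a normal subgroup
-/

set_option autoImplicit false
set_option linter.style.haveILetI false
set_option linter.unusedSectionVars false
open Cfsg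

namespace Cfsg.Agent.H673

open Cfsg.Agent.H672
open Cfsg.Agent.Characters.Core Cfsg.Agent.Characters.Clifford
open scoped ComplexConjugate

universe u v w

variable {G : Type u} [Group G] [Finite G] {N : Subgroup G} [hN : N.Normal]

/-- the induced twist lies over `l` -/
theorem twist_irr_over (l : N →* ℂˣ) (T : Subgroup G) (hT : T = inertia N (lf l)) (hNT : N ≤ T)
    (F : T →* ℂˣ) (hF : ∀ n : N, F ⟨n, hNT n.2⟩ = l n) {β : T → ℂ} (hβ : IsIrrCharacter T β)
    (hker : ∀ n : N, β ⟨n, hNT n.2⟩ = β 1) :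
    ∃ χ : G → ℂ, IsIrrCharacter G χ ∧ Over N.subtype χ (lf l) ∧
      charDegree χ = T.index * charDegree β := by
  classical
  letI := Fintype.ofFinite G
  letI := Fintype.ofFinite N
  letI := Fintype.ofFinite T
  have hTmem : ∀ g, g ∈ T ↔
      OddOrderCharacters.NormalInduced.conjFn N (fun n => (l n : ℂ)) g = fun n => (l n : ℂ) := by
    intro g
    rw [hT, mem_inertia_iff, funext_iff]
    rfl
  have hφ : IsIrrCharacter T (fun t => (F t : ℂ) * β t) :=
    OddOrderCharacters.InertiaAbelian.isIrr_mul_hom F hβ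
  have hirr := OddOrderCharacters.PF9.CliffGen.irr_twist hTmem hNT hF hβ hker
  refine ⟨_, hirr, ?_, ?_⟩
  · have h1 : Over T.subtype (indFun T (fun t => (F t : ℂ) * β t)) (fun t => (F t : ℂ) * β t) := by
      rw [over_iff]
      have h3 := CharactersDeep.NormalInd.classInner_indFun T (fun t => (F t : ℂ) * β t)
        (indFun T (fun t => (F t : ℂ) * β t)) (isIrr_isClassFunction hirr)
      rw [classInner_irr_self hirr] at h3
      intro h4
      have h5 := classInner_conj_symm (fun t => (F t : ℂ) * β t)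
        (fun h : T => indFun T (fun t => (F t : ℂ) * β t) h)
      have h6 : classInner (fun h : T => indFun T (fun t => (F t : ℂ) * β t) h)
        (fun t => (F t : ℂ) * β t) = 0 := h4
      rw [← h3, h6] at h5
      simp at h5
    have e : N.subtype = T.subtype.comp (Subgroup.inclusion hNT) := by ext; rfl
    rw [e]
    refine (over_comp_iff _ _ (isIrr_isCharacter hirr) (isIrr_lf l)).2 ⟨_, hφ, h1, ?_⟩
    rw [over_iff]
    have e2 : (fun t => (F t : ℂ) * β t) ∘ (Subgroup.inclusion hNT) = β 1 • lf l := by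
      funext n
      show (F ⟨n, hNT n.2⟩ : ℂ) * β ⟨n, hNT n.2⟩ = β 1 * (l n : ℂ)
      rw [hF, hker, mul_comm]
    rw [e2, classInner_smul_left, classInner_irr_self (isIrr_lf l), mul_one]
    exact isIrr_apply_one_ne_zero hβ
  · rw [charDegree_indFun T hφ rfl]
    congr 1
    apply charDegree_of_eq
    rw [map_one, Units.val_one, one_mul, coe_charDegree hβ]

/-- If all the characters over `l` have degree prime to `r` then `I(l) / N` has a normal abelian Sylow
`r`-subgroup. -/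
theorem inertia_IM {r : ℕ} [hr : Fact r.Prime] (l : N →* ℂˣ) (T : Subgroup G)
    (hT : T = inertia N (lf l)) (hNT : N ≤ T)
    (F : T →* ℂˣ) (hF : ∀ n : N, F ⟨n, hNT n.2⟩ = l n)
    (hdeg : ∀ χ : G → ℂ, IsIrrCharacter G χ → Over N.subtype χ (lf l) → ¬ r ∣ charDegree χ)
    (hIM : H670.PSing.IM r (T ⧸ N.subgroupOf T)) (Q : Sylow r G) (hQT : (Q : Subgroup G) ≤ T) :
    (∀ t ∈ T, ∀ x ∈ (Q : Subgroup G), t * x * t⁻¹ ∈ N ⊔ (Q : Subgroup G)) ∧
    (∀ x ∈ (Q : Subgroup G), ∀ y ∈ (Q : Subgroup G), x * y * x⁻¹ * y⁻¹ ∈ N) := by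
  classical
  have h1 := hIM (by
    intro β hβ hrβ
    set β' : T → ℂ := β ∘ (QuotientGroup.mk' (N.subgroupOf T)) with hβ'
    have hβirr : IsIrrCharacter T β' :=
      isIrr_comp (QuotientGroup.mk' (N.subgroupOf T)) (QuotientGroup.mk'_surjective _) hβ
    have hker : ∀ n : N, β' ⟨n, hNT n.2⟩ = β' 1 := by
      intro n
      show β (QuotientGroup.mk' (N.subgroupOf T) ⟨n, hNT n.2⟩) =
        β (QuotientGroup.mk' (N.subgroupOf T) 1)
      congr 1
      rw [map_one]
      exact (QuotientGroup.eq_one_iff _).2 (Subgroup.mem_subgroupOf.2 n.2)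
    obtain ⟨χ, hχ, ho, hd⟩ := twist_irr_over l T hT hNT F hF hβirr hker
    apply hdeg χ hχ ho
    rw [hd]
    apply Dvd.dvd.mul_left
    have h6 : charDegree β' = charDegree β := by
      rw [hβ', charDegree_comp_one]
    rw [h6]
    exact hrβ)
  let Q₁ : Sylow r T := Q.subtype hQT
  have hQ₁ : ∀ x : T, x ∈ (Q₁ : Subgroup T) ↔ (x : G) ∈ (Q : Subgroup G) := by
    intro x
    exact Iff.rfl
  have h2 := h1 (Q₁.mapSurjective (QuotientGroup.mk'_surjective (N.subgroupOf T)))
  constructor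
  · intro t ht x hx
    have h3 : QuotientGroup.mk' (N.subgroupOf T) (⟨x, hQT hx⟩ : T) ∈
        ((Q₁.mapSurjective (QuotientGroup.mk'_surjective (N.subgroupOf T)) :
          Sylow r (T ⧸ N.subgroupOf T)) : Subgroup (T ⧸ N.subgroupOf T)) :=
      Subgroup.mem_map_of_mem _ ((hQ₁ ⟨x, hQT hx⟩).2 hx)
    have h4 := h2.1.conj_mem _ h3 (QuotientGroup.mk' (N.subgroupOf T) (⟨t, ht⟩ : T))
    obtain ⟨y, hy, hyt⟩ := h4
    rw [← map_mul, ← map_inv, ← map_mul] at hyt
    have h5 : y⁻¹ * ((⟨t, ht⟩ : T) * ⟨x, hQT hx⟩ * (⟨t, ht⟩ : T)⁻¹) ∈ N.subgroupOf T :=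
      QuotientGroup.eq.1 hyt
    have h6 : (y : G)⁻¹ * (t * x * t⁻¹) ∈ N := Subgroup.mem_subgroupOf.1 h5
    have h7 : (y : G) ∈ (Q : Subgroup G) := (hQ₁ y).1 hy
    have h8 := Subgroup.mul_mem_sup h6 h7
    have h9 : t * x * t⁻¹ = (y : G) * ((y : G)⁻¹ * (t * x * t⁻¹)) := by group
    rw [h9]
    exact mul_mem (Subgroup.mem_sup_right h7) (Subgroup.mem_sup_left h6)
  · intro x hx y hy
    have h := h2.2
      (QuotientGroup.mk' _ (⟨x, hQT hx⟩ : T)) (Subgroup.mem_map_of_mem _ ((hQ₁ ⟨x, hQT hx⟩).2 hx))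
      (QuotientGroup.mk' _ (⟨y, hQT hy⟩ : T)) (Subgroup.mem_map_of_mem _ ((hQ₁ ⟨y, hQT hy⟩).2 hy))
    have h3 : ((⟨x, hQT hx⟩ : T) * ⟨y, hQT hy⟩ * (⟨x, hQT hx⟩ : T)⁻¹ * (⟨y, hQT hy⟩ : T)⁻¹) ∈
        N.subgroupOf T := by
      rw [← QuotientGroup.eq_one_iff]
      show QuotientGroup.mk' (N.subgroupOf T) _ = 1
      rw [map_mul, map_mul, map_mul, map_inv, map_inv, h]
      group
    exact Subgroup.mem_subgroupOf.1 h3

end Cfsg.Agent.H673
end

-- part: H673/DiscAb
section
/-!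
# Disconnected relative degree graph, `N` an abelian normal `p`-subgroup
-/

set_option autoImplicit false
set_option linter.style.haveILetI false
set_option linter.unusedSectionVars false
open Cfsg

namespace Cfsg.Agent.H673

open Cfsg.Agent.H672
open Cfsg.Agent.Characters.Core Cfsg.Agent.Characters.Clifford
open scoped ComplexConjugate

universe u v w

section

variable {G : Type u} [Group G] {N : Subgroup G} [hN : N.Normal]

/-- the action of `G` on the linear characters of `N` -/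
@[reducible] def dualAct (N : Subgroup G) [N.Normal] : MulDistribMulAction G (N →* ℂˣ) where
  smul g l := l.comp (MulAut.conjNormal g⁻¹ : MulAut N).toMonoidHom
  one_smul l := by
    ext n
    show ((l (MulAut.conjNormal (1 : G)⁻¹ n) : ℂˣ) : ℂ) = l n
    rw [inv_one, map_one]; rfl
  mul_smul g h l := by
    ext n
    show ((l (MulAut.conjNormal (g * h)⁻¹ n) : ℂˣ) : ℂ) =
      l (MulAut.conjNormal h⁻¹ (MulAut.conjNormal g⁻¹ n))
    rw [mul_inv_rev, map_mul]; rfl
  smul_one g := by ext n; rfl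
  smul_mul g l m := by ext n; rfl

attribute [local instance] dualAct

theorem smul_apply (g : G) (l : N →* ℂˣ) (n : N) :
    (g • l) n = l (MulAut.conjNormal g⁻¹ n) := rfl

theorem smul_eq_iff [Finite G] (g : G) (l : N →* ℂˣ) : g • l = l ↔ g ∈ inertia N (lf l) := by
  rw [← inv_mem_iff, mem_inertia_lf, MonoidHom.ext_iff]
  rfl

theorem stabilizer_eq [Finite G] (l : N →* ℂˣ) : MulAction.stabilizer G l = inertia N (lf l) := by
  ext g
  rw [MulAction.mem_stabilizer_iff, smul_eq_iff]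

theorem smul_of_mem (hab : ∀ a b : N, a * b = b * a) {g : G} (hg : g ∈ N) (l : N →* ℂˣ) :
    g • l = l := by
  ext n
  rw [smul_apply]
  congr 2
  apply Subtype.ext
  rw [MulAut.conjNormal_apply]
  have h1 := congrArg Subtype.val (hab n ⟨g, hg⟩)
  have h2 : (n : G) * g = g * n := h1
  rw [inv_inv, mul_assoc, h2, inv_mul_cancel_left]

end

section

variable {G : Type u} [Group G] [Finite G] {N : Subgroup G} [hN : N.Normal]
variable {p : ℕ} [hp : Fact p.Prime]

attribute [local instance] dualAct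

/-- the linear characters of `N` which extend to `R` -/
def ER (hNp : IsPGroup p N) (R : Sylow p G) : Subgroup (N →* ℂˣ) where
  carrier := {l | ∃ ν : (R : Subgroup G) →* ℂˣ, ∀ n : N, ν ⟨n, hNp.le_sylow_of_normal R n.2⟩ = l n}
  one_mem' := ⟨1, fun n => rfl⟩
  mul_mem' := by
    rintro a b ⟨ν, hν⟩ ⟨ν', hν'⟩
    exact ⟨ν * ν', fun n => by rw [MonoidHom.mul_apply, hν, hν', MonoidHom.mul_apply]⟩
  inv_mem' := by
    rintro a ⟨ν, hν⟩
    exact ⟨ν⁻¹, fun n => by rw [MonoidHom.inv_apply, hν, MonoidHom.inv_apply]⟩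

theorem mem_ER_iff (hNp : IsPGroup p N) (R : Sylow p G) (l : N →* ℂˣ) :
    l ∈ ER hNp R ↔ ∃ ν : (N ⊔ (R : Subgroup G) : Subgroup G) →* ℂˣ,
      ∀ n : N, ν (inclK N R n) = l n := by
  have hle := hNp.le_sylow_of_normal R
  constructor
  · rintro ⟨ν, hν⟩
    refine ⟨ν.comp (Subgroup.inclusion (sup_le hle le_rfl)), fun n => ?_⟩
    exact hν n
  · rintro ⟨ν, hν⟩
    refine ⟨ν.comp (Subgroup.inclusion le_sup_right), fun n => ?_⟩
    exact hν n

theorem exists_pow_pV (hNp : IsPGroup p N) : ∃ k : ℕ, ∀ (l : N →* ℂˣ) (n : N), l n ^ p ^ k = 1 := by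
  obtain ⟨k, hk⟩ := IsPGroup.iff_card.1 hNp
  refine ⟨k, fun l n => ?_⟩
  rw [← hk, ← map_pow, pow_card_eq_one', map_one]

theorem finite_dual (N : Subgroup G) : Finite (N →* ℂˣ) := by
  apply Nat.finite_of_card_ne_zero
  rw [Characters.Linear.card_hom_eq_index_commutator]
  exact Subgroup.index_ne_zero_of_finite

/-- two linear constituents of an irreducible character are conjugate -/
theorem exists_smul_of_over {χ : G → ℂ} (hχ : IsIrrCharacter G χ) {a b : N →* ℂˣ}
    (ha : Over N.subtype χ (lf a)) (hb : Over N.subtype χ (lf b)) : ∃ g : G, b = g • a := by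
  classical
  letI := Fintype.ofFinite G
  letI := Fintype.ofFinite N
  obtain ⟨x, hx⟩ := exists_conj_of_constituents N hχ (isIrr_lf a) (isIrr_lf b)
    ((over_subtype_iff N χ _).1 ha) ((over_subtype_iff N χ _).1 hb)
  refine ⟨x⁻¹, MonoidHom.ext fun n => Units.ext ?_⟩
  have := congrFun hx n
  rw [smul_apply, inv_inv]
  exact this

/-- The hypotheses: `N` an abelian normal `p`-subgroup of `G` contained in `G'`, and the degrees
divisible by `p` are prime to the others. -/
structure Dat (p : ℕ) (N : Subgroup G) [N.Normal] : Prop where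
  hNp : IsPGroup p N
  hab : ∀ a b : N, a * b = b * a
  hNG : N ≤ commutator G
  cop : ∀ a ∈ relCharDegrees N, ∀ b ∈ relCharDegrees N, ¬ p ∣ a → p ∣ b → Nat.Coprime a b
  exa : ∃ a ∈ relCharDegrees N, ¬ p ∣ a
  exb : ∃ b ∈ relCharDegrees N, p ∣ b

namespace Dat

variable (h : Dat p N)
include h

theorem degree_one {θ : N → ℂ} (hθ : IsIrrCharacter N θ) : ∃ l : N →* ℂˣ, θ = lf l :=
  Characters.CCBasic.exists_hom_of_comm h.hab hθ

theorem index_mem {R : Sylow p G} {l : N →* ℂˣ} (hl : l ∈ ER h.hNp R) (hl1 : l ≠ 1) :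
    (inertia N (lf l)).index ∈ relCharDegrees N ∧ ¬ p ∣ (inertia N (lf l)).index := by
  obtain ⟨ν, hν⟩ := (mem_ER_iff h.hNp R l).1 hl
  obtain ⟨k, hk⟩ := exists_pow_pV h.hNp
  refine ⟨(caseI h.hNG R hl1 (hk l) ν hν).1, fun hdvd => ?_⟩
  have hKT : N ⊔ (R : Subgroup G) ≤ inertia N (lf l) := by
    refine le_inertia_of_extends (isIrr_isClassFunction (isIrr_lf ν)) ?_
    funext n
    exact congrArg _ (hν n)
  exact R.not_dvd_index (hdvd.trans (Subgroup.index_dvd_of_le (le_sup_right.trans hKT)))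

/-- characters over an extendible character have degree prime to `p` -/
theorem not_dvd {l : N →* ℂˣ} (hl : l ∈ Orb.WS (ER h.hNp)) (hl1 : l ≠ 1) {χ : G → ℂ}
    (hχ : IsIrrCharacter G χ) (ho : Over N.subtype χ (lf l)) : ¬ p ∣ charDegree χ := by
  obtain ⟨R, hR⟩ := hl
  intro hdvd
  obtain ⟨h1, h2⟩ := h.index_mem hR hl1
  have h3 := mem_relCharDegrees_of_over N hχ (isIrr_lf l) ho (lf_ne_one hl1)
  have h4 := h.cop _ h1 _ h3 h2 hdvd
  have h5 := index_dvd_of_over hχ (isIrr_lf l) ho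
  have h6 := Nat.eq_one_of_dvd_coprimes h4 dvd_rfl h5
  have h7 := one_lt_of_mem_rel h.hNG h1
  omega

/-- a character of degree prime to `p` lies over an extendible character -/
theorem exists_of_not_dvd (P : Sylow p G) {χ : G → ℂ} (hχ : IsIrrCharacter G χ)
    (hd : ¬ p ∣ charDegree χ) : ∃ l : N →* ℂˣ, l ∈ ER h.hNp P ∧ Over N.subtype χ (lf l) := by
  obtain ⟨θ, hθ, ho, ξ, hξ, he⟩ := exists_extendible N P hχ hd
  obtain ⟨l, rfl⟩ := h.degree_one hθ
  have hξ1 : charDegree ξ = 1 := by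
    rw [← charDegree_comp_one (inclK N (P : Subgroup G)), he, charDegree_lf]
  obtain ⟨ν, rfl⟩ := exists_hom_of_degree_one hξ hξ1
  refine ⟨l, (mem_ER_iff h.hNp P l).2 ⟨ν, fun n => Units.ext ?_⟩, ho⟩
  exact congrFun he n

theorem dvd {b : N →* ℂˣ} (hb : b ∉ Orb.WS (ER h.hNp)) {χ : G → ℂ}
    (hχ : IsIrrCharacter G χ) (ho : Over N.subtype χ (lf b))
    (hconj : ∀ (g : G) (R : Sylow p G) (a : N →* ℂˣ), a ∈ ER h.hNp R → g • a ∈ ER h.hNp (g • R)) :
    p ∣ charDegree χ := by
  by_contra hd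
  obtain ⟨P⟩ : Nonempty (Sylow p G) := inferInstance
  obtain ⟨l, hl, hol⟩ := h.exists_of_not_dvd P hχ hd
  obtain ⟨g, rfl⟩ := exists_smul_of_over hχ hol ho
  exact hb ⟨_, hconj g P l hl⟩

end Dat

theorem ER_conj (hNp : IsPGroup p N) (g : G) (R : Sylow p G) (a : N →* ℂˣ) (ha : a ∈ ER hNp R) :
    g • a ∈ ER hNp (g • R) := by
  obtain ⟨ν, hν⟩ := ha
  have hmem : ∀ y : ((g • R : Sylow p G) : Subgroup G), g⁻¹ * (y : G) * g ∈ (R : Subgroup G) := by
    rintro ⟨y, hy⟩
    rw [Sylow.coe_subgroup_smul] at hy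
    obtain ⟨z, hz, hzy⟩ := hy
    have h1 : g * z * g⁻¹ = y := hzy
    show g⁻¹ * y * g ∈ _
    rw [← h1]
    have h2 : g⁻¹ * (g * z * g⁻¹) * g = z := by group
    rw [h2]
    exact hz
  let f : ((g • R : Sylow p G) : Subgroup G) →* (R : Subgroup G) :=
    { toFun := fun y => ⟨g⁻¹ * (y : G) * g, hmem y⟩
      map_one' := by
        apply Subtype.ext
        show g⁻¹ * 1 * g = 1
        group
      map_mul' := by
        intro x y
        apply Subtype.ext
        show g⁻¹ * ((x : G) * y) * g = (g⁻¹ * x * g) * (g⁻¹ * y * g)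
        group }
  refine ⟨ν.comp f, fun n => ?_⟩
  rw [smul_apply, ← hν]
  rw [MonoidHom.comp_apply]
  congr 1
  apply Subtype.ext
  show g⁻¹ * (n : G) * g = _
  rw [MulAut.conjNormal_apply, inv_inv]

/-- the hypotheses on orbits hold -/
theorem Dat.hyp (h : Dat p N) : Orb.Hyp (G := G) (ER h.hNp) := by
  refine ⟨?_, ER_conj h.hNp, ?_, ?_, ?_, ?_⟩
  · obtain ⟨k, hk⟩ := exists_pow_pV h.hNp
    exact ⟨k, fun l => MonoidHom.ext (hk l)⟩
  · intro R l hl hl1
    rw [stabilizer_eq]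
    obtain ⟨ν, hν⟩ := (mem_ER_iff h.hNp R l).1 hl
    obtain ⟨k, hk⟩ := exists_pow_pV h.hNp
    exact inertia_ne_top h.hNG R hl1 (hk l) ν hν
  · intro R l hl
    rw [stabilizer_eq]
    obtain ⟨ν, hν⟩ := (mem_ER_iff h.hNp R l).1 hl
    have hKT : N ⊔ (R : Subgroup G) ≤ inertia N (lf l) := by
      refine le_inertia_of_extends (isIrr_isClassFunction (isIrr_lf ν)) ?_
      funext n
      exact congrArg _ (hν n)
    exact le_sup_right.trans hKT
  · intro R l hl hR
    by_cases hl1 : l = 1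
    · rw [hl1]; exact (ER h.hNp R).one_mem
    rw [stabilizer_eq] at hR
    obtain ⟨ψ, hψ, ho⟩ := exists_over N _ (isIrr_lf l)
    obtain ⟨ξ, hξ, he⟩ := extends_of_invariant N R (isIrr_lf l) hR hψ ho (h.not_dvd hl hl1 hψ ho)
    have hξ1 : charDegree ξ = 1 := by
      rw [← charDegree_comp_one (inclK N (R : Subgroup G)), he, charDegree_lf]
    obtain ⟨ν, rfl⟩ := exists_hom_of_degree_one hξ hξ1
    exact (mem_ER_iff h.hNp R l).2 ⟨ν, fun n => Units.ext (congrFun he n)⟩
  · intro a b ha ha1 hb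
    rw [stabilizer_eq, stabilizer_eq]
    obtain ⟨R, hR⟩ := id ha
    obtain ⟨h1, h2⟩ := h.index_mem hR ha1
    obtain ⟨ψ, hψ, ho⟩ := exists_over N _ (isIrr_lf b)
    have hb1 : b ≠ 1 := by
      rintro rfl
      exact hb (Orb.Hyp.one_mem _)
    have h3 := mem_relCharDegrees_of_over N hψ (isIrr_lf b) ho (lf_ne_one hb1)
    have h4 := h.cop _ h1 _ h3 h2 (h.dvd hb hψ ho (ER_conj h.hNp))
    exact h4.coprime_dvd_right (index_dvd_of_over hψ (isIrr_lf b) ho)

/-! ### Consequences -/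

theorem charDegree_dvd_index {A : Subgroup G} [A.Normal] (hA : ∀ a ∈ A, ∀ b ∈ A, a * b = b * a)
    {χ : G → ℂ} (hχ : IsIrrCharacter G χ) : charDegree χ ∣ A.index := by
  obtain ⟨d, ρ, hρ, rfl⟩ := hχ
  have hdvd := Cfsg.Agent.S0169.result ρ A hA
  have h2 : charDegree ρ.character = d := by
    apply charDegree_of_eq
    rw [Representation.char_one]
    simp
  rw [Module.finrank_fin_fun] at hdvd
  rwa [h2]

namespace Dat

variable (h : Dat p N)
include h

theorem exists_W : ∃ a ∈ Orb.WS (ER h.hNp), a ≠ 1 := by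
  obtain ⟨P⟩ : Nonempty (Sylow p G) := inferInstance
  obtain ⟨_, ⟨⟨χ, hχ⟩, hk, rfl⟩, hd⟩ := h.exa
  dsimp only at hk hd
  obtain ⟨l, hl, ho⟩ := h.exists_of_not_dvd P hχ hd
  refine ⟨l, ⟨P, hl⟩, ?_⟩
  rintro rfl
  exact ne_one_of_over N hχ hk (isIrr_lf _) ho lf_one

theorem exists_notW : ∃ b : N →* ℂˣ, b ∉ Orb.WS (ER h.hNp) := by
  obtain ⟨_, ⟨⟨χ, hχ⟩, hk, rfl⟩, hd⟩ := h.exb
  dsimp only at hk hd
  obtain ⟨θ, hθ, ho⟩ := exists_under (f := N.subtype) hχ
  obtain ⟨l, rfl⟩ := h.degree_one hθ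
  refine ⟨l, fun hl => ?_⟩
  have hl1 : l ≠ 1 := by
    rintro rfl
    exact ne_one_of_over N hχ hk (isIrr_lf _) ho lf_one
  exact h.not_dvd hl hl1 hχ ho hd

/-- extension to the inertia group -/
theorem exists_ext {l : N →* ℂˣ} (hl : l ∈ Orb.WS (ER h.hNp)) :
    ∃ (hNT : N ≤ inertia N (lf l)) (F : inertia N (lf l) →* ℂˣ), ∀ n : N, F ⟨n, hNT n.2⟩ = l n := by
  obtain ⟨R, hR⟩ := hl
  obtain ⟨ν, hν⟩ := (mem_ER_iff h.hNp R l).1 hR
  obtain ⟨k, hk⟩ := exists_pow_pV h.hNp
  have hKT : N ⊔ (R : Subgroup G) ≤ inertia N (lf l) := by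
    refine le_inertia_of_extends (isIrr_isClassFunction (isIrr_lf ν)) ?_
    funext n
    exact congrArg _ (hν n)
  obtain ⟨m, hm⟩ := lin_extends_to N R (N ⊔ (R : Subgroup G)) (inertia N (lf l)) le_sup_left
    le_sup_right hKT l (hk l) le_rfl ν hν
  exact ⟨le_sup_left.trans hKT, m, hm⟩

theorem inertia_pair {r : ℕ} [hr : Fact r.Prime] {l : N →* ℂˣ} (hl : l ∈ Orb.WS (ER h.hNp))
    (hdeg : ∀ χ : G → ℂ, IsIrrCharacter G χ → Over N.subtype χ (lf l) → ¬ r ∣ charDegree χ)
    (hIM : ∀ T : Subgroup G, N ≤ T → H670.PSing.IM r (T ⧸ N.subgroupOf T))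
    (Q : Sylow r G) (hQT : (Q : Subgroup G) ≤ inertia N (lf l)) :
    (∀ t ∈ inertia N (lf l), ∀ x ∈ (Q : Subgroup G), t * x * t⁻¹ ∈ N ⊔ (Q : Subgroup G)) ∧
    (∀ x ∈ (Q : Subgroup G), ∀ y ∈ (Q : Subgroup G), x * y * x⁻¹ * y⁻¹ ∈ N) := by
  obtain ⟨hNT, F, hF⟩ := h.exists_ext hl
  exact inertia_IM l _ rfl hNT F hF hdeg (hIM _ hNT) Q hQT

theorem comm_mem (hIM : ∀ T : Subgroup G, N ≤ T → H670.PSing.IM p (T ⧸ N.subgroupOf T))
    (R : Sylow p G) : ∀ x ∈ (R : Subgroup G), ∀ y ∈ (R : Subgroup G), x * y * x⁻¹ * y⁻¹ ∈ N := by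
  obtain ⟨a, ⟨R', hR'⟩, ha1⟩ := h.exists_W
  obtain ⟨g, rfl⟩ := MulAction.exists_smul_eq G R' R
  have h1 := h.hyp.conj g R' a hR'
  have h2 : g • a ≠ 1 := by
    intro h1
    apply ha1
    rw [← inv_smul_smul g a, h1]
    exact MonoidHom.ext fun n => rfl
  refine (h.inertia_pair ⟨_, h1⟩ (fun χ hχ ho => h.not_dvd ⟨_, h1⟩ h2 hχ ho) hIM (g • R') ?_).2
  rw [← stabilizer_eq]
  exact h.hyp.le _ _ h1

theorem sylow_normal (hIM : ∀ T : Subgroup G, N ≤ T → H670.PSing.IM p (T ⧸ N.subgroupOf T))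
    (P : Sylow p G) : (P : Subgroup G).Normal := by
  haveI := finite_dual N
  refine h.hyp.sylow_normal h.exists_notW h.exists_W ?_ ?_ P
  · intro R a ha ha1 hRa t ht x hx
    have hRT : (R : Subgroup G) ≤ inertia N (lf a) := fun y hy => (smul_eq_iff y a).1 (hRa y hy)
    have h1 := (h.inertia_pair ha (fun χ hχ ho => h.not_dvd ha ha1 hχ ho) hIM R hRT).1 t
      ((smul_eq_iff t a).1 ht) x hx
    rwa [sup_eq_right.2 (h.hNp.le_sylow_of_normal R)] at h1
  · intro R x hx y hy b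
    have h1 := h.comm_mem hIM R x hx y hy
    have h2 := smul_of_mem h.hab h1 (y • x • b)
    rw [← mul_smul, ← mul_smul] at h2
    have h3 : x * y * x⁻¹ * y⁻¹ * y * x = x * y := by group
    rw [h3, mul_smul] at h2
    exact h2

theorem fix_W (P : Sylow p G) (hP : (P : Subgroup G).Normal) : ∀ x ∈ (P : Subgroup G),
    ∀ w ∈ Orb.WS (ER h.hNp), x • w = w := by
  rintro x hx w ⟨R, hR⟩
  obtain ⟨g, hg⟩ := MulAction.exists_smul_eq G P R
  have h1 : (R : Subgroup G) = (P : Subgroup G) := by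
    rw [← hg, Sylow.coe_subgroup_smul]
    exact hP.conj_smul_eq_self g
  exact h.hyp.le R w hR (h1 ▸ hx)

end Dat

theorem exists_dual_ne {A : Type v} [Group A] [Finite A] (hab : ∀ a b : A, a * b = b * a) {a : A}
    (ha : a ≠ 1) : ∃ f : A →* ℂˣ, f a ≠ 1 := by
  letI : CommGroup A := { (inferInstance : Group A) with mul_comm := hab }
  obtain ⟨f, hf⟩ := CommGroup.exists_apply_ne_one_of_hasEnoughRootsOfUnity A ℂ ha
  exact ⟨f, hf⟩

theorem exists_dual_ext {A : Type v} [Group A] [Finite A] (hab : ∀ a b : A, a * b = b * a)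
    (B : Subgroup A) (f : B →* ℂˣ) : ∃ F : A →* ℂˣ, ∀ b : B, F b = f b := by
  letI : CommGroup A := { (inferInstance : Group A) with mul_comm := hab }
  obtain ⟨F, hF⟩ := MonoidHom.domRestrict_surjective (G := A) (M := ℂ) B f
  exact ⟨F, fun b => by rw [← hF]; rfl⟩

theorem disjoint_sylow {q : ℕ} [hq : Fact q.Prime] (hqp : q ≠ p) (P : Sylow p G) (Q : Sylow q G)
    {x : G} (h1 : x ∈ (P : Subgroup G)) (h2 : x ∈ (Q : Subgroup G)) : x = 1 := by
  have h3 : (P : Subgroup G) ⊓ (Q : Subgroup G) = ⊥ := by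
    rw [← disjoint_iff]
    apply Subgroup.disjoint_of_coprime_natCard
    obtain ⟨a, ha⟩ := IsPGroup.iff_card.1 P.isPGroup'
    obtain ⟨b, hb⟩ := IsPGroup.iff_card.1 Q.isPGroup'
    rw [ha, hb]
    exact Nat.Coprime.pow _ _ ((Nat.coprime_primes hp.out hq.out).2 hqp.symm)
  have h4 : x ∈ (P : Subgroup G) ⊓ (Q : Subgroup G) := ⟨h1, h2⟩
  rwa [h3, Subgroup.mem_bot] at h4

namespace Dat

variable (h : Dat p N)
include h

theorem eq_of_prime_dvd (hIM : ∀ (r : ℕ) [Fact r.Prime] (T : Subgroup G), N ≤ T →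
    H670.PSing.IM r (T ⧸ N.subgroupOf T)) (P : Sylow p G) {d : ℕ} (hd : d ∈ relCharDegrees N)
    (hpd : p ∣ d) {q : ℕ} (hq : q.Prime) (hqd : q ∣ d) : q = p := by
  by_contra hqp
  haveI : Fact q.Prime := ⟨hq⟩
  have hPn := h.sylow_normal (hIM p) P
  have hqa : ∀ a ∈ relCharDegrees N, ¬ p ∣ a → ¬ q ∣ a := fun a ha hpa hqa =>
    hq.one_lt.ne' (Nat.eq_one_of_dvd_coprimes (h.cop a ha d hd hpa hpd) hqa hqd)
  obtain ⟨l, hl, hl1⟩ := h.exists_W
  have hdeg : ∀ χ : G → ℂ, IsIrrCharacter G χ → Over N.subtype χ (lf l) → ¬ q ∣ charDegree χ :=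
    fun χ hχ ho => hqa _ (mem_relCharDegrees_of_over N hχ (isIrr_lf l) ho (lf_ne_one hl1))
      (h.not_dvd hl hl1 hχ ho)
  obtain ⟨χ0, hχ0, ho0⟩ := exists_over N _ (isIrr_lf l)
  have hqi : ¬ q ∣ (inertia N (lf l)).index := fun h' =>
    hdeg χ0 hχ0 ho0 (h'.trans (index_dvd_of_over hχ0 (isIrr_lf l) ho0))
  obtain ⟨Q, hQ⟩ := exists_sylow_le (inertia N (lf l)) hqi
  obtain ⟨hQ1, hQ2⟩ := h.inertia_pair hl hdeg (hIM q) Q hQ
  have hNP := h.hNp.le_sylow_of_normal P
  have hPT : (P : Subgroup G) ≤ inertia N (lf l) := fun x hx =>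
    (smul_eq_iff x l).1 (h.fix_W P hPn x hx l hl)
  have hPQ : ∀ x ∈ (P : Subgroup G), ∀ y ∈ (Q : Subgroup G), x * y * x⁻¹ * y⁻¹ ∈ N := by
    intro x hx y hy
    have h1 := hQ1 x (hPT hx) y hy
    have h2 : x * y * x⁻¹ * y⁻¹ ∈ N ⊔ (Q : Subgroup G) :=
      mul_mem h1 (Subgroup.mem_sup_right (inv_mem hy))
    have h3 : x * y * x⁻¹ * y⁻¹ ∈ (P : Subgroup G) := by
      have h4 : x * y * x⁻¹ * y⁻¹ = x * (y * x⁻¹ * y⁻¹) := by group
      rw [h4]
      exact mul_mem hx (hPn.conj_mem _ (inv_mem hx) y)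
    obtain ⟨n, hn, z, hz, hnz⟩ := Subgroup.mem_sup_of_normal_left.1 h2
    have h5 : z = n⁻¹ * (x * y * x⁻¹ * y⁻¹) := by rw [← hnz]; group
    have h6 : z ∈ (P : Subgroup G) := by
      rw [h5]; exact mul_mem (inv_mem (hNP hn)) h3
    have h7 := disjoint_sylow hqp P Q h6 hz
    rw [← hnz, h7, mul_one]
    exact hn
  haveI := finite_dual N
  have hcardQ : ¬ p ∣ Nat.card (Q : Subgroup G) := by
    obtain ⟨b, hb⟩ := IsPGroup.iff_card.1 Q.isPGroup'
    rw [hb]
    intro h1
    exact hqp ((Nat.prime_dvd_prime_iff_eq hp.out hq).1 (hp.out.dvd_of_dvd_pow h1)).symm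
  have hQV : ∀ y ∈ (Q : Subgroup G), ∀ v : N →* ℂˣ, y • v = v := by
    refine h.hyp.q_trivial h.exists_notW P (h.fix_W P hPn) Q ?_
      ⟨l, hl, hl1, fun y hy => (smul_eq_iff y l).2 (hQ hy)⟩ hcardQ
    intro x hx y hy b
    have h1 := hPQ x hx y hy
    have h2 := smul_of_mem h.hab h1 (y • x • b)
    rw [← mul_smul, ← mul_smul] at h2
    have h3 : x * y * x⁻¹ * y⁻¹ * y * x = x * y := by group
    rw [h3, mul_smul] at h2
    exact h2
  -- `Q` centralises `N`
  have hQN : ∀ y ∈ (Q : Subgroup G), ∀ n ∈ N, n * y = y * n := by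
    intro y hy n hn
    by_contra hne
    have hm : MulAut.conjNormal y⁻¹ (⟨n, hn⟩ : N) * (⟨n, hn⟩ : N)⁻¹ ≠ 1 := by
      intro h1
      rw [mul_inv_eq_one] at h1
      apply hne
      have h2 := congrArg Subtype.val h1
      rw [MulAut.conjNormal_apply, inv_inv] at h2
      have h3 : y⁻¹ * n * y = n := h2
      calc n * y = y * (y⁻¹ * n * y) := by group
        _ = y * n := by rw [h3]
    obtain ⟨v, hv⟩ := exists_dual_ne h.hab hm
    apply hv
    have e : v (MulAut.conjNormal y⁻¹ (⟨n, hn⟩ : N)) = v ⟨n, hn⟩ :=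
      DFunLike.congr_fun (hQV y hy v) ⟨n, hn⟩
    rw [map_mul, e, ← map_mul, mul_inv_cancel, map_one]
  have hQab : ∀ x ∈ (Q : Subgroup G), ∀ y ∈ (Q : Subgroup G), x * y = y * x := by
    intro x hx y hy
    have h1 := hQ2 x hx y hy
    have h2 : x * y * x⁻¹ * y⁻¹ ∈ (Q : Subgroup G) :=
      mul_mem (mul_mem (mul_mem hx hy) (inv_mem hx)) (inv_mem hy)
    have h3 := disjoint_sylow hqp P Q (hNP h1) h2
    calc x * y = (x * y * x⁻¹ * y⁻¹) * (y * x) := by group
      _ = y * x := by rw [h3, one_mul]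
  -- `N ⊔ Q` is normal
  have hQle : ∀ g : G, ∀ x ∈ (Q : Subgroup G), g * x * g⁻¹ ∈ N ⊔ (Q : Subgroup G) := by
    intro g x hx
    have hg : ((g • Q : Sylow q G) : Subgroup G) ≤ inertia N (lf l) := by
      intro z hz
      rw [Sylow.coe_subgroup_smul] at hz
      obtain ⟨y, hy, hyz⟩ := hz
      have h1 : g * y * g⁻¹ = z := hyz
      rw [← smul_eq_iff, ← h1, mul_smul, mul_smul, hQV y hy, smul_inv_smul]
    obtain ⟨t, ht⟩ := MulAction.exists_smul_eq (inertia N (lf l)) (Q.subtype hQ)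
      ((g • Q : Sylow q G).subtype hg)
    have h1 : g * x * g⁻¹ ∈ ((g • Q : Sylow q G) : Subgroup G) := by
      rw [Sylow.coe_subgroup_smul]
      exact ⟨x, hx, rfl⟩
    have h2 : (⟨g * x * g⁻¹, hg h1⟩ : inertia N (lf l)) ∈
        (((g • Q : Sylow q G).subtype hg : Sylow q (inertia N (lf l))) :
          Subgroup (inertia N (lf l))) := h1
    rw [← ht, Sylow.coe_subgroup_smul] at h2
    obtain ⟨y, hy, hyx⟩ := h2
    have h3 : (t : G) * y * (t : G)⁻¹ = g * x * g⁻¹ := congrArg Subtype.val hyx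
    rw [← h3]
    exact hQ1 t t.2 y hy
  have hMn : (N ⊔ (Q : Subgroup G)).Normal := by
    refine ⟨fun x hx g => ?_⟩
    obtain ⟨n, hn, z, hz, rfl⟩ := Subgroup.mem_sup_of_normal_left.1 hx
    have h1 : g * (n * z) * g⁻¹ = (g * n * g⁻¹) * (g * z * g⁻¹) := by group
    rw [h1]
    exact mul_mem (Subgroup.mem_sup_left (hN.conj_mem n hn g)) (hQle g z hz)
  have hMab : ∀ a ∈ N ⊔ (Q : Subgroup G), ∀ b ∈ N ⊔ (Q : Subgroup G), a * b = b * a := by
    intro a ha b hb
    obtain ⟨n, hn, z, hz, rfl⟩ := Subgroup.mem_sup_of_normal_left.1 ha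
    obtain ⟨m, hm, w, hw, rfl⟩ := Subgroup.mem_sup_of_normal_left.1 hb
    have e1 : n * m = m * n := congrArg Subtype.val (h.hab ⟨n, hn⟩ ⟨m, hm⟩)
    calc n * z * (m * w) = n * (z * m) * w := by group
      _ = n * (m * z) * w := by rw [hQN z hz m hm]
      _ = (n * m) * (z * w) := by group
      _ = (m * n) * (w * z) := by rw [e1, hQab z hz w hw]
      _ = m * (n * w) * z := by group
      _ = m * (w * n) * z := by rw [hQN w hw n hn]
      _ = m * w * (n * z) := by group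
  obtain ⟨⟨χ, hχ⟩, -, rfl⟩ := hd
  have h1 := charDegree_dvd_index hMab hχ
  exact Q.not_dvd_index ((hqd.trans h1).trans (Subgroup.index_dvd_of_le le_sup_right))

theorem exists_pow (hIM : ∀ (r : ℕ) [Fact r.Prime] (T : Subgroup G), N ≤ T →
    H670.PSing.IM r (T ⧸ N.subgroupOf T)) (P : Sylow p G) {d : ℕ} (hd : d ∈ relCharDegrees N)
    (hpd : p ∣ d) : ∃ k : ℕ, d = p ^ k :=
  ⟨_, Nat.eq_prime_pow_of_unique_prime_dvd (relCharDegrees_pos hd).ne'
    (fun hq hqd => h.eq_of_prime_dvd hIM P hd hpd hq hqd)⟩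

end Dat

end

end Cfsg.Agent.H673
end
end

-- part: H673/DiscAb2
section
set_option linter.all false
open scoped Cfsg.Agent.FastGrp

/-!
# Disconnected relative degree graph, `N` an abelian normal `p`-subgroup: the theorem
-/

set_option autoImplicit false
set_option linter.style.haveILetI false
set_option linter.unusedSectionVars false
open Cfsg

namespace Cfsg.Agent.H673

open Cfsg.Agent.H672
open Cfsg.Agent.Characters.Core Cfsg.Agent.Characters.Clifford
open scoped ComplexConjugate commutatorElement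

universe u v w

variable {G : Type u} [Group G] [Finite G] {N : Subgroup G} [hN : N.Normal]
variable {p : ℕ} [hp : Fact p.Prime]

attribute [local instance] dualAct

/-- the degree of a product over a linear character -/
theorem over_mul_of_ker {χ β : G → ℂ} {l : N →* ℂˣ} (ho : Over N.subtype χ (lf l))
    (hβ : IsIrrCharacter G β) (hker : ∀ n ∈ N, β n = β 1) : Over N.subtype (β * χ) (lf l) := by
  classical
  letI := Fintype.ofFinite N
  rw [over_iff] at ho ⊢
  have e : (β * χ) ∘ N.subtype = β 1 • (χ ∘ N.subtype) := by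
    funext n
    show β n * χ n = β 1 * χ n
    rw [hker n n.2]
  rw [e, classInner_smul_left]
  exact mul_ne_zero (isIrr_apply_one_ne_zero hβ) ho

namespace Dat

variable (h : Dat p N)
include h

theorem commutator_le (hIM : ∀ (r : ℕ) [Fact r.Prime] (T : Subgroup G), N ≤ T →
    H670.PSing.IM r (T ⧸ N.subgroupOf T)) (P : Sylow p G) :
    commutator G ≤ (P : Subgroup G) := by
  classical
  letI := Fintype.ofFinite G
  letI := Fintype.ofFinite (P : Subgroup G)
  have hPn := h.sylow_normal (hIM p) P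
  have hNP := h.hNp.le_sylow_of_normal P
  obtain ⟨b, hb⟩ := h.exists_notW
  have hb1 : b ≠ 1 := by
    rintro rfl
    exact hb (Orb.Hyp.one_mem _)
  obtain ⟨χ, hχ, ho⟩ := exists_over N _ (isIrr_lf b)
  have hpow : ∀ ψ : G → ℂ, IsIrrCharacter G ψ → Over N.subtype ψ (lf b) →
      ∃ k : ℕ, charDegree ψ = p ^ k := fun ψ hψ hψo =>
    h.exists_pow hIM P (mem_relCharDegrees_of_over N hψ (isIrr_lf b) hψo (lf_ne_one hb1))
      (h.dvd hb hψ hψo (ER_conj h.hNp))
  obtain ⟨k, hk⟩ := hpow χ hχ ho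
  -- the restriction to `P` is irreducible
  obtain ⟨θ, hθ, hoθ⟩ := exists_under (f := (P : Subgroup G).subtype) hχ
  obtain ⟨h1, h2⟩ := charDegree_dvd_of_over (P : Subgroup G) hχ hθ hoθ
  have hpi := P.not_dvd_index
  have hdeg : charDegree θ = charDegree χ := by
    have h3 : charDegree χ / charDegree θ ∣ p ^ k := by
      rw [← hk]
      exact Nat.div_dvd_of_dvd h1
    have h4 : Nat.Coprime (charDegree χ / charDegree θ) (p ^ k) := by
      apply Nat.Coprime.pow_right
      apply Nat.Coprime.symm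
      rw [Nat.Prime.coprime_iff_not_dvd hp.out]
      exact fun h5 => hpi (h5.trans h2)
    have h5 : charDegree χ / charDegree θ = 1 := Nat.eq_one_of_dvd_coprimes h4 dvd_rfl h3
    have h6 := Nat.div_mul_cancel h1
    rw [h5, one_mul] at h6
    exact h6
  have hres := eq_of_over_of_charDegree_eq hχ hθ hoθ hdeg
  have hresirr : IsIrrCharacter (P : Subgroup G) (fun n : (P : Subgroup G) => χ n) := by
    have h7 : (fun n : (P : Subgroup G) => χ n) = θ := hres
    rw [h7]; exact hθ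
  -- all the characters of `G ⧸ P` are linear
  have hlin : ∀ β : IrrCharacter (G ⧸ (P : Subgroup G)), (β : G ⧸ (P : Subgroup G) → ℂ) 1 = 1 := by
    rintro ⟨β, hβ⟩
    have hβ' : IsIrrCharacter G (β ∘ QuotientGroup.mk' (P : Subgroup G)) :=
      isIrr_comp (QuotientGroup.mk' (P : Subgroup G)) (QuotientGroup.mk'_surjective _) hβ
    have hker : ∀ n ∈ (P : Subgroup G), (β ∘ QuotientGroup.mk' (P : Subgroup G)) n =
        (β ∘ QuotientGroup.mk' (P : Subgroup G)) 1 := by
      intro n hn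
      show β (QuotientGroup.mk' (P : Subgroup G) n) = β (QuotientGroup.mk' (P : Subgroup G) 1)
      congr 1
      rw [map_one]
      exact (QuotientGroup.eq_one_iff _).2 hn
    have hmul := H597.FrobC.isIrr_mul_of_restrict (P : Subgroup G) hχ hresirr hβ' hker
    obtain ⟨j, hj⟩ := hpow _ hmul (over_mul_of_ker ho hβ' (fun n hn => hker n (hNP hn)))
    rw [H597.FrobC.charDegree_mul hχ hβ'] at hj
    rw [charDegree_comp_one] at hj
    have h3 : charDegree β ∣ p ^ j := ⟨_, hj.symm⟩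
    have h4 : charDegree β ∣ (P : Subgroup G).index := by
      have := Blocks.Knorr.charDegree_dvd hβ
      exact this
    have h5 : charDegree β = 1 := by
      have h6 : Nat.Coprime (charDegree β) (p ^ j) := by
        apply Nat.Coprime.pow_right
        apply Nat.Coprime.symm
        rw [Nat.Prime.coprime_iff_not_dvd hp.out]
        exact fun h5 => hpi (h5.trans h4)
      exact Nat.eq_one_of_dvd_coprimes h6 dvd_rfl h3
    show β 1 = 1
    rw [← coe_charDegree hβ, h5, Nat.cast_one]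
  have hcomm := CharDeep.PowerDegrees.comm_of_forall_linear hlin
  rw [_root_.commutator, Subgroup.commutator_le]
  intro x _ y _
  rw [commutatorElement_def, ← QuotientGroup.eq_one_iff]
  have h1 := hcomm (QuotientGroup.mk' (P : Subgroup G) x) (QuotientGroup.mk' (P : Subgroup G) y)
  show QuotientGroup.mk' (P : Subgroup G) (x * y * x⁻¹ * y⁻¹) = 1
  rw [map_mul, map_mul, map_mul, map_inv, map_inv, h1]
  group

/-- Normal subgroups of `G` centralised by `P` with `[M, G] = M` lie in the kernel of the characters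
over a character outside `W`. -/
theorem eq_one_of_over_min (hIM : ∀ (r : ℕ) [Fact r.Prime] (T : Subgroup G), N ≤ T →
    H670.PSing.IM r (T ⧸ N.subgroupOf T)) (P : Sylow p G) (M : Subgroup G) [hM : M.Normal]
    (hMP : ∀ m ∈ M, ∀ x ∈ (P : Subgroup G), m * x = x * m) (hMG : ⁅M, (⊤ : Subgroup G)⁆ = M)
    {b : N →* ℂˣ} (hb : b ∉ Orb.WS (ER h.hNp)) {χ : G → ℂ} (hχ : IsIrrCharacter G χ)
    (ho : Over N.subtype χ (lf b)) {w : M →* ℂˣ} (hw : Over M.subtype χ (lf w)) : w = 1 := by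
  have hb1 : b ≠ 1 := by
    rintro rfl
    exact hb (Orb.Hyp.one_mem _)
  obtain ⟨k, hk⟩ := h.exists_pow hIM P
    (mem_relCharDegrees_of_over N hχ (isIrr_lf b) ho (lf_ne_one hb1))
    (h.dvd hb hχ ho (ER_conj h.hNp))
  have h1 := index_dvd_of_over hχ (isIrr_lf w) hw
  rw [hk] at h1
  have h2 : (P : Subgroup G) ≤ inertia M (lf w) := by
    intro x hx
    rw [mem_inertia_lf]
    intro m
    congr 1
    apply Subtype.ext
    rw [MulAut.conjNormal_apply, ← hMP m m.2 x hx, mul_inv_cancel_right]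
  have h3 : (inertia M (lf w)).index = 1 := by
    have h4 : Nat.Coprime (inertia M (lf w)).index (p ^ k) := by
      apply Nat.Coprime.pow_right
      apply Nat.Coprime.symm
      rw [Nat.Prime.coprime_iff_not_dvd hp.out]
      exact fun h5 => P.not_dvd_index (h5.trans (Subgroup.index_dvd_of_le h2))
    exact Nat.eq_one_of_dvd_coprimes h4 dvd_rfl h1
  rw [Subgroup.index_eq_one] at h3
  -- `w` is trivial on `[M, G] = M`
  have h4 : ⁅M, (⊤ : Subgroup G)⁆ ≤ w.ker.map M.subtype := by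
    rw [Subgroup.commutator_le]
    intro m hm g _
    have hmem : m * (g * m⁻¹ * g⁻¹) ∈ M := mul_mem hm (hM.conj_mem _ (inv_mem hm) g)
    have e : ⁅m, g⁆ = m * (g * m⁻¹ * g⁻¹) := by rw [commutatorElement_def]; group
    rw [e]
    refine ⟨⟨m * (g * m⁻¹ * g⁻¹), hmem⟩, ?_, rfl⟩
    show (⟨m * (g * m⁻¹ * g⁻¹), hmem⟩ : M) ∈ w.ker
    rw [MonoidHom.mem_ker]
    have h5 : g ∈ inertia M (lf w) := by rw [h3]; trivial
    rw [mem_inertia_lf] at h5
    have h6 := h5 (⟨m, hm⟩ : M)⁻¹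
    have h7 : (⟨m * (g * m⁻¹ * g⁻¹), hmem⟩ : M) =
        ⟨m, hm⟩ * MulAut.conjNormal g (⟨m, hm⟩ : M)⁻¹ := by
      apply Subtype.ext
      rw [Subgroup.coe_mul, MulAut.conjNormal_apply]
      rfl
    rw [h7, map_mul, h6, map_inv, mul_inv_cancel]
  rw [hMG] at h4
  ext m
  obtain ⟨m', hm', hmm⟩ := h4 m.2
  have h8 : m' = m := Subtype.ext hmm
  have h9 : w m' = 1 := hm'
  rw [← h8, h9, MonoidHom.one_apply]

/-- minimal normal subgroups in `G'` are central -/
theorem central_of_min (hIM : ∀ (r : ℕ) [Fact r.Prime] (T : Subgroup G), N ≤ T →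
    H670.PSing.IM r (T ⧸ N.subgroupOf T)) (M : Subgroup G) (hM : M.Normal) (hM1 : M ≠ ⊥)
    (hmin : ∀ K : Subgroup G, K.Normal → K < M → K = ⊥) (hMG : M ≤ commutator G) :
    M ≤ Subgroup.center G := by
  classical
  obtain ⟨P⟩ : Nonempty (Sylow p G) := inferInstance
  have hPn := h.sylow_normal (hIM p) P
  have hNP := h.hNp.le_sylow_of_normal P
  have hMPle : M ≤ (P : Subgroup G) := hMG.trans (h.commutator_le hIM P)
  -- `M` is central in `P`
  have hMP : ∀ m ∈ M, ∀ x ∈ (P : Subgroup G), m * x = x * m := by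
    obtain ⟨m, hm1, hmM, hmc⟩ : ∃ m : G, m ≠ 1 ∧ m ∈ M ∧ ∀ x ∈ (P : Subgroup G), m * x = x * m := by
      letI : MulAction (P : Subgroup G) M :=
        { smul := fun x m => MulAut.conjNormal (x : G) m
          one_smul := fun m => by
            show MulAut.conjNormal ((1 : (P : Subgroup G)) : G) m = m
            rw [OneMemClass.coe_one, map_one]; rfl
          mul_smul := fun x y m => by
            show MulAut.conjNormal ((x * y : (P : Subgroup G)) : G) m = _
            rw [Subgroup.coe_mul, map_mul]; rfl }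
      have hMp : IsPGroup p M := P.isPGroup'.to_le hMPle
      have hcard : p ∣ Nat.card M := by
        obtain ⟨n, hn⟩ := IsPGroup.iff_card.1 hMp
        rcases Nat.eq_zero_or_pos n with h0 | h0
        · exact absurd (Subgroup.card_eq_one.1 (by rw [hn, h0, pow_zero])) hM1
        · rw [hn]; exact dvd_pow_self p h0.ne'
      have hfix1 : (1 : M) ∈ MulAction.fixedPoints (P : Subgroup G) M := by
        intro x
        exact map_one (MulAut.conjNormal (x : G))
      obtain ⟨c, hc', hne'⟩ :=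
        P.isPGroup'.exists_fixed_point_of_prime_dvd_card_of_fixed_point _ hcard hfix1
      refine ⟨c, fun hc1 => hne' (Subtype.ext hc1.symm), c.2, fun x hx => ?_⟩
      have h1 := congrArg Subtype.val (hc' ⟨x, hx⟩)
      have h2 : x * (c : G) * x⁻¹ = c := h1
      calc (c : G) * x = x * c * x⁻¹ * x := by rw [h2]
        _ = x * c := by group
    let K : Subgroup G := M ⊓ Subgroup.centralizer (P : Set G)
    have hKn : K.Normal := by
      have : (Subgroup.centralizer ((P : Subgroup G) : Set G)).Normal := inferInstance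
      exact Subgroup.normal_inf_normal M _
    have hmK : m ∈ K := ⟨hmM, by
      show m ∈ Subgroup.centralizer _
      rw [Subgroup.mem_centralizer_iff]
      intro x hx
      exact (hmc x hx).symm⟩
    have hKM : K = M := by
      by_contra hne
      have h1 := hmin K hKn (lt_of_le_of_ne inf_le_left hne)
      rw [h1, Subgroup.mem_bot] at hmK
      exact hm1 hmK
    intro m' hm' x hx
    rw [← hKM] at hm'
    exact (Subgroup.mem_centralizer_iff.1 hm'.2 x hx).symm
  by_contra hcen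
  -- `[M, G] = M`
  haveI := hM
  have hMGM : ⁅M, (⊤ : Subgroup G)⁆ = M := by
    by_contra hne
    have hle : ⁅M, (⊤ : Subgroup G)⁆ ≤ M := Subgroup.commutator_le_left M ⊤
    have h1 := hmin _ inferInstance (lt_of_le_of_ne hle hne)
    apply hcen
    intro m hm
    rw [Subgroup.mem_center_iff]
    intro g
    have h2 : ⁅m, g⁆ ∈ ⁅M, (⊤ : Subgroup G)⁆ := Subgroup.commutator_mem_commutator hm trivial
    rw [h1, Subgroup.mem_bot, commutatorElement_eq_one_iff_mul_comm] at h2
    exact h2.symm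
  -- the abelian group `L = M N`
  set L : Subgroup G := M ⊔ N with hL
  have hML : M ≤ L := le_sup_left
  have hNL : N ≤ L := le_sup_right
  have hLab : ∀ a b : L, a * b = b * a := by
    have h1 : ∀ a ∈ L, ∀ b ∈ L, a * b = b * a := by
      intro a ha b hb
      obtain ⟨n, hn, z, hz, rfl⟩ := Subgroup.mem_sup_of_normal_left.1 ha
      obtain ⟨m, hm, w, hw, rfl⟩ := Subgroup.mem_sup_of_normal_left.1 hb
      have e1 : n * m = m * n := hMP n hn m (hMPle hm)
      have e2 : z * w = w * z := congrArg Subtype.val (h.hab ⟨z, hz⟩ ⟨w, hw⟩)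
      calc n * z * (m * w) = n * (z * m) * w := by group
        _ = n * (m * z) * w := by rw [hMP m hm z (hNP hz)]
        _ = (n * m) * (z * w) := by group
        _ = (m * n) * (w * z) := by rw [e1, e2]
        _ = m * (n * w) * z := by group
        _ = m * (w * n) * z := by rw [hMP n hn w (hNP hw)]
        _ = m * w * (n * z) := by group
    intro a b
    exact Subtype.ext (h1 a a.2 b b.2)
  obtain ⟨m0, hm0M, hm01⟩ := (Subgroup.ne_bot_iff_exists_ne_one.1 hM1 : ∃ a : M, a ≠ 1) |>.elim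
    (fun a ha => (⟨(a : G), a.2, fun h1 => ha (Subtype.ext h1)⟩ : ∃ m0 : G, m0 ∈ M ∧ m0 ≠ 1))
  let rN : (L →* ℂˣ) → (N →* ℂˣ) := fun ρ => ρ.comp (Subgroup.inclusion hNL)
  have key : ∃ ρ : L →* ℂˣ, rN ρ ∉ Orb.WS (ER h.hNp) ∧ ρ ⟨m0, hML hm0M⟩ ≠ 1 := by
    obtain ⟨b, hb⟩ := h.exists_notW
    obtain ⟨ρ1, hρ1⟩ := exists_dual_ext hLab (N.subgroupOf L)
      (b.comp (Subgroup.subgroupOfEquivOfLe hNL).toMonoidHom)
    have hρ1' : rN ρ1 = b := by
      ext n
      have := hρ1 ⟨⟨n, hNL n.2⟩, n.2⟩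
      exact congrArg Units.val this
    obtain ⟨ρ2, hρ2⟩ := exists_dual_ne hLab (a := (⟨m0, hML hm0M⟩ : L))
      (fun h1 => hm01 (congrArg Subtype.val h1))
    by_cases h1 : ρ1 ⟨m0, hML hm0M⟩ = 1
    · by_cases h2 : rN ρ2 ∈ Orb.WS (ER h.hNp)
      · refine ⟨ρ2 * ρ1, ?_, ?_⟩
        · have e : rN (ρ2 * ρ1) = rN ρ2 * rN ρ1 := rfl
          rw [e, hρ1']
          exact h.hyp.mul_notMem h2 hb
        · rw [MonoidHom.mul_apply, h1, mul_one]
          exact hρ2
      · exact ⟨ρ2, h2, hρ2⟩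
    · exact ⟨ρ1, by rw [hρ1']; exact hb, h1⟩
  obtain ⟨ρ, hρ1, hρ2⟩ := key
  haveI hLn : L.Normal := Subgroup.sup_normal M N
  obtain ⟨χ, hχ, ho⟩ := exists_over L _ (isIrr_lf ρ)
  have hover : ∀ (K : Subgroup G) (hK : K ≤ L), Over K.subtype χ
      (lf (ρ.comp (Subgroup.inclusion hK))) := by
    intro K hK
    letI := Fintype.ofFinite K
    have e : K.subtype = L.subtype.comp (Subgroup.inclusion hK) := by ext; rfl
    rw [e]
    refine (over_comp_iff _ _ (isIrr_isCharacter hχ) (isIrr_lf _)).2 ⟨lf ρ, isIrr_lf ρ, ho, ?_⟩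
    rw [over_iff]
    have e2 : lf ρ ∘ (Subgroup.inclusion hK) = lf (ρ.comp (Subgroup.inclusion hK)) := rfl
    rw [e2, classInner_irr_self (isIrr_lf _)]
    exact one_ne_zero
  have h1 := h.eq_one_of_over_min hIM P M hMP hMGM hρ1 hχ (hover N hNL) (hover M hML)
  apply hρ2
  exact DFunLike.congr_fun h1 ⟨m0, hm0M⟩

end Dat

/-- **The theorem**, from the Itô-Michler theorem for the sections `T ⧸ N`. -/
theorem disc_abelian (p : ℕ) [hp : Fact p.Prime] (N : Subgroup G) [hN : N.Normal]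
    (hNp : IsPGroup p N) (hNab : IsMulCommutative N) (hNG : N ≤ commutator G) (P : Sylow p G)
    (hdisc : ¬ (Cfsg.commonDivisorGraph.induce (Cfsg.relCharDegrees N)).Preconnected)
    (hIM : ∀ (r : ℕ) [Fact r.Prime] (T : Subgroup G), N ≤ T →
      H670.PSing.IM r (T ⧸ N.subgroupOf T)) :
    (P : Subgroup G).Normal ∧ commutator G ≤ P ∧ ⁅(P : Subgroup G), (P : Subgroup G)⁆ ≤ N ∧
      (∀ d ∈ Cfsg.relCharDegrees N, (∃ k : ℕ, d = p ^ k) ∨ Nat.Coprime d p) ∧
      (∃ x ∈ N, ∃ y ∈ (P : Subgroup G), x * y ≠ y * x) ∧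
      ∀ M : Subgroup G, M.Normal → M ≠ ⊥ → (∀ K : Subgroup G, K.Normal → K < M → K = ⊥) →
        M ≤ commutator G → M ≤ Subgroup.center G := by
  have hab : ∀ a b : N, a * b = b * a := fun a b => hNab.is_comm.comm a b
  -- the two vertices
  obtain ⟨a, b, hab'⟩ : ∃ a b : ↥(relCharDegrees N),
      ¬ (commonDivisorGraph.induce (relCharDegrees N)).Reachable a b := by
    by_contra hcon
    push Not at hcon
    exact hdisc hcon
  have hnc : ¬ Conn N (a : ℕ) (b : ℕ) := fun ⟨_, _, h⟩ => hab' h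
  have hNcomm : ⁅N, N⁆ = ⊥ := by
    rw [Subgroup.commutator_eq_bot_iff_le_centralizer]
    intro x hx
    rw [Subgroup.mem_centralizer_iff]
    intro y hy
    exact congrArg Subtype.val (hab ⟨y, hy⟩ ⟨x, hx⟩)
  have hNne := ne_bot_of_mem_rel a.2
  have hpm : p ∣ ⁅N, N⁆.relIndex N := by
    rw [hNcomm, Subgroup.relIndex_bot_left]
    obtain ⟨n, hn⟩ := IsPGroup.iff_card.1 hNp
    rcases Nat.eq_zero_or_pos n with h0 | h0
    · exact absurd (Subgroup.card_eq_one.1 (by rw [hn, h0, pow_zero])) hNne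
    · rw [hn]; exact dvd_pow_self p h0.ne'
  obtain ⟨x, y, hx, hy, hxy, hpx, hpy⟩ : ∃ x y : ℕ, x ∈ relCharDegrees N ∧ y ∈ relCharDegrees N ∧
      ¬ Conn N x y ∧ p ∣ x ∧ ¬ p ∣ y := by
    rcases (xor_of_not_conn hNG hpm a.2 b.2 hnc).1 with h1 | h1
    · exact ⟨a, b, a.2, b.2, hnc, h1.1, h1.2⟩
    · exact ⟨b, a, b.2, a.2, fun h2 => hnc h2.symm, h1.1, h1.2⟩
  have h : Dat p N :=
    { hNp := hNp
      hab := hab
      hNG := hNG
      cop := by
        intro c hc d hd hpc hpd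
        by_contra hncop
        have h1 := not_conn_side hNG hpm hx hy hxy hc hpx hpc
        apply h1
        exact (Conn.of_dvd hx hd hp.out.one_lt hpx hpd).trans
          (Conn.of_not_coprime hd hc (fun h2 => hncop h2.symm))
      exa := ⟨y, hy, hpy⟩
      exb := ⟨x, hx, hpx⟩ }
  have hPn := h.sylow_normal (hIM p) P
  refine ⟨hPn, h.commutator_le hIM P, ?_, ?_, ?_, ?_⟩
  · rw [Subgroup.commutator_le]
    intro x hx y hy
    rw [commutatorElement_def]
    exact h.comm_mem (hIM p) P x hx y hy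
  · intro d hd
    by_cases hpd : p ∣ d
    · exact Or.inl (h.exists_pow hIM P hd hpd)
    · exact Or.inr ((Nat.Prime.coprime_iff_not_dvd hp.out).2 hpd).symm
  · by_contra hcon
    push Not at hcon
    obtain ⟨b, hb⟩ := h.exists_notW
    apply hb
    refine h.hyp.fixed_mem P h.exists_W (fun x hx => ?_)
    ext n
    rw [smul_apply]
    congr 2
    apply Subtype.ext
    rw [MulAut.conjNormal_apply, inv_inv, mul_assoc, hcon n n.2 x hx, inv_mul_cancel_left]
  · intro M hM hM1 hmin hMG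
    exact h.central_of_min hIM M hM hM1 hmin hMG

end Cfsg.Agent.H673
end
end
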