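import Mathlib
import Cfsg.Agent.H673.DiscAb2
import Cfsg.Agent.H673.Disc
import Cfsg.Agent.H706.Canon
import Cfsg.Agent.S0026
import Cfsg.Agent.Lib.FrattiniBasic
import Cfsg.Agent.H672.Main
import Cfsg.Agent.H670.PSing
import Cfsg.Agent.H597.FrobC
import Cfsg.Agent.Characters.Central
import Cfsg.Agent.S0188
import Cfsg.Agent.FastGrp
import Cfsg.Agent.Prune
set_option linter.all false

section
prune_inst 0x7ffcfefba9a88ddfffff7fbffe91dffc10c4cfffefdfb94bffe1e9bfefdf232329c5fb950df058fc9ff7e2b430b87813f97eceffeb6bdc7ffffd5ff41ffbee1fe5ffb70851d488240fbe2ffef3f37fae6f3ffffffffffffffffffffff7fffffffffffbfeffff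

-- part: H673/ConnE
section
prune_inst 0x20100064400000000000000440003e4292000100042b0001c1040000048c8d0300000f20f00032000110a064003a8008100000490010000000008600411c0080048a52c22241b104040010808801190c00000000000000000000008000000000004010000
set_option linter.all false
open scoped Cfsg.Agent.FastGrp

-- part: H673/Orb2
section
/-!
# Orbits on an abelian group: further lemmas
-/

set_option autoImplicit false
set_option linter.unusedSectionVars false
set_option linter.style.haveILetI false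

namespace Cfsg.Agent.H673.Orb

open MulAction

universe u v

section basic

variable {G : Type u} [Group G] [Finite G] {V : Type v} [CommGroup V] [MulDistribMulAction G V]

theorem index_eq_of_coprime {a b : V}
    (h1 : Nat.Coprime (stabilizer G a).index (stabilizer G b).index)
    (h2 : Nat.Coprime (stabilizer G (a * b)).index (stabilizer G b).index) :
    (stabilizer G a).index = (stabilizer G (a * b)).index := by
  have hinf : stabilizer G a ⊓ stabilizer G b = stabilizer G (a * b) ⊓ stabilizer G b := by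
    ext x
    simp only [Subgroup.mem_inf, mem_stabilizer_iff, smul_mul']
    constructor
    · rintro ⟨h3, h4⟩
      rw [h3, h4]
      exact ⟨rfl, rfl⟩
    · rintro ⟨h3, h4⟩
      rw [h4] at h3
      exact ⟨mul_right_cancel h3, h4⟩
  have h3 := index_inf_of_coprime _ _ h1
  have h4 := index_inf_of_coprime _ _ h2
  rw [hinf, h4] at h3
  exact (Nat.eq_of_mul_eq_mul_right (Nat.pos_of_ne_zero Subgroup.index_ne_zero_of_finite) h3).symm

theorem stab_one : stabilizer G (1 : V) = ⊤ := by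
  rw [eq_top_iff]
  intro g _
  exact mem_stabilizer_iff.2 (smul_one g)

theorem stab_mul_of_fixed (a : V) {l : V} (hl : ∀ g : G, g • l = l) :
    stabilizer G (a * l) = stabilizer G a := by
  ext g
  rw [mem_stabilizer_iff, mem_stabilizer_iff, smul_mul', hl g]
  exact ⟨fun h1 => mul_right_cancel h1, fun h1 => by rw [h1]⟩

theorem stab_of_mul_eq_one {a b : V} (h : a * b = 1) : stabilizer G a = stabilizer G b := by
  have h3 : a = b⁻¹ := eq_inv_of_mul_eq_one_left h
  ext g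
  rw [mem_stabilizer_iff, mem_stabilizer_iff, h3, smul_inv', inv_inj]

/-- `V` has exponent a power of `p` -/
def PV (p : ℕ) (V : Type v) [CommGroup V] : Prop := ∃ k : ℕ, ∀ a : V, a ^ (p ^ k) = 1

theorem PV.eq_one {p : ℕ} [hp : Fact p.Prime] (h : PV p V) {a : V} {m : ℕ} (hm : ¬ p ∣ m)
    (ha : a ^ m = 1) : a = 1 := by
  obtain ⟨k, hk⟩ := h
  exact eq_one_of_coprime_pow
    (Nat.Coprime.pow_right k ((Nat.Prime.coprime_iff_not_dvd hp.out).2 hm).symm) ha (hk a)

theorem PV.exists_pow {p : ℕ} [hp : Fact p.Prime] (h : PV p V) {m : ℕ} (hm : ¬ p ∣ m) :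
    ∃ j : ℕ, ∀ a : V, a ^ (m * j) = a := by
  obtain ⟨k, hk⟩ := h
  have hcop : Nat.Coprime m (p ^ k) :=
    Nat.Coprime.pow_right k ((Nat.Prime.coprime_iff_not_dvd hp.out).2 hm).symm
  obtain ⟨j, hj⟩ : ∃ j : ℕ, m * j ≡ 1 [MOD p ^ k] := by
    by_cases hk1 : 1 < p ^ k
    · obtain ⟨j, hj⟩ := Nat.exists_mul_mod_eq_one_of_coprime hcop hk1
      exact ⟨j, by rw [Nat.ModEq, hj.2, Nat.mod_eq_of_lt hk1]⟩
    · have : p ^ k = 1 := le_antisymm (not_lt.1 hk1) (Nat.one_le_pow _ _ hp.out.pos)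
      exact ⟨0, by rw [this]; exact Nat.modEq_one⟩
  refine ⟨j, fun a => ?_⟩
  have h6 : a ^ (m * j) = a ^ 1 :=
    pow_eq_pow_iff_modEq.2 (hj.of_dvd (orderOf_dvd_of_pow_eq_one (hk a)))
  rwa [pow_one] at h6

theorem PV.isPGroup {p : ℕ} (h : PV p V) : IsPGroup p V := by
  obtain ⟨k, hk⟩ := h
  exact fun a => ⟨k, hk a⟩

theorem PV.isPGroup_subgroup {p : ℕ} (h : PV p V) (U : Subgroup V) : IsPGroup p U :=
  h.isPGroup.to_subgroup U

/-- the orbit product is invariant -/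
theorem exists_invariant_pow [Finite V] (b : V) (hinv : ∀ v : V, (∀ g : G, g • v = v) → v = 1)
    {H : Submonoid V} (hH : ∀ g : G, (g • b) * b⁻¹ ∈ H) : b⁻¹ ^ (stabilizer G b).index ∈ H := by
  classical
  have hfin : (orbit G b).Finite := Set.finite_range _
  set O : Finset V := hfin.toFinset with hO
  have hOmem : ∀ {x : V}, x ∈ O ↔ x ∈ orbit G b := by intro x; rw [hO, Set.Finite.mem_toFinset]
  have hOc : O.card = (stabilizer G b).index := by
    rw [index_stabilizer, Set.ncard_eq_toFinset_card _ hfin]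
  have hprod : ∏ x ∈ O, x = 1 := by
    apply hinv
    intro g
    rw [Finset.smul_prod']
    have himg : O.image (fun x => g • x) = O := by
      refine Finset.eq_of_subset_of_card_le ?_ ?_
      · intro y hy
        obtain ⟨x, hx, rfl⟩ := Finset.mem_image.1 hy
        obtain ⟨k, rfl⟩ := hOmem.1 hx
        exact hOmem.2 ⟨g * k, mul_smul g k b⟩
      · rw [Finset.card_image_of_injective _ (MulAction.injective g)]
    conv_rhs => rw [← himg]
    rw [Finset.prod_image (fun x _ y _ hxy => MulAction.injective g hxy)]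
  have h3 : ∏ x ∈ O, (x * b⁻¹) ∈ H := Submonoid.prod_mem _ (by
    intro x hx
    obtain ⟨g, rfl⟩ := hOmem.1 hx
    exact hH g)
  rwa [Finset.prod_mul_distrib, hprod, one_mul, Finset.prod_const, hOc] at h3

/-- The orbit of `a` is stable under multiplication by the orbit of `b`. -/
theorem stable_of_coprime [Finite V] {p : ℕ} [hp : Fact p.Prime] (hV : PV p V) {a b : V}
    (hinv : ∀ v : V, (∀ g : G, g • v = v) → v = 1) (hb : ¬ p ∣ (stabilizer G b).index)
    (h1 : Nat.Coprime (stabilizer G a).index (stabilizer G b).index)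
    (h2 : Nat.Coprime (stabilizer G (a * b)).index (stabilizer G b).index) (g k : G) :
    ∃ y : G, y • a = (k • a) * (g • b) := by
  let H : Submonoid V :=
    { carrier := {x | ∀ k : G, ∃ y : G, y • a = (k • a) * x}
      one_mem' := fun k => ⟨k, by rw [mul_one]⟩
      mul_mem' := by
        intro x y hx hy k
        obtain ⟨k1, hk1⟩ := hx k
        obtain ⟨k2, hk2⟩ := hy k1
        exact ⟨k2, by rw [hk2, hk1, mul_assoc]⟩ }
  have h3 : b⁻¹ ^ (stabilizer G b).index ∈ H :=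
    exists_invariant_pow b hinv (H := H) (fun g k => shift h1 h2 g k)
  obtain ⟨j, hj⟩ := hV.exists_pow hb
  have h4 : b⁻¹ ∈ H := by
    have h5 := H.pow_mem h3 j
    rwa [← pow_mul, hj] at h5
  obtain ⟨n, hn⟩ := hV
  have h5 : b ∈ H := by
    have h5 := H.pow_mem h4 (p ^ n - 1)
    have h6 : b⁻¹ ^ (p ^ n - 1) = b := by
      have h8 : b⁻¹ ^ (p ^ n - 1) * b⁻¹ = 1 := by
        rw [← pow_succ, Nat.sub_add_cancel (Nat.one_le_pow _ _ hp.out.pos), hn]
      rw [mul_inv_eq_one] at h8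
      exact h8
    rwa [h6] at h5
  have h6 : g • b ∈ H := by
    have h7 : ((g • b) * b⁻¹) * b ∈ H := H.mul_mem (fun k => shift h1 h2 g k) h5
    rwa [inv_mul_cancel_right] at h7
  exact h6 k

theorem smul_eq_of_coprime {p : ℕ} [hp : Fact p.Prime] (hV : PV p V) {a b : V}
    (ha : ¬ p ∣ (stabilizer G a).index)
    (h1 : Nat.Coprime (stabilizer G a).index (stabilizer G b).index)
    (h2 : Nat.Coprime (stabilizer G (a * b)).index (stabilizer G b).index) (g : G) :
    g • b = b := by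
  have h3 := pow_eq_one_of_orbit (G := G) (a := a) (x := (g • b) * b⁻¹) (fun k => shift h1 h2 g k)
  exact mul_inv_eq_one.1 (hV.eq_one ha h3)

/-- the norm map -/
noncomputable def nm (F : Subgroup G) : V →* V :=
  letI := Fintype.ofFinite F
  { toFun := fun v => ∏ g : F, (g : G) • v
    map_one' := by simp
    map_mul' := by
      intro v w
      simp only [smul_mul', Finset.prod_mul_distrib] }

theorem nm_apply (F : Subgroup G) [Fintype F] (v : V) : nm F v = ∏ g : F, (g : G) • v := by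
  have : ‹Fintype F› = Fintype.ofFinite F := Subsingleton.elim _ _
  rw [this]; rfl

theorem smul_nm (F : Subgroup G) {y : G} (hy : y ∈ F) (v : V) : y • nm F v = nm F v := by
  letI := Fintype.ofFinite F
  rw [nm_apply, Finset.smul_prod']
  refine Fintype.prod_equiv (Equiv.mulLeft (⟨y, hy⟩ : F)) _ _ (fun g => ?_)
  rw [Equiv.coe_mulLeft, ← mul_smul]; rfl

theorem nm_smul (F : Subgroup G) {y : G} (hy : y ∈ F) (v : V) : nm F (y • v) = nm F v := by
  letI := Fintype.ofFinite F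
  rw [nm_apply, nm_apply]
  refine Fintype.prod_equiv (Equiv.mulRight (⟨y, hy⟩ : F)) _ _ (fun g => ?_)
  rw [Equiv.coe_mulRight, ← mul_smul]; rfl

theorem nm_of_fixed (F : Subgroup G) {v : V} (hv : ∀ y ∈ F, y • v = v) :
    nm F v = v ^ Nat.card F := by
  letI := Fintype.ofFinite F
  rw [nm_apply, Finset.prod_congr rfl (fun (g : F) _ => hv (g : G) g.2), Finset.prod_const,
    Finset.card_univ, Nat.card_eq_fintype_card]

theorem nm_comm (F : Subgroup G) {x : G} (hc : ∀ y ∈ F, ∀ v : V, x • y • v = y • x • v) (v : V) :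
    nm F (x • v) = x • nm F v := by
  letI := Fintype.ofFinite F
  rw [nm_apply, nm_apply, Finset.smul_prod']
  refine Finset.prod_congr rfl (fun g _ => ?_)
  rw [hc g g.2]

theorem nm_conj (F : Subgroup G) {x : G} (hc : ∀ y ∈ F, x * y * x⁻¹ ∈ F) (v : V) :
    nm F (x • v) = x • nm F v := by
  letI := Fintype.ofFinite F
  rw [nm_apply, nm_apply, Finset.smul_prod']
  symm
  let f : F → F := fun y => ⟨x * y * x⁻¹, hc y y.2⟩
  have hf : Function.Bijective f := by
    rw [← Finite.injective_iff_bijective]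
    intro a b hab
    have h1 : x * (a : G) * x⁻¹ = x * b * x⁻¹ := congrArg Subtype.val hab
    exact Subtype.ext (mul_left_cancel (mul_right_cancel h1))
  refine Fintype.prod_bijective f hf _ _ (fun g => ?_)
  show x • (g : G) • v = (x * g * x⁻¹) • x • v
  rw [← mul_smul, ← mul_smul, inv_mul_cancel_right]

theorem nm_mem (F : Subgroup G) (U : Subgroup V) (hU : ∀ y ∈ F, ∀ v ∈ U, y • v ∈ U) {v : V}
    (hv : v ∈ U) : nm F v ∈ U := by
  letI := Fintype.ofFinite F
  rw [nm_apply]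
  exact Subgroup.prod_mem U (fun g _ => hU g g.2 v hv)

theorem exists_nm_ne {F : Subgroup G} (h : ∃ y ∈ F, ∃ v : V, y • v ≠ v) :
    ∃ l : V, l ≠ 1 ∧ nm F l = 1 := by
  obtain ⟨y, hy, v, hv⟩ := h
  refine ⟨(y • v) * v⁻¹, fun h => hv (mul_inv_eq_one.1 h), ?_⟩
  rw [map_mul, map_inv, nm_smul F hy, mul_inv_cancel]

/-- Fixed points in cosets. -/
theorem exists_fixed_in_coset {p : ℕ} [hp : Fact p.Prime] (hV : PV p V) (L : Subgroup G)
    (hL : ¬ p ∣ Nat.card L) (W U : Subgroup V)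
    (hUL : ∀ g ∈ L, ∀ w ∈ U, g • w ∈ U) {a : V} (haU : a ∈ U)
    (ha : ∀ g ∈ L, (g • a) * a⁻¹ ∈ W) :
    ∃ b : V, b ∈ U ∧ b * a⁻¹ ∈ W ∧ ∀ g ∈ L, g • b = b := by
  letI := Fintype.ofFinite L
  obtain ⟨j, hj⟩ := hV.exists_pow hL
  refine ⟨nm L a ^ j, U.pow_mem (nm_mem L U hUL haU) j, ?_, ?_⟩
  · have h1 : nm L a * (a ^ Nat.card L)⁻¹ ∈ W := by
      have h2 : nm L a * (a ^ Nat.card L)⁻¹ = ∏ g : L, ((g : G) • a) * a⁻¹ := by
        rw [nm_apply, Finset.prod_mul_distrib, Finset.prod_const, Finset.card_univ,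
          Nat.card_eq_fintype_card, inv_pow]
      rw [h2]
      exact Subgroup.prod_mem W (fun g _ => ha g g.2)
    have h3 := W.pow_mem h1 j
    rwa [mul_pow, inv_pow, ← pow_mul, hj] at h3
  · intro g hg
    rw [smul_pow', smul_nm L hg]

theorem exists_fixed_coset' [Finite V] {p : ℕ} [hp : Fact p.Prime] (hV : PV p V)
    (P : Subgroup G) (hP : IsPGroup p P) (W : Subgroup V)
    (hWP : ∀ x ∈ P, ∀ w ∈ W, x • w ∈ W) (hW : ∃ b : V, b ∉ W) :
    ∃ b : V, b ∉ W ∧ ∀ x ∈ P, (x • b) * b⁻¹ ∈ W := by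
  haveI : MulAction.QuotientAction P W := ⟨by
    intro x a a' ha
    have h1 : (x • a)⁻¹ * (x • a') = (x : G) • (a⁻¹ * a') := by
      rw [smul_mul', smul_inv']; rfl
    rw [h1]
    exact hWP _ x.2 _ ha⟩
  have hcard : p ∣ Nat.card (V ⧸ W) := by
    have h1 := hV.isPGroup.to_quotient W
    obtain ⟨n, hn⟩ := IsPGroup.iff_card.1 h1
    rcases Nat.eq_zero_or_pos n with h0 | h0
    · exfalso
      rw [h0, pow_zero] at hn
      obtain ⟨b, hb⟩ := hW
      apply hb
      have h2 : W.index = 1 := hn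
      rw [Subgroup.index_eq_one] at h2
      rw [h2]
      trivial
    · rw [hn]; exact dvd_pow_self p h0.ne'
  have hfix : ((1 : V) : V ⧸ W) ∈ fixedPoints P (V ⧸ W) := by
    intro x
    show (((x : G) • (1 : V) : V) : V ⧸ W) = _
    rw [smul_one]
  obtain ⟨c, hc, hne⟩ := hP.exists_fixed_point_of_prime_dvd_card_of_fixed_point _ hcard hfix
  obtain ⟨b, rfl⟩ := QuotientGroup.mk_surjective c
  refine ⟨b, ?_, ?_⟩
  · intro hb
    apply hne
    rw [QuotientGroup.eq, inv_one, one_mul]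
    exact hb
  · intro x hx
    have h2 := hc ⟨x, hx⟩
    have h3 : ((x • b : V) : V ⧸ W) = (b : V ⧸ W) := h2
    have h4 := QuotientGroup.eq.1 h3.symm
    rwa [mul_comm] at h4

end basic

end Cfsg.Agent.H673.Orb
end

-- part: H673/ConnA
section
/-!
# The relative degree graph: the connected case, diameter at most four
-/

set_option autoImplicit false
set_option linter.style.haveILetI false
set_option linter.unusedSectionVars false
open Cfsg

namespace Cfsg.Agent.H673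

open Cfsg.Agent.H672
open Cfsg.Agent.Characters.Core Cfsg.Agent.Characters.Clifford
open scoped ComplexConjugate

universe u v w

section one

variable {G : Type u} [Group G] [Finite G] {N : Subgroup G} [hN : N.Normal]

/-- **Case II**, refined. -/
theorem caseII' (hNG : N ≤ commutator G) {p : ℕ} [hp : Fact p.Prime] (P : Sylow p G)
    (hpm : p ∣ ⁅N, N⁆.relIndex N)
    (hno : ∀ (l : N →* ℂˣ) (k : ℕ), (∀ n, l n ^ p ^ k = 1) →
      ∀ ν : (N ⊔ (P : Subgroup G) : Subgroup G) →* ℂˣ, (∀ n : N, ν (inclK N P n) = l n) → l = 1) :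
    ∀ a ∈ relCharDegrees N, ∃ b ∈ relCharDegrees N, p ∣ b ∧ ¬ Nat.Coprime a b := by
  intro a ha
  by_cases hpa : p ∣ a
  · exact ⟨a, ha, hpa, not_coprime_self (one_lt_of_mem_rel hNG ha)⟩
  obtain ⟨⟨χ, hχ⟩, hk, rfl⟩ := ha
  dsimp only at hk hpa ⊢
  have ha : charDegree χ ∈ relCharDegrees N := ⟨⟨χ, hχ⟩, hk, rfl⟩
  obtain ⟨θ, hθ, ho, ξ, hξ, hξθ⟩ := exists_extendible N P hχ hpa
  obtain ⟨l, hl1, hl, hPl⟩ := exists_invariant N (P : Subgroup G) P.isPGroup' hpm
  have hl' : ∀ n, l n ^ p ^ 1 = 1 := by intro n; rw [pow_one]; exact hl n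
  have hθ1 := ne_one_of_over N hχ hk hθ ho
  have hKl : N ⊔ (P : Subgroup G) ≤ inertia N (lf l) :=
    sup_le (le_inertia (isIrr_isClassFunction (isIrr_lf l))) hPl
  have hKθ : N ⊔ (P : Subgroup G) ≤ inertia N θ :=
    le_inertia_of_extends (isIrr_isClassFunction hξ) hξθ
  have hlθ := isIrr_mul_lf l hθ
  obtain ⟨ψ, hψ, hψo⟩ := exists_over N _ hlθ
  have hlθ1 : (fun n : N => (l n : ℂ) * θ n) ≠ 1 := by
    intro h
    have hd : charDegree θ = 1 := by
      rw [← charDegree_mul_lf l θ, h]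
      exact charDegree_of_eq (by simp)
    have hdξ : charDegree ξ = 1 := by
      rw [← charDegree_comp_one (inclK N (P : Subgroup G)), hξθ, hd]
    obtain ⟨ν, rfl⟩ := exists_hom_of_degree_one hξ hdξ
    apply hl1
    refine hno l 1 hl' ν⁻¹ ?_
    intro n
    have h1 := congrFun h n
    rw [← hξθ] at h1
    have h2 : l n * ν (inclK N P n) = 1 := by
      apply Units.ext
      rw [Units.val_mul]
      exact h1
    rw [MonoidHom.inv_apply]
    exact (eq_inv_of_mul_eq_one_left h2).symm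
  have hψm : charDegree ψ ∈ relCharDegrees N :=
    mem_relCharDegrees_of_over N hψ hlθ hψo hlθ1
  have hpψ : p ∣ charDegree ψ := by
    by_contra hcon
    have hinv : (P : Subgroup G) ≤ inertia N (fun n => (l n : ℂ) * θ n) := fun g hg =>
      (mem_inertia_mul N (hPl hg)).2 (hKθ (le_sup_right (a := N) hg))
    obtain ⟨ξ₂, hξ₂, hξ₂θ⟩ := extends_of_invariant N P hlθ hinv hψ hψo hcon
    obtain ⟨m, hm⟩ := lin_ext_of_two (inclK N (P : Subgroup G)) (inclK_injective N _)
      (inclK_range_normal N _) hξ hξ₂ hθ l (by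
        intro k h h' e
        have h1 := (mem_inertia_lf N).1 (hKl k.2) h
        rw [← h1]
        have e' : h' = MulAut.conjNormal (k : G) h := by
          apply Subtype.ext
          rw [MulAut.conjNormal_apply]
          exact congrArg Subtype.val e
        rw [e']) hξθ hξ₂θ
    exact hl1 (hno l 1 hl' m hm)
  refine ⟨charDegree ψ, hψm, hpψ, ?_⟩
  have hθχ : charDegree θ ∣ charDegree χ :=
    (dvd_mul_left _ _).trans (index_mul_charDegree_dvd N hχ hθ ho)
  by_cases hθ2 : charDegree θ = 1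
  swap
  · intro hcop
    have h1 := index_mul_charDegree_dvd N hψ hlθ hψo
    rw [charDegree_mul_lf] at h1
    exact hθ2 (Nat.eq_one_of_dvd_coprimes hcop hθχ ((dvd_mul_left _ _).trans h1))
  · obtain ⟨ϕ, rfl⟩ := exists_hom_of_degree_one hθ hθ2
    have hdξ : charDegree ξ = 1 := by
      rw [← charDegree_comp_one (inclK N (P : Subgroup G)), hξθ, hθ2]
    obtain ⟨ν, rfl⟩ := exists_hom_of_degree_one hξ hdξ
    obtain ⟨b, n', hn', hn'0, hpow⟩ := card_factor (H := N) p
    have hϕn : ∀ x, ϕ x ^ (1 * n') = 1 := by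
      have h1 : ϕ ^ n' = 1 := by
        refine hno (ϕ ^ n') b ?_ (ν ^ n') ?_
        · intro n
          rw [MonoidHom.pow_apply, ← pow_mul, mul_comm]
          exact hpow ϕ n
        · intro n
          rw [MonoidHom.pow_apply, MonoidHom.pow_apply]
          congr 1
          exact Units.ext (congrFun hξθ n)
      intro x
      rw [one_mul]
      exact DFunLike.congr_fun h1 x
    have e : (fun n : N => (l n : ℂ) * lf ϕ n) = lf (l * ϕ ^ 1) := by
      funext n
      rw [lf_apply, lf_apply, MonoidHom.mul_apply, MonoidHom.pow_apply, pow_one, Units.val_mul]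
    refine not_coprime_of_over hNG hl' hn' hϕn ?_ hχ ho hψ (e ▸ hψo)
    by_contra hcon
    push Not at hcon
    apply hθ1
    funext n
    have := hcon n
    rw [pow_one] at this
    simp [lf, this]

/-- If `b` lies over a nontrivial linear character of `N` and is prime to `|N : N'|` then there is a
prime divisor `r` of `|N : N'|` such that every degree prime to `r` is within distance two. -/
theorem near_of_linear' (hNG : N ≤ commutator G) {χ : G → ℂ} (hχ : IsIrrCharacter G χ)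
    {ϕ : N →* ℂˣ} (hϕ : ϕ ≠ 1) (ho : Over N.subtype χ (lf ϕ))
    (hcop : Nat.Coprime (charDegree χ) (⁅N, N⁆.relIndex N)) :
    ∃ r : ℕ, r.Prime ∧ r ∣ ⁅N, N⁆.relIndex N ∧ ∀ c ∈ relCharDegrees N, ¬ r ∣ c →
    ∃ d ∈ relCharDegrees N, ¬ Nat.Coprime (charDegree χ) d ∧ ¬ Nat.Coprime d c := by
  obtain ⟨r, j, hr, ⟨x, hx⟩, hj⟩ := exists_pow_prime ϕ hϕ
  haveI : Fact r.Prime := ⟨hr⟩
  have hl1 : ϕ ^ j ≠ 1 := fun h => hx (DFunLike.congr_fun h x)
  have hl : ∀ x, (ϕ ^ j) x ^ r = 1 := by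
    intro x; rw [MonoidHom.pow_apply, ← pow_mul]; exact hj x
  have hrm := dvd_relIndex_of_pow hr hl1 hl
  have hrb : ¬ r ∣ charDegree χ := fun h => hr.one_lt.ne' (Nat.eq_one_of_dvd_coprimes hcop h hrm)
  obtain ⟨R, ν, hν⟩ := exists_extends_of_lin hχ ho hrb
  refine ⟨r, hr, hrm, fun c hc hrc => ?_⟩
  obtain ⟨d, hd, h1, h2⟩ := caseI' hNG R (k := 1) hl1 (by intro n; rw [pow_one]; exact hl n)
    (ν ^ j) (by intro n; rw [MonoidHom.pow_apply, MonoidHom.pow_apply, hν]) c hc hrc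
  refine ⟨d, hd, ?_, fun h => h1 h.symm⟩
  intro h
  apply h2
  have h3 : (inertia N (lf (ϕ ^ j))).index ∣ charDegree χ :=
    (Subgroup.index_dvd_of_le (inertia_pow N ϕ j)).trans (index_dvd_of_over hχ (isIrr_lf _) ho)
  exact (h.coprime_dvd_left h3).symm

/-- The inertia group of a suitable twist of `θ` is contained in the one of `l`. -/
theorem exists_twist {θ : N → ℂ} (hθ : IsIrrCharacter N θ)
    (hcop : Nat.Coprime (charDegree θ) (⁅N, N⁆.relIndex N)) (l : N →* ℂˣ) :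
    ∃ μ : N →* ℂˣ, inertia N (fun n => (μ n : ℂ) * θ n) ≤ inertia N (lf l) := by
  obtain ⟨δ, hδ⟩ := CharactersDeep.ExtUnique.exists_hom_detChar hθ
  rw [← index_commutator_eq_relIndex] at hcop
  set m := (commutator N).index with hm
  set d := charDegree θ with hd
  have hpow : ∀ a : N →* ℂˣ, a ^ m = 1 := by
    intro a
    ext x
    have h1 : a = (Abelianization.lift a).comp Abelianization.of := by
      ext y
      rw [MonoidHom.comp_apply, Abelianization.lift_apply_of]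
    rw [MonoidHom.pow_apply, h1, MonoidHom.comp_apply, ← map_pow]
    have h2 : (Abelianization.of x) ^ m = 1 := by
      have h3 : m = Nat.card (Abelianization N) := rfl
      rw [h3, pow_card_eq_one']
    rw [h2, map_one]
    rfl
  obtain ⟨e, he⟩ : ∃ e : ℕ, ∀ a : N →* ℂˣ, a ^ (d * e) = a := by
    by_cases hm1 : 1 < m
    · obtain ⟨e, he⟩ := Nat.exists_mul_mod_eq_one_of_coprime hcop hm1
      refine ⟨e, fun a => ?_⟩
      have h1 : d * e = m * (d * e / m) + 1 := by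
        have := Nat.div_add_mod (d * e) m
        rw [he.2] at this
        exact this.symm
      ext x
      have h2 := DFunLike.congr_fun (hpow a) x
      rw [MonoidHom.pow_apply, MonoidHom.one_apply] at h2
      rw [h1, MonoidHom.pow_apply, pow_add, pow_mul, h2, one_pow, one_mul, pow_one]
    · have hm0 : m ≠ 0 := Subgroup.index_ne_zero_of_finite
      have hm2 : m = 1 := by omega
      refine ⟨1, fun a => ?_⟩
      ext x
      have h2 := DFunLike.congr_fun (hpow a) x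
      rw [MonoidHom.pow_apply, MonoidHom.one_apply, hm2, pow_one] at h2
      rw [MonoidHom.pow_apply, h2, one_pow]
  refine ⟨l * (δ⁻¹) ^ e, fun g hg => ?_⟩
  set μ := l * (δ⁻¹) ^ e with hμ
  have hμd : μ ^ d * δ = l ^ d := by
    ext x
    have h2 := DFunLike.congr_fun (he δ⁻¹) x
    rw [MonoidHom.pow_apply, MonoidHom.inv_apply] at h2
    rw [hμ, MonoidHom.mul_apply, MonoidHom.pow_apply, MonoidHom.pow_apply, MonoidHom.mul_apply,
      MonoidHom.pow_apply, MonoidHom.inv_apply, mul_pow, ← pow_mul, mul_comm e d, h2,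
      inv_mul_cancel_right]
  have hdet : detChar (fun n => (μ n : ℂ) * θ n) = lf (l ^ d) := by
    have h1 := CharactersDeep.ExtUnique.detChar_mul_hom hθ (coe_charDegree hθ).symm μ
    have h2 : (fun n => (μ n : ℂ) * θ n) = fun n => θ n * (μ n : ℂ) := by
      funext n; rw [mul_comm]
    rw [h2, h1]
    funext n
    have h5 : ((μ n) ^ d * δ n : ℂˣ) = (l ^ d) n := by rw [← hμd]; rfl
    rw [hδ, lf_apply, ← h5, Units.val_mul, Units.val_pow_eq_pow_val, mul_comm]
  have hinv : g ∈ inertia N (lf (l ^ d)) := by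
    rw [mem_inertia] at hg ⊢
    rw [← hdet, ← H706.Canon.detChar_comp (isIrr_mul_lf μ hθ) (MulAut.conjNormal g), hg]
  have h3 := inertia_pow N (l ^ d) e hinv
  have h4 : (l ^ d) ^ e = l := by
    ext x
    have h2 := DFunLike.congr_fun (he l) x
    rw [MonoidHom.pow_apply] at h2
    rw [MonoidHom.pow_apply, MonoidHom.pow_apply, ← pow_mul, h2]
  rwa [h4] at h3

end one

variable {G : Type u} [Group G] [Finite G]

/-- chains of length four -/
def Ch4 (N : Subgroup G) (a b : ℕ) : Prop :=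
  ∃ c ∈ relCharDegrees N, ∃ d ∈ relCharDegrees N, ∃ e ∈ relCharDegrees N,
    ¬ Nat.Coprime a c ∧ ¬ Nat.Coprime c d ∧ ¬ Nat.Coprime d e ∧ ¬ Nat.Coprime e b

theorem Ch4.symm {N : Subgroup G} {a b : ℕ} (h : Ch4 N a b) : Ch4 N b a := by
  obtain ⟨c, hc, d, hd, e, he, h1, h2, h3, h4⟩ := h
  exact ⟨e, he, d, hd, c, hc, fun h => h4 h.symm, fun h => h3 h.symm, fun h => h2 h.symm,
    fun h => h1 h.symm⟩

theorem Ch4.mono {M N : Subgroup G} (hMN : M ≤ N) {a b : ℕ} (h : Ch4 M a b) : Ch4 N a b := by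
  obtain ⟨c, hc, d, hd, e, he, h1⟩ := h
  exact ⟨c, rel_mono hMN hc, d, rel_mono hMN hd, e, rel_mono hMN he, h1⟩

/-- a connected pair is joined by an edge leaving a set -/
theorem exists_edge {N : Subgroup G} {a b : ℕ} (h : Conn N a b) (S : ℕ → Prop) (ha : S a)
    (hb : ¬ S b) : ∃ x ∈ relCharDegrees N, ∃ y ∈ relCharDegrees N, S x ∧ ¬ S y ∧
      ¬ Nat.Coprime x y := by
  obtain ⟨ha', hb', hr⟩ := h
  obtain ⟨w⟩ := hr
  suffices key : ∀ (u v : ↥(relCharDegrees N))
      (_ : (commonDivisorGraph.induce (relCharDegrees N)).Walk u v), S u.1 → ¬ S v.1 →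
      ∃ x ∈ relCharDegrees N, ∃ y ∈ relCharDegrees N, S x ∧ ¬ S y ∧ ¬ Nat.Coprime x y by
    exact key _ _ w ha hb
  intro u v w
  induction w with
  | nil => intro h1 h2; exact absurd h1 h2
  | @cons u v' w' hadj p ih =>
    intro h1 h2
    by_cases h3 : S v'.1
    · exact ih h3 h2
    · refine ⟨u.1, u.2, v'.1, v'.2, h1, h3, ?_⟩
      rw [SimpleGraph.comap_adj] at hadj
      intro hc
      have h4 := hadj.2
      have h5 : Nat.gcd u.1 v'.1 = 1 := hc
      change 1 < Nat.gcd u.1 v'.1 at h4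
      omega

/-- the constituents on `N` of a character whose kernel does not contain `N'` are not linear -/
theorem nonlinear_of_mem {N : Subgroup G} [hN : N.Normal] {χ : G → ℂ} (hχ : IsIrrCharacter G χ)
    (hk : ∃ x ∈ ⁅N, N⁆, χ x ≠ χ 1) {θ : N → ℂ} (hθ : IsIrrCharacter N θ)
    (ho : Over N.subtype χ θ) : charDegree θ ≠ 1 := by
  intro h1
  obtain ⟨ϕ, rfl⟩ := exists_hom_of_degree_one hθ h1
  have hle : ⁅N, N⁆ ≤ N := Subgroup.commutator_le_left N N
  have h2 : Over (Subgroup.inclusion hle) (lf ϕ) (1 : (⁅N, N⁆ : Subgroup G) → ℂ) := by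
    letI := Fintype.ofFinite (⁅N, N⁆ : Subgroup G)
    rw [over_iff]
    have e : (lf ϕ) ∘ (Subgroup.inclusion hle) = 1 := by
      funext n
      have h3 : (Subgroup.inclusion hle n) ∈ commutator N := by
        have h4 : (n : G) ∈ (commutator N).map N.subtype := by
          rw [Subgroup.map_subtype_commutator]; exact n.2
        obtain ⟨y, hy, hyn⟩ := h4
        have : y = Subgroup.inclusion hle n := Subtype.ext hyn
        rwa [← this]
      have h5 : (Subgroup.inclusion hle n) ∈ ϕ.ker := Abelianization.commutator_subset_ker ϕ h3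
      show ((ϕ (Subgroup.inclusion hle n) : ℂˣ) : ℂ) = 1
      rw [MonoidHom.mem_ker.1 h5]; rfl
    rw [e, classInner_irr_self isIrr_one]
    exact one_ne_zero
  have h3 : Over (⁅N, N⁆ : Subgroup G).subtype χ 1 := by
    have e : (⁅N, N⁆ : Subgroup G).subtype = N.subtype.comp (Subgroup.inclusion hle) := by
      ext; rfl
    rw [e]
    exact (over_comp_iff _ _ (isIrr_isCharacter hχ) isIrr_one).2 ⟨_, hθ, ho, h2⟩
  exact ne_one_of_over _ hχ hk isIrr_one h3 rfl

/-- Over a twist of a nonlinear constituent. -/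
theorem link_lin {N : Subgroup G} [hN : N.Normal] (hNG : N ≤ commutator G) {r : ℕ} [hr : Fact r.Prime]
    {θ : N → ℂ} (hθ : IsIrrCharacter N θ) (h1 : charDegree θ ≠ 1) {χ : G → ℂ}
    (hχ : IsIrrCharacter G χ) (ho : Over N.subtype χ θ)
    (hrχ : ¬ r ∣ charDegree χ) {l : N →* ℂˣ} (hl1 : l ≠ 1) (hl : ∀ x, l x ^ r = 1) :
    ∃ b ∈ relCharDegrees ⁅N, N⁆, ¬ Nat.Coprime (charDegree χ) b ∧
      (r ∣ b ∨ ¬ Nat.Coprime (charDegree χ) (inertia N (lf l)).index ∨
        ¬ Nat.Coprime b (inertia N (lf l)).index) := by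
  have hlθ := isIrr_mul_lf l hθ
  obtain ⟨ψ, hψ, hψo⟩ := exists_over N _ hlθ
  have hθχ : charDegree θ ∣ charDegree χ :=
    (dvd_mul_left _ _).trans (index_mul_charDegree_dvd N hχ hθ ho)
  have hθψ : charDegree θ ∣ charDegree ψ := by
    have h2 := index_mul_charDegree_dvd N hψ hlθ hψo
    rw [charDegree_mul_lf] at h2
    exact (dvd_mul_left _ _).trans h2
  refine ⟨charDegree ψ, mem_rel_commutator_of_nonlinear hψ hlθ hψo
    (by rwa [charDegree_mul_lf]), fun h => h1 (Nat.eq_one_of_dvd_coprimes h hθχ hθψ), ?_⟩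
  by_contra hcon
  push Not at hcon
  exact last_case hNG hθ hχ ho hrχ hl1 hl hψ hψo hcon.1 hcon.2.1 hcon.2.2

theorem conn_aux (n : ℕ) : ∀ (N : Subgroup G) [N.Normal], Nat.card N = n → Group.IsSolvable N →
    N ≤ commutator G → (∀ x ∈ relCharDegrees N, ∀ y ∈ relCharDegrees N, Conn N x y) →
    ∀ a ∈ relCharDegrees N, ∀ b ∈ relCharDegrees N, Ch4 N a b := by
  induction n using Nat.strong_induction_on with
  | _ n ih =>
  intro N _ hcard hs hNG hconn
  have self : ∀ {x : ℕ}, x ∈ relCharDegrees N → ¬ Nat.Coprime x x := fun hx =>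
    not_coprime_self (one_lt_of_mem_rel hNG hx)
  have common : ∀ {r x y : ℕ}, r.Prime → r ∣ x → r ∣ y → ¬ Nat.Coprime x y := fun hr h1 h2 h =>
    hr.one_lt.ne' (Nat.eq_one_of_dvd_coprimes h h1 h2)
  -- the asymmetric case
  have key : ∀ a ∈ relCharDegrees N, ∀ b ∈ relCharDegrees N,
      (∀ r : ℕ, r.Prime → r ∣ ⁅N, N⁆.relIndex N → r ∣ a ∧ ¬ r ∣ b) →
      (∃ l : N →* ℂˣ, inertia N (lf l) ≠ ⊤) → Ch4 N a b := by
    intro a ha b hb hab hex
    by_contra hcon
    have hN' : ⁅N, N⁆ < N := commutator_lt_of_solvable hs (ne_bot_of_mem_rel ha)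
    have hbm : Nat.Coprime b (⁅N, N⁆.relIndex N) := by
      by_contra h
      obtain ⟨r, hr, h2, h3⟩ := Nat.Prime.not_coprime_iff_dvd.1 h
      exact (hab r hr h3).2 h2
    obtain ⟨⟨χb, hχb⟩, hkb, hdb⟩ := id hb
    dsimp only at hkb hdb
    subst hdb
    obtain ⟨θb, hθb, hob⟩ := exists_under (f := N.subtype) hχb
    have hθb1 := ne_one_of_over N hχb hkb hθb hob
    by_cases h1 : charDegree θb = 1
    · obtain ⟨ϕ, rfl⟩ := exists_hom_of_degree_one hθb h1
      have hϕ : ϕ ≠ 1 := by rintro rfl; exact hθb1 lf_one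
      obtain ⟨r, hr, hrm, hnear⟩ := near_of_linear' hNG hχb hϕ hob hbm
      obtain ⟨x, hx, y, hy, hrx, hry, hxy⟩ := exists_edge (hconn a ha _ hb) (fun z => r ∣ z)
        (hab r hr hrm).1 (hab r hr hrm).2
      obtain ⟨d, hd, h2, h3⟩ := hnear y hy hry
      exact hcon ⟨x, hx, y, hy, d, hd, common hr (hab r hr hrm).1 hrx, hxy, fun h => h3 h.symm,
        fun h => h2 h.symm⟩
    obtain ⟨⟨χa, hχa⟩, hka, hda⟩ := id ha
    dsimp only at hka hda
    subst hda
    obtain ⟨θa, hθa, hoa⟩ := exists_under (f := N.subtype) hχa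
    have hθa1 := ne_one_of_over N hχa hka hθa hoa
    have hmono : ∀ {d : ℕ}, d ∈ relCharDegrees ⁅N, N⁆ → d ∈ relCharDegrees N :=
      fun hd => rel_mono hN'.le hd
    by_cases h2 : charDegree θa = 1
    · obtain ⟨μ, rfl⟩ := exists_hom_of_degree_one hθa h2
      have hμ : μ ≠ 1 := by rintro rfl; exact hθa1 lf_one
      obtain ⟨s, j, hs', ⟨z, hz⟩, hj⟩ := exists_pow_prime μ hμ
      haveI : Fact s.Prime := ⟨hs'⟩
      have hl1 : μ ^ j ≠ 1 := fun h => hz (DFunLike.congr_fun h z)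
      have hl : ∀ x, (μ ^ j) x ^ s = 1 := by
        intro x; rw [MonoidHom.pow_apply, ← pow_mul]; exact hj x
      have hsm := dvd_relIndex_of_pow hs' hl1 hl
      have hia : (inertia N (lf (μ ^ j))).index ∣ charDegree χa :=
        (Subgroup.index_dvd_of_le (inertia_pow N μ j)).trans
          (index_dvd_of_over hχa (isIrr_lf _) hoa)
      obtain ⟨c, hc, h3, h4⟩ := link_lin hNG hθb h1 hχb hob (hab s hs' hsm).2 hl1 hl
      have hca : ¬ Nat.Coprime (charDegree χa) c ∨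
          ¬ Nat.Coprime (charDegree χa) (charDegree χb) := by
        rcases h4 with h4 | h4 | h4
        · exact Or.inl (common hs' (hab s hs' hsm).1 h4)
        · exact Or.inr fun h => h4 (h.coprime_dvd_left hia).symm
        · exact Or.inl fun h => h4 (h.coprime_dvd_left hia).symm
      rcases hca with h5 | h5
      · exact hcon ⟨_, ha, _, ha, c, hmono hc, self ha, self ha, h5, fun h => h3 h.symm⟩
      · exact hcon ⟨_, ha, _, ha, _, ha, self ha, self ha, self ha, h5⟩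
    have hb' := mem_rel_commutator_of_nonlinear hχb hθb hob h1
    have ha' := mem_rel_commutator_of_nonlinear hχa hθa hoa h2
    have hNG' : ⁅N, N⁆ ≤ commutator G := hN'.le.trans hNG
    have hs' : Group.IsSolvable (⁅N, N⁆ : Subgroup G) := by
      haveI := hs
      exact Group.isSolvable_of_isSolvable_injective (f := Subgroup.inclusion hN'.le)
        (Subgroup.inclusion_injective _)
    have hN'' : ⁅⁅N, N⁆, ⁅N, N⁆⁆ < ⁅N, N⁆ := commutator_lt_of_solvable hs' (ne_bot_of_mem_rel hb')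
    have hlt : Nat.card (⁅N, N⁆ : Subgroup G) < n := by
      rw [← hcard]
      exact Set.Finite.card_lt_card (Set.toFinite _) hN'
    by_cases hc' : ∀ x ∈ relCharDegrees ⁅N, N⁆, ∀ y ∈ relCharDegrees ⁅N, N⁆, Conn ⁅N, N⁆ x y
    · exact hcon ((ih _ hlt ⁅N, N⁆ rfl hs' hNG' hc' _ ha' _ hb').mono hN'.le)
    push Not at hc'
    obtain ⟨x0, hx0, y0, hy0, hxy0⟩ := hc'
    have hm1 : ⁅⁅N, N⁆, ⁅N, N⁆⁆.relIndex ⁅N, N⁆ ≠ 1 :=
      fun h => hN''.not_ge (Subgroup.relIndex_eq_one.1 h)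
    obtain ⟨q, hq, hqm⟩ := Nat.exists_prime_and_dvd hm1
    haveI : Fact q.Prime := ⟨hq⟩
    obtain ⟨hxor, l0, -, -, -, hl0, hcc⟩ := xor_of_not_conn hNG' hqm hx0 hy0 hxy0
    obtain ⟨x1, hx1, y1, hy1, hxy1, hqx1⟩ : ∃ x1 ∈ relCharDegrees ⁅N, N⁆,
        ∃ y1 ∈ relCharDegrees ⁅N, N⁆, ¬ Conn ⁅N, N⁆ x1 y1 ∧ q ∣ x1 := by
      rcases hxor with h | h
      · exact ⟨x0, hx0, y0, hy0, hxy0, h.1⟩
      · exact ⟨y0, hy0, x0, hx0, fun h' => hxy0 h'.symm, h.1⟩
    have hdvd : ∀ {c d : ℕ}, c ∈ relCharDegrees ⁅N, N⁆ → d ∈ relCharDegrees ⁅N, N⁆ →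
        (q ∣ c ↔ q ∣ d) → Conn ⁅N, N⁆ c d := by
      intro c d hc hd h
      by_cases hqc : q ∣ c
      · exact Conn.of_dvd hc hd hq.one_lt hqc (h.1 hqc)
      · exact (hcc c hc hqc).trans (hcc d hd (fun h' => hqc (h.2 h'))).symm
    have hnot : ¬ (q ∣ charDegree χa ↔ q ∣ charDegree χb) := by
      intro h
      by_cases hqa : q ∣ charDegree χa
      · exact hcon ⟨_, ha, _, ha, _, ha, self ha, self ha, self ha, common hq hqa (h.1 hqa)⟩
      · obtain ⟨d, hd, h3, h4⟩ := disc_aux _ ⁅N, N⁆ rfl hs' hNG' hx1 hy1 hxy1 hq hqm hqx1 _ ha' _ hb'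
          hqa (fun h' => hqa (h.2 h'))
        exact hcon ⟨_, ha, _, ha, d, hmono hd, self ha, self ha, h3, h4⟩
    have hnab : ¬ Conn ⁅N, N⁆ (charDegree χa) (charDegree χb) := by
      intro h
      by_cases hqa : q ∣ charDegree χa
      · have hqb : ¬ q ∣ charDegree χb := fun h' => hnot ⟨fun _ => h', fun _ => hqa⟩
        exact not_conn_side hNG' hqm hx1 hy1 hxy1 hb' hqx1 hqb
          ((Conn.of_dvd hx1 ha' hq.one_lt hqx1 hqa).trans h)
      · have hqb : q ∣ charDegree χb := by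
          by_contra h'
          exact hnot ⟨fun h3 => absurd h3 hqa, fun h3 => absurd h3 h'⟩
        exact not_conn_side hNG' hqm hx1 hy1 hxy1 ha' hqx1 hqa
          ((Conn.of_dvd hx1 hb' hq.one_lt hqx1 hqb).trans h.symm)
    obtain ⟨l, hl⟩ := hex
    have hl1 : 1 < (inertia N (lf l)).index := by
      have h6 : (inertia N (lf l)).index ≠ 1 := fun h => hl (Subgroup.index_eq_one.1 h)
      have h7 : (inertia N (lf l)).index ≠ 0 := Subgroup.index_ne_zero_of_finite
      omega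
    -- degrees above suitable twists
    have htw : ∀ {χ : G → ℂ}, IsIrrCharacter G χ → ∀ {θ : N → ℂ}, IsIrrCharacter N θ →
        Over N.subtype χ θ → charDegree θ ≠ 1 → Nat.Coprime (charDegree χ) (⁅N, N⁆.relIndex N) →
        charDegree χ ∈ relCharDegrees ⁅N, N⁆ →
        ∃ c ∈ relCharDegrees ⁅N, N⁆, Conn ⁅N, N⁆ (charDegree χ) c ∧ (inertia N (lf l)).index ∣ c := by
      intro χ hχ θ hθ ho hθ1 hcop hmem
      have hθχ : charDegree θ ∣ charDegree χ :=
        (dvd_mul_left _ _).trans (index_mul_charDegree_dvd N hχ hθ ho)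
      obtain ⟨μ, hμ⟩ := exists_twist hθ (hcop.coprime_dvd_left hθχ) l
      have hμθ := isIrr_mul_lf μ hθ
      obtain ⟨ψ, hψ, hψo⟩ := exists_over N _ hμθ
      have hψm := mem_rel_commutator_of_nonlinear hψ hμθ hψo (by rwa [charDegree_mul_lf])
      refine ⟨charDegree ψ, hψm, ?_, ?_⟩
      · refine Conn.of_dvd hmem hψm (r := charDegree θ) ?_ hθχ ?_
        · have := charDegree_pos hθ; omega
        · have h2 := index_mul_charDegree_dvd N hψ hμθ hψo
          rw [charDegree_mul_lf] at h2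
          exact (dvd_mul_left _ _).trans h2
      · exact (Subgroup.index_dvd_of_le hμ).trans (index_dvd_of_over hψ hμθ hψo)
    obtain ⟨cb, hcb, hcb1, hcb2⟩ := htw hχb hθb hob h1 hbm hb'
    have hclaim : ∀ x ∈ relCharDegrees ⁅N, N⁆, Conn ⁅N, N⁆ (charDegree χa) x →
        ¬ Nat.Coprime (charDegree χa) x := by
      intro x hx hax
      have hxm : ¬ Nat.Coprime x (⁅N, N⁆.relIndex N) := by
        intro hxm
        obtain ⟨⟨χx, hχx⟩, hkx, hdx⟩ := id hx
        dsimp only at hkx hdx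
        subst hdx
        obtain ⟨θx, hθx, hox⟩ := exists_under (f := N.subtype) hχx
        obtain ⟨cx, hcx, hcx1, hcx2⟩ := htw hχx hθx hox (nonlinear_of_mem hχx hkx hθx hox) hxm hx
        exact hnab (((hax.trans hcx1).trans (Conn.of_dvd hcx hcb hl1 hcx2 hcb2)).trans hcb1.symm)
      obtain ⟨r, hr, h3, h4⟩ := Nat.Prime.not_coprime_iff_dvd.1 hxm
      exact common hr (hab r hr h4).1 h3
    obtain ⟨x, hx, c, hc, ⟨hx', hax⟩, hSc, hxc⟩ := exists_edge (hconn _ ha _ hb)
      (fun z => z ∈ relCharDegrees ⁅N, N⁆ ∧ Conn ⁅N, N⁆ (charDegree χa) z)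
      ⟨ha', Conn.refl ha'⟩ (fun h => hnab h.2)
    have hc' : c ∉ relCharDegrees ⁅N, N⁆ := fun h =>
      hSc ⟨h, hax.trans (Conn.of_not_coprime hx' h hxc)⟩
    obtain ⟨⟨χc, hχc⟩, hkc, hdc⟩ := id hc
    dsimp only at hkc hdc
    subst hdc
    obtain ⟨θc, hθc, hoc⟩ := exists_under (f := N.subtype) hχc
    have hθc1 := ne_one_of_over N hχc hkc hθc hoc
    have h3 : charDegree θc = 1 := by
      by_contra h
      exact hc' (mem_rel_commutator_of_nonlinear hχc hθc hoc h)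
    obtain ⟨μ, rfl⟩ := exists_hom_of_degree_one hθc h3
    have hμ : μ ≠ 1 := by rintro rfl; exact hθc1 lf_one
    obtain ⟨s, j, hs', ⟨z, hz⟩, hj⟩ := exists_pow_prime μ hμ
    haveI : Fact s.Prime := ⟨hs'⟩
    have hμ1 : μ ^ j ≠ 1 := fun h => hz (DFunLike.congr_fun h z)
    have hμ2 : ∀ x, (μ ^ j) x ^ s = 1 := by
      intro x; rw [MonoidHom.pow_apply, ← pow_mul]; exact hj x
    have hsm := dvd_relIndex_of_pow hs' hμ1 hμ2
    have hic : (inertia N (lf (μ ^ j))).index ∣ charDegree χc :=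
      (Subgroup.index_dvd_of_le (inertia_pow N μ j)).trans
        (index_dvd_of_over hχc (isIrr_lf _) hoc)
    obtain ⟨e, he, h4, h5⟩ := link_lin hNG hθb h1 hχb hob (hab s hs' hsm).2 hμ1 hμ2
    have hax' := hclaim x hx' hax
    rcases h5 with h5 | h5 | h5
    · exact hnab ((Conn.of_dvd ha' he hs'.one_lt (hab s hs' hsm).1 h5).trans
        (Conn.of_not_coprime hb' he h4).symm)
    · exact hcon ⟨x, hx, _, hc, _, hb, hax', hxc, fun h => h5 (h.coprime_dvd_left hic).symm,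
        self hb⟩
    · exact hcon ⟨x, hx, _, hc, e, hmono he, hax', hxc, fun h => h5 (h.coprime_dvd_left hic).symm,
        fun h => h4 h.symm⟩
  -- the general case
  intro a ha b hb
  by_contra hcon
  have hN' : ⁅N, N⁆ < N := commutator_lt_of_solvable hs (ne_bot_of_mem_rel ha)
  have hm1 : ⁅N, N⁆.relIndex N ≠ 1 := fun h => hN'.not_ge (Subgroup.relIndex_eq_one.1 h)
  have hcase : ∀ r : ℕ, r.Prime → r ∣ ⁅N, N⁆.relIndex N →
      ((r ∣ a ∧ ¬ r ∣ b) ∨ (r ∣ b ∧ ¬ r ∣ a)) ∧ ∃ (l : N →* ℂˣ) (k : ℕ), l ≠ 1 ∧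
        (∀ n, l n ^ r ^ k = 1) ∧ (inertia N (lf l)) ≠ ⊤ ∧
        (inertia N (lf l)).index ∈ relCharDegrees N ∧
        ∀ c ∈ relCharDegrees N, ¬ r ∣ c → ∃ d ∈ relCharDegrees N, ¬ Nat.Coprime c d ∧
          ¬ Nat.Coprime d (inertia N (lf l)).index := by
    intro r hr hrm
    haveI : Fact r.Prime := ⟨hr⟩
    obtain ⟨R⟩ : Nonempty (Sylow r G) := inferInstance
    by_cases hno : ∀ (l : N →* ℂˣ) (k : ℕ), (∀ n, l n ^ r ^ k = 1) →
      ∀ ν : (N ⊔ (R : Subgroup G) : Subgroup G) →* ℂˣ, (∀ n : N, ν (inclK N R n) = l n) → l = 1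
    · exfalso
      obtain ⟨c, hc, h1, h2⟩ := caseII' hNG R hrm hno a ha
      obtain ⟨d, hd, h3, h4⟩ := caseII' hNG R hrm hno b hb
      exact hcon ⟨c, hc, c, hc, d, hd, h2, self hc, common hr h1 h3, fun h => h4 h.symm⟩
    · push Not at hno
      obtain ⟨l, k, hl, ν, hν, hl1⟩ := hno
      have h1 := caseI' hNG R hl1 hl ν hν
      have h2 := (caseI hNG R hl1 hl ν hν).1
      refine ⟨?_, l, k, hl1, hl, inertia_ne_top hNG R hl1 hl ν hν, h2, h1⟩
      by_cases hra : r ∣ a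
      · refine Or.inl ⟨hra, fun hrb => ?_⟩
        exact hcon ⟨a, ha, a, ha, a, ha, self ha, self ha, self ha, common hr hra hrb⟩
      · refine Or.inr ⟨?_, hra⟩
        by_contra hrb
        obtain ⟨d, hd, h3, h4⟩ := h1 a ha hra
        obtain ⟨e, he, h5, h6⟩ := h1 b hb hrb
        exact hcon ⟨d, hd, _, h2, e, he, h3, h4, fun h => h6 h.symm, fun h => h5 h.symm⟩
  have hmix : ∀ {r s : ℕ}, r.Prime → r ∣ ⁅N, N⁆.relIndex N → s.Prime → s ∣ ⁅N, N⁆.relIndex N →
      ¬ r ∣ a → ¬ s ∣ b → False := by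
    intro r s hr hrm hs' hsm hra hsb
    haveI : Fact r.Prime := ⟨hr⟩
    haveI : Fact s.Prime := ⟨hs'⟩
    obtain ⟨hr1, l, k, hl1, hl, hlt, hlm, hlc⟩ := hcase r hr hrm
    obtain ⟨hs1, m, j, hm1, hm, hmt, hmm, hmc⟩ := hcase s hs' hsm
    have hrs : r ≠ s := by
      rintro rfl
      rcases hr1 with h | h
      · exact hra h.1
      · exact hsb h.1
    obtain ⟨ψ, hψ, hψo⟩ := exists_over N _ (isIrr_lf (l * m))
    have hcop : Nat.Coprime (r ^ k) (s ^ j) :=
      Nat.Coprime.pow _ _ ((Nat.coprime_primes hr hs').2 hrs)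
    have h1 : inertia N (lf (l * m)) ≤ inertia N (lf l) := inertia_mul_le N hcop hl hm
    have hcomm : l * m = m * l := by
      ext x
      rw [MonoidHom.mul_apply, MonoidHom.mul_apply, mul_comm]
    have h2 : inertia N (lf (l * m)) ≤ inertia N (lf m) := by
      rw [hcomm]; exact inertia_mul_le N hcop.symm hm hl
    have h3 := (Subgroup.index_dvd_of_le h1).trans (index_dvd_of_over hψ (isIrr_lf _) hψo)
    have h4 := (Subgroup.index_dvd_of_le h2).trans (index_dvd_of_over hψ (isIrr_lf _) hψo)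
    have hψm : charDegree ψ ∈ relCharDegrees N := by
      refine mem_relCharDegrees_of_over N hψ (isIrr_lf _) hψo (lf_ne_one ?_)
      intro h
      apply hlt
      rw [eq_top_iff]
      refine le_trans ?_ h1
      rw [h]
      intro g _
      rw [mem_inertia_lf]
      intro n
      rfl
    obtain ⟨d, hd, h5, h6⟩ := hlc a ha hra
    obtain ⟨e, he, h7, h8⟩ := hmc b hb hsb
    exact hcon ⟨d, hd, _, hψm, e, he, h5, fun h => h6 (h.coprime_dvd_right h3),
      fun h => h8 (h.coprime_dvd_left h4).symm, fun h => h7 h.symm⟩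
  obtain ⟨p, hp, hpm⟩ := Nat.exists_prime_and_dvd hm1
  obtain ⟨hp1, l, k, hl1, hl, hlt, hlm, hlc⟩ := hcase p hp hpm
  rcases hp1 with hp1 | hp1
  · apply hcon
    refine key a ha b hb (fun r hr hrm => ?_) ⟨l, hlt⟩
    rcases (hcase r hr hrm).1 with h | h
    · exact h
    · exact (hmix hr hrm hp hpm h.2 hp1.2).elim
  · apply hcon
    refine (key b hb a ha (fun r hr hrm => ?_) ⟨l, hlt⟩).symm
    rcases (hcase r hr hrm).1 with h | h
    · exact (hmix hp hpm hr hrm hp1.2 h.2).elim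
    · exact h

end Cfsg.Agent.H673
end

-- part: H673/ConnC
section
/-!
# The relative degree graph: connected case, `N` a `p`-group

The basic structure.
-/

set_option autoImplicit false
set_option linter.style.haveILetI false
set_option linter.unusedSectionVars false
open Cfsg

namespace Cfsg.Agent.H673

open Cfsg.Agent.H672
open Cfsg.Agent.Characters.Core Cfsg.Agent.Characters.Clifford
open scoped ComplexConjugate

universe u v w

section

variable {G : Type u} [Group G] [Finite G] {N : Subgroup G} [hN : N.Normal]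
variable {p : ℕ} [hp : Fact p.Prime]

attribute [local instance] dualAct

theorem stab_dvd_of_over {χ : G → ℂ} (hχ : IsIrrCharacter G χ) {l : N →* ℂˣ}
    (ho : Over N.subtype χ (lf l)) : (MulAction.stabilizer G l).index ∣ charDegree χ := by
  rw [stabilizer_eq]
  exact index_dvd_of_over hχ (isIrr_lf l) ho

theorem mem_rel_of_over {χ : G → ℂ} (hχ : IsIrrCharacter G χ) {l : N →* ℂˣ}
    (ho : Over N.subtype χ (lf l)) (hl1 : l ≠ 1) : charDegree χ ∈ relCharDegrees N :=
  mem_relCharDegrees_of_over N hχ (isIrr_lf l) ho (lf_ne_one hl1)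

theorem ER_stab {hNp : IsPGroup p N} {R : Sylow p G} {l : N →* ℂˣ} (hl : l ∈ ER hNp R) :
    (R : Subgroup G) ≤ MulAction.stabilizer G l := by
  rw [stabilizer_eq]
  obtain ⟨ν, hν⟩ := (mem_ER_iff hNp R l).1 hl
  have hKT : N ⊔ (R : Subgroup G) ≤ inertia N (lf l) := by
    refine le_inertia_of_extends (isIrr_isClassFunction (isIrr_lf ν)) ?_
    funext n
    exact congrArg _ (hν n)
  exact le_sup_right.trans hKT

theorem ER_ne_top {hNp : IsPGroup p N} (hNG : N ≤ commutator G) {R : Sylow p G} {l : N →* ℂˣ}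
    (hl : l ∈ ER hNp R) (hl1 : l ≠ 1) : MulAction.stabilizer G l ≠ ⊤ := by
  rw [stabilizer_eq]
  obtain ⟨ν, hν⟩ := (mem_ER_iff hNp R l).1 hl
  obtain ⟨k, hk⟩ := exists_pow_pV hNp
  exact inertia_ne_top hNG R hl1 (hk l) ν hν

theorem mem_ER_of_not_dvd (hNp : IsPGroup p N) {R : Sylow p G} {l : N →* ℂˣ}
    (hR : (R : Subgroup G) ≤ MulAction.stabilizer G l) {χ : G → ℂ} (hχ : IsIrrCharacter G χ)
    (ho : Over N.subtype χ (lf l)) (hd : ¬ p ∣ charDegree χ) : l ∈ ER hNp R := by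
  rw [stabilizer_eq] at hR
  obtain ⟨ξ, hξ, he⟩ := extends_of_invariant N R (isIrr_lf l) hR hχ ho hd
  have hξ1 : charDegree ξ = 1 := by
    rw [← charDegree_comp_one (inclK N (R : Subgroup G)), he, charDegree_lf]
  obtain ⟨ν, rfl⟩ := exists_hom_of_degree_one hξ hξ1
  exact (mem_ER_iff hNp R l).2 ⟨ν, fun n => Units.ext (congrFun he n)⟩

theorem exists_mem_ER (hNp : IsPGroup p N) {l : N →* ℂˣ} {χ : G → ℂ} (hχ : IsIrrCharacter G χ)
    (ho : Over N.subtype χ (lf l)) (hd : ¬ p ∣ charDegree χ) : ∃ R : Sylow p G, l ∈ ER hNp R := by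
  have h1 : ¬ p ∣ (MulAction.stabilizer G l).index := fun h => hd (h.trans (stab_dvd_of_over hχ ho))
  obtain ⟨R, hR⟩ := exists_sylow_le _ h1
  exact ⟨R, mem_ER_of_not_dvd hNp hR hχ ho hd⟩

theorem ER_not_dvd {hNp : IsPGroup p N} {R : Sylow p G} {l : N →* ℂˣ} (hl : l ∈ ER hNp R) :
    ¬ p ∣ (MulAction.stabilizer G l).index := fun h =>
  R.not_dvd_index (h.trans (Subgroup.index_dvd_of_le (ER_stab hl)))

theorem ER_exists_ext {hNp : IsPGroup p N} {R : Sylow p G} {l : N →* ℂˣ} (hl : l ∈ ER hNp R) :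
    ∃ (hNT : N ≤ inertia N (lf l)) (F : inertia N (lf l) →* ℂˣ), ∀ n : N, F ⟨n, hNT n.2⟩ = l n := by
  obtain ⟨ν, hν⟩ := (mem_ER_iff hNp R l).1 hl
  obtain ⟨k, hk⟩ := exists_pow_pV hNp
  have hKT : N ⊔ (R : Subgroup G) ≤ inertia N (lf l) := by
    refine le_inertia_of_extends (isIrr_isClassFunction (isIrr_lf ν)) ?_
    funext n
    exact congrArg _ (hν n)
  obtain ⟨m, hm⟩ := lin_extends_to N R (N ⊔ (R : Subgroup G)) (inertia N (lf l)) le_sup_left
    le_sup_right hKT l (hk l) le_rfl ν hν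
  exact ⟨le_sup_left.trans hKT, m, hm⟩

/-- a character over an extendible one, of degree the index of the stabilizer -/
theorem ER_exists_irr {hNp : IsPGroup p N} {R : Sylow p G} {l : N →* ℂˣ} (hl : l ∈ ER hNp R) :
    ∃ χ : G → ℂ, IsIrrCharacter G χ ∧ Over N.subtype χ (lf l) ∧
      charDegree χ = (MulAction.stabilizer G l).index := by
  obtain ⟨hNT, F, hF⟩ := ER_exists_ext hl
  rw [stabilizer_eq]
  exact exists_irr_index (N := N) l _ rfl hNT F hF

theorem ER_of_stab {hNp : IsPGroup p N} {R R' : Sylow p G} {l : N →* ℂˣ} (hl : l ∈ ER hNp R)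
    (hR' : (R' : Subgroup G) ≤ MulAction.stabilizer G l) : l ∈ ER hNp R' := by
  obtain ⟨χ, hχ, ho, hd⟩ := ER_exists_irr hl
  exact mem_ER_of_not_dvd hNp hR' hχ ho (hd ▸ ER_not_dvd hl)

/-- the constituents of a character of degree prime to `p` on a normal `p`-subgroup are linear -/
theorem lin_of_not_dvd (hNp : IsPGroup p N) {χ : G → ℂ} (hχ : IsIrrCharacter G χ)
    (hd : ¬ p ∣ charDegree χ) {θ : N → ℂ} (hθ : IsIrrCharacter N θ) (ho : Over N.subtype χ θ) :
    ∃ l : N →* ℂˣ, θ = lf l := by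
  refine exists_hom_of_degree_one hθ ?_
  have h1 : charDegree θ ∣ charDegree χ :=
    (dvd_mul_left _ _).trans (index_mul_charDegree_dvd N hχ hθ ho)
  have h2 : charDegree θ ∣ Nat.card N := Blocks.Knorr.charDegree_dvd hθ
  obtain ⟨k, hk⟩ := IsPGroup.iff_card.1 hNp
  rw [hk] at h2
  have h3 : Nat.Coprime (charDegree χ) (p ^ k) :=
    Nat.Coprime.pow_right _ ((Nat.Prime.coprime_iff_not_dvd hp.out).2 hd).symm
  exact Nat.eq_one_of_dvd_coprimes h3 h1 h2

theorem pV_dual (hNp : IsPGroup p N) : Orb.PV p (N →* ℂˣ) := by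
  obtain ⟨k, hk⟩ := exists_pow_pV hNp
  exact ⟨k, fun l => MonoidHom.ext (hk l)⟩

/-- The situation to be excluded. -/
structure Bad (p : ℕ) (N : Subgroup G) [N.Normal] (μ : N →* ℂˣ) (b : ℕ) : Prop where
  hNp : IsPGroup p N
  hNG : N ≤ commutator G
  hb : (MulAction.stabilizer G μ).index ∣ b
  hμ1 : μ ≠ 1
  hμE : ∃ R : Sylow p G, μ ∈ ER hNp R
  f1 : ∃ a ∈ relCharDegrees N, p ∣ a ∧ ∀ y ∈ relCharDegrees N, ¬ p ∣ y → Nat.Coprime a y
  f2 : ∀ z ∈ relCharDegrees N, p ∣ z → ∀ d ∈ relCharDegrees N, ¬ Nat.Coprime z d → Nat.Coprime d b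
  edge : ∃ x ∈ relCharDegrees N, ∃ y ∈ relCharDegrees N, p ∣ x ∧ ¬ p ∣ y ∧ ¬ Nat.Coprime x y

namespace Bad

variable {μ : N →* ℂˣ} {b : ℕ} (h : Bad p N μ b)
include h

theorem u_ne_one : (MulAction.stabilizer G μ).index ≠ 1 := by
  intro h1
  obtain ⟨R, hR⟩ := h.hμE
  exact ER_ne_top h.hNG hR h.hμ1 (Subgroup.index_eq_one.1 h1)

theorem not_dvd_u : ¬ p ∣ (MulAction.stabilizer G μ).index := by
  obtain ⟨R, hR⟩ := h.hμE
  exact ER_not_dvd hR

/-- a number having a common factor with `u(μ)` -/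
theorem not_coprime_of_dvd {m : ℕ} (hm : (MulAction.stabilizer G μ).index ∣ m) :
    ¬ Nat.Coprime m b := fun h1 => h.u_ne_one (Nat.eq_one_of_dvd_coprimes h1 hm h.hb)

/-- `p`-divisible degrees are prime to `b` -/
theorem coprime_b {z : ℕ} (hz : z ∈ relCharDegrees N) (hpz : p ∣ z) : Nat.Coprime z b :=
  h.f2 z hz hpz z hz (not_coprime_self (one_lt_of_mem_rel h.hNG hz))

theorem a0 {κ : N →* ℂˣ} (hκ1 : κ ≠ 1) (hκ : ¬ Nat.Coprime (MulAction.stabilizer G κ).index b)
    {χ : G → ℂ} (hχ : IsIrrCharacter G χ) (ho : Over N.subtype χ (lf κ)) :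
    ¬ p ∣ charDegree χ ∧ ∀ z ∈ relCharDegrees N, p ∣ z → Nat.Coprime z (charDegree χ) := by
  have h1 : ¬ Nat.Coprime (charDegree χ) b := fun h1 =>
    hκ (h1.coprime_dvd_left (stab_dvd_of_over hχ ho))
  have h2 := mem_rel_of_over hχ ho hκ1
  constructor
  · intro h3
    exact h1 (h.coprime_b h2 h3)
  · intro z hz hpz
    by_contra h3
    exact h1 (h.f2 z hz hpz _ h2 h3)

/-- there is no nontrivial invariant character -/
theorem inv_eq_one {l : N →* ℂˣ} (hl : ∀ g : G, g • l = l) : l = 1 := by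
  by_contra hl1
  have hstab : MulAction.stabilizer G (μ * l) = MulAction.stabilizer G μ :=
    Orb.stab_mul_of_fixed μ hl
  have hκ1 : μ * l ≠ 1 := by
    intro h1
    apply h.u_ne_one
    rw [← hstab, h1]
    have : MulAction.stabilizer G (1 : N →* ℂˣ) = ⊤ :=
      Orb.stab_one (G := G) (V := N →* ℂˣ)
    rw [this, Subgroup.index_top]
  obtain ⟨χ, hχ, ho⟩ := exists_over N _ (isIrr_lf (μ * l))
  have h1 := (h.a0 hκ1 (by
    rw [hstab]; exact h.not_coprime_of_dvd dvd_rfl) hχ ho).1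
  obtain ⟨R, hR⟩ := h.hμE
  have h2 : (R : Subgroup G) ≤ MulAction.stabilizer G (μ * l) := by
    rw [hstab]; exact ER_stab hR
  have h3 := mem_ER_of_not_dvd h.hNp h2 hχ ho h1
  have h4 : l ∈ ER h.hNp R := by
    have := (ER h.hNp R).mul_mem ((ER h.hNp R).inv_mem hR) h3
    rwa [inv_mul_cancel_left] at this
  apply ER_ne_top h.hNG h4 hl1
  rw [eq_top_iff]
  intro g _
  exact hl g

/-- the product of `η` and `μ` -/
theorem pd_mul {η : N →* ℂˣ} (hη : η ≠ 1) {ψ : G → ℂ} (hψ : IsIrrCharacter G ψ)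
    (ho : Over N.subtype ψ (lf η)) (hpψ : p ∣ charDegree ψ) :
    η * μ ≠ 1 ∧ ∃ ψ' : G → ℂ, IsIrrCharacter G ψ' ∧ Over N.subtype ψ' (lf (η * μ)) ∧
      p ∣ charDegree ψ' := by
  have hpV := pV_dual h.hNp
  have hmem := mem_rel_of_over hψ ho hη
  have hc1 : Nat.Coprime (charDegree ψ) b := h.coprime_b hmem hpψ
  have hc2 : Nat.Coprime (MulAction.stabilizer G η).index (MulAction.stabilizer G μ).index :=
    (hc1.coprime_dvd_left (stab_dvd_of_over hψ ho)).coprime_dvd_right h.hb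
  have hne : η * μ ≠ 1 := by
    intro h1
    have h2 : MulAction.stabilizer G η = MulAction.stabilizer G μ := Orb.stab_of_mul_eq_one h1
    rw [h2, Nat.coprime_self] at hc2
    exact h.u_ne_one hc2
  refine ⟨hne, ?_⟩
  by_contra hcon
  push Not at hcon
  obtain ⟨χ, hχ, hoχ⟩ := exists_over N _ (isIrr_lf (η * μ))
  have hpχ := hcon χ hχ hoχ
  by_cases hc3 : Nat.Coprime (MulAction.stabilizer G (η * μ)).index
      (MulAction.stabilizer G μ).index
  · -- index equality
    have h1 := Orb.index_eq_of_coprime hc2 hc3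
    have h2 : ¬ p ∣ (MulAction.stabilizer G η).index := by
      rw [h1]
      exact fun h3 => hpχ (h3.trans (stab_dvd_of_over hχ hoχ))
    exact h.hμ1 (h.inv_eq_one (fun g => Orb.smul_eq_of_coprime hpV h2 hc2 hc3 g))
  · have h1 : ¬ Nat.Coprime (MulAction.stabilizer G (η * μ)).index b := fun h2 =>
      hc3 (h2.coprime_dvd_right h.hb)
    have h2 := (h.a0 hne h1 hχ hoχ).2 _ hmem hpψ
    have h3 : Nat.Coprime (MulAction.stabilizer G (μ * η)).index
        (MulAction.stabilizer G η).index := by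
      rw [mul_comm μ η]
      exact (h2.coprime_dvd_right (stab_dvd_of_over hχ hoχ)).symm.coprime_dvd_right
        (stab_dvd_of_over hψ ho)
    exact hη (h.inv_eq_one (fun g => Orb.smul_eq_of_coprime hpV h.not_dvd_u hc2.symm h3 g))

theorem stable {η : N →* ℂˣ} (hη : η ≠ 1) {ψ : G → ℂ} (hψ : IsIrrCharacter G ψ)
    (ho : Over N.subtype ψ (lf η)) (hpψ : p ∣ charDegree ψ) (g k : G) :
    ∃ y : G, y • η = (k • η) * (g • μ) := by
  haveI := finite_dual N
  obtain ⟨h1, ψ', hψ', ho', hpψ'⟩ := h.pd_mul hη hψ ho hpψ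
  have hc1 := h.coprime_b (mem_rel_of_over hψ ho hη) hpψ
  have hc2 := h.coprime_b (mem_rel_of_over hψ' ho' h1) hpψ'
  exact Orb.stable_of_coprime (pV_dual h.hNp) (fun v hv => h.inv_eq_one hv) h.not_dvd_u
    ((hc1.coprime_dvd_left (stab_dvd_of_over hψ ho)).coprime_dvd_right h.hb)
    ((hc2.coprime_dvd_left (stab_dvd_of_over hψ' ho')).coprime_dvd_right h.hb) g k

theorem dvd_u {η : N →* ℂˣ} (hη : η ≠ 1) {ψ : G → ℂ} (hψ : IsIrrCharacter G ψ)
    (ho : Over N.subtype ψ (lf η)) (hpψ : p ∣ charDegree ψ) :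
    p ∣ (MulAction.stabilizer G η).index := by
  by_contra h1
  have h2 := Orb.pow_eq_one_of_orbit (G := G) (a := η) (x := μ) (fun k => by
    obtain ⟨y, hy⟩ := h.stable hη hψ ho hpψ 1 k
    exact ⟨y, by rw [hy, one_smul]⟩)
  exact h.hμ1 ((pV_dual h.hNp).eq_one h1 h2)

/-- the dichotomy -/
theorem not_dvd_of_u {l : N →* ℂˣ} (hl1 : l ≠ 1) (hl : ¬ p ∣ (MulAction.stabilizer G l).index)
    {χ : G → ℂ} (hχ : IsIrrCharacter G χ) (ho : Over N.subtype χ (lf l)) :
    ¬ p ∣ charDegree χ := fun h1 => hl (h.dvd_u hl1 hχ ho h1)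

theorem mem_ER_of_u {l : N →* ℂˣ} (hl1 : l ≠ 1) (hl : ¬ p ∣ (MulAction.stabilizer G l).index) :
    ∃ R : Sylow p G, l ∈ ER h.hNp R := by
  obtain ⟨χ, hχ, ho⟩ := exists_over N _ (isIrr_lf l)
  exact exists_mem_ER h.hNp hχ ho (h.not_dvd_of_u hl1 hl hχ ho)

theorem inertia_pair {r : ℕ} [hr : Fact r.Prime] {l : N →* ℂˣ} (hl1 : l ≠ 1)
    (hl : ¬ p ∣ (MulAction.stabilizer G l).index)
    (hdeg : ∀ χ : G → ℂ, IsIrrCharacter G χ → Over N.subtype χ (lf l) → ¬ r ∣ charDegree χ)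
    (hIM : ∀ T : Subgroup G, N ≤ T → H670.PSing.IM r (T ⧸ N.subgroupOf T))
    (Q : Sylow r G) (hQT : (Q : Subgroup G) ≤ MulAction.stabilizer G l) :
    (∀ t ∈ MulAction.stabilizer G l, ∀ x ∈ (Q : Subgroup G),
      t * x * t⁻¹ ∈ N ⊔ (Q : Subgroup G)) ∧
    (∀ x ∈ (Q : Subgroup G), ∀ y ∈ (Q : Subgroup G), x * y * x⁻¹ * y⁻¹ ∈ N) := by
  obtain ⟨R, hR⟩ := h.mem_ER_of_u hl1 hl
  obtain ⟨hNT, F, hF⟩ := ER_exists_ext hR
  rw [stabilizer_eq] at hQT ⊢
  exact inertia_IM l _ rfl hNT F hF hdeg (hIM _ hNT) Q hQT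

theorem card_sylow_dvd (hIM : ∀ T : Subgroup G, N ≤ T → H670.PSing.IM p (T ⧸ N.subgroupOf T))
    {l : N →* ℂˣ} (hl1 : l ≠ 1) (hl : ¬ p ∣ (MulAction.stabilizer G l).index) :
    Nat.card (Sylow p G) ∣ (MulAction.stabilizer G l).index := by
  obtain ⟨R, hR⟩ := exists_sylow_le _ hl
  obtain ⟨h1, -⟩ := h.inertia_pair hl1 hl (fun χ hχ ho => h.not_dvd_of_u hl1 hl hχ ho) hIM R hR
  rw [R.card_eq_index_normalizer]
  apply Subgroup.index_dvd_of_le
  intro t ht
  apply Subgroup.mem_normalizer_fintype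
  intro x hx
  have h2 := h1 t ht x hx
  rwa [sup_eq_right.2 (h.hNp.le_sylow_of_normal R)] at h2

theorem sylow_normal (hIM : ∀ T : Subgroup G, N ≤ T → H670.PSing.IM p (T ⧸ N.subgroupOf T))
    (P : Sylow p G) : (P : Subgroup G).Normal := by
  have h1 := h.card_sylow_dvd hIM h.hμ1 h.not_dvd_u
  obtain ⟨x, hx, y, hy, hpx, hpy, hxy⟩ := h.edge
  have h2 := h.f2 x hx hpx y hy hxy
  obtain ⟨⟨χ, hχ⟩, hk, rfl⟩ := hy
  dsimp only at hk hpy h2
  obtain ⟨θ, hθ, ho⟩ := exists_under (f := N.subtype) hχ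
  obtain ⟨l, rfl⟩ := lin_of_not_dvd h.hNp hχ hpy hθ ho
  have hl1 : l ≠ 1 := by
    rintro rfl
    exact ne_one_of_over N hχ hk (isIrr_lf _) ho lf_one
  have h3 := h.card_sylow_dvd hIM hl1
    (fun h4 => hpy (h4.trans (stab_dvd_of_over hχ ho)))
  have h4 : Nat.card (Sylow p G) = 1 :=
    Nat.eq_one_of_dvd_coprimes h2 (h3.trans (stab_dvd_of_over hχ ho)) (h1.trans h.hb)
  haveI : Subsingleton (Sylow p G) := (Nat.card_eq_one_iff_unique.1 h4).1
  exact Sylow.normal_of_subsingleton P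

theorem comm_mem (hIM : ∀ T : Subgroup G, N ≤ T → H670.PSing.IM p (T ⧸ N.subgroupOf T))
    (P : Sylow p G) : ∀ x ∈ (P : Subgroup G), ∀ y ∈ (P : Subgroup G), x * y * x⁻¹ * y⁻¹ ∈ N := by
  have hPn := h.sylow_normal hIM P
  obtain ⟨R, hR⟩ := exists_sylow_le _ h.not_dvd_u
  obtain ⟨g, hg⟩ := MulAction.exists_smul_eq G R P
  have h1 : (R : Subgroup G) = (P : Subgroup G) := by
    have hg' : (R : Subgroup G) = ((g⁻¹ • P : Sylow p G) : Subgroup G) := by rw [← hg, inv_smul_smul]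
    rw [hg', Sylow.coe_subgroup_smul]
    exact hPn.conj_smul_eq_self g⁻¹
  rw [← h1]
  exact (h.inertia_pair h.hμ1 h.not_dvd_u
    (fun χ hχ ho => h.not_dvd_of_u h.hμ1 h.not_dvd_u hχ ho) hIM R hR).2

/-- elements of order prime to `p`... stabilizers of index prime to `p` contain `P` -/
theorem le_stab (hIM : ∀ T : Subgroup G, N ≤ T → H670.PSing.IM p (T ⧸ N.subgroupOf T))
    (P : Sylow p G) (T : Subgroup G) (hT : ¬ p ∣ T.index) : (P : Subgroup G) ≤ T := by
  have hPn := h.sylow_normal hIM P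
  obtain ⟨R, hR⟩ := exists_sylow_le _ hT
  obtain ⟨g, hg⟩ := MulAction.exists_smul_eq G R P
  have h1 : (R : Subgroup G) = (P : Subgroup G) := by
    have hg' : (R : Subgroup G) = ((g⁻¹ • P : Sylow p G) : Subgroup G) := by rw [← hg, inv_smul_smul]
    rw [hg', Sylow.coe_subgroup_smul]
    exact hPn.conj_smul_eq_self g⁻¹
  rw [← h1]
  exact hR

end Bad

end

end Cfsg.Agent.H673
end

-- part: H673/Orb3
section
/-!
# Orbits on an abelian group: normal Sylow `p`-subgroup with complement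
-/

set_option autoImplicit false
set_option linter.unusedSectionVars false
set_option linter.style.haveILetI false

namespace Cfsg.Agent.H673.Orb

open MulAction

universe u v

variable {G : Type u} [Group G] [Finite G] {V : Type v} [CommGroup V] [MulDistribMulAction G V]
variable {p : ℕ} [hp : Fact p.Prime]

theorem not_dvd_card_sylow {f : ℕ} [hf : Fact f.Prime] (hfp : f ≠ p) (F : Sylow f G) :
    ¬ p ∣ Nat.card (F : Subgroup G) := by
  obtain ⟨c, hc⟩ := IsPGroup.iff_card.1 F.isPGroup'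
  rw [hc]
  intro h1
  exact hfp ((Nat.prime_dvd_prime_iff_eq hp.out hf.out).1 (hp.out.dvd_of_dvd_pow h1)).symm

theorem nm_smul_all (P K F : Subgroup G) (hdec : ∀ g : G, ∃ x ∈ P, ∃ k ∈ K, x * k = g)
    (hPF : ∀ x ∈ P, ∀ y ∈ F, ∀ v : V, x • y • v = y • x • v)
    (hnorm : ∀ k ∈ K, ∀ y ∈ F, k * y * k⁻¹ ∈ F) (g : G) (v : V) :
    nm F (g • v) = g • nm F v := by
  obtain ⟨z, hz, k, hk, rfl⟩ := hdec g
  rw [mul_smul, mul_smul, nm_comm F (fun y hy w => hPF z hz y hy w), nm_conj F (hnorm k hk)]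

theorem fixed_smul (P K F : Subgroup G) (hdec : ∀ g : G, ∃ x ∈ P, ∃ k ∈ K, x * k = g)
    (hPF : ∀ x ∈ P, ∀ y ∈ F, ∀ v : V, x • y • v = y • x • v)
    (hnorm : ∀ k ∈ K, ∀ y ∈ F, k * y * k⁻¹ ∈ F) {μ : V} (hμ : ∀ y ∈ F, y • μ = μ) (t : G) :
    ∀ y ∈ F, y • (t • μ) = t • μ := by
  intro y hy
  obtain ⟨z, hz, k, hk, rfl⟩ := hdec t
  have h2 : (k⁻¹ * y * k) • μ = μ := by
    have h3 := hnorm k⁻¹ (inv_mem hk) y hy
    rw [inv_inv] at h3
    exact hμ _ h3
  have h4 : y • k • μ = k • μ := by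
    have h5 : y * k = k * (k⁻¹ * y * k) := by group
    rw [← mul_smul, h5, mul_smul, h2]
  rw [mul_smul, ← hPF z hz y hy, h4]

/-- The situation in which `F` acts nontrivially and is normal. -/
theorem exists_product {f : ℕ} [hf : Fact f.Prime] (hfp : f ≠ p) (hV : PV p V) (P K : Subgroup G)
    (hdec : ∀ g : G, ∃ x ∈ P, ∃ k ∈ K, x * k = g) (F : Sylow f G) {μ : V}
    (hPF : ∀ x ∈ P, ∀ y ∈ (F : Subgroup G), ∀ v : V, x • y • v = y • x • v)
    (hnorm : ∀ k ∈ K, ∀ y ∈ (F : Subgroup G), k * y * k⁻¹ ∈ (F : Subgroup G))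
    (hFμ : ∀ y ∈ (F : Subgroup G), y • μ = μ)
    (hnt : ∃ y ∈ (F : Subgroup G), ∃ v : V, y • v ≠ v) :
    ∃ l : V, f ∣ (stabilizer G l).index ∧ stabilizer G (μ * l) ≤ stabilizer G μ ∧
      stabilizer G (μ * l) ≤ stabilizer G l ∧ μ * l ≠ 1 := by
  obtain ⟨l, hl1, hl⟩ := exists_nm_ne (G := G) (V := V) hnt
  have hcF := not_dvd_card_sylow hfp F
  have hnm := nm_smul_all P K (F : Subgroup G) hdec hPF hnorm
  have hfl : f ∣ (stabilizer G l).index := by
    by_contra hcon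
    obtain ⟨Q, hQ⟩ : ∃ R : Sylow f G, (R : Subgroup G) ≤ stabilizer G l := by
      obtain ⟨Q⟩ : Nonempty (Sylow f (stabilizer G l)) := inferInstance
      have h1 : IsPGroup f ((Q : Subgroup (stabilizer G l)).map (stabilizer G l).subtype) :=
        Q.isPGroup'.map _
      have h2 : ¬ f ∣ ((Q : Subgroup (stabilizer G l)).map (stabilizer G l).subtype).index := by
        rw [Subgroup.index_map_subtype]
        intro h
        rcases (Nat.Prime.dvd_mul hf.out).1 h with h | h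
        · exact Q.not_dvd_index h
        · exact hcon h
      exact ⟨h1.toSylow h2, Subgroup.map_subtype_le _⟩
    obtain ⟨g, rfl⟩ := MulAction.exists_smul_eq G F Q
    have h1 : ∀ y ∈ (F : Subgroup G), y • (g⁻¹ • l) = g⁻¹ • l := by
      intro y hy
      have h2 : g * y * g⁻¹ ∈ ((g • F : Sylow f G) : Subgroup G) := by
        rw [Sylow.coe_subgroup_smul]
        exact ⟨y, hy, rfl⟩
      have h3 : (g * y * g⁻¹) • l = l := hQ h2
      rw [eq_inv_smul_iff, ← mul_smul, ← mul_smul]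
      exact h3
    have h2 := nm_of_fixed (F : Subgroup G) h1
    rw [hnm, hl, smul_one] at h2
    have h3 := hV.eq_one hcF h2.symm
    apply hl1
    rw [← smul_inv_smul g l, h3, smul_one]
  have hst : ∀ t : G, t • (μ * l) = μ * l → t • μ = μ ∧ t • l = l := by
    intro t ht
    rw [smul_mul'] at ht
    have h1 := congrArg (nm (F : Subgroup G)) ht
    rw [map_mul, map_mul, hnm t l, hl, smul_one, mul_one, mul_one] at h1
    have hfix := fixed_smul P K (F : Subgroup G) hdec hPF hnorm hFμ t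
    rw [nm_of_fixed _ hfix, nm_of_fixed _ hFμ] at h1
    have h2 : ((t • μ) * μ⁻¹) ^ Nat.card (F : Subgroup G) = 1 := by
      rw [mul_pow, h1, inv_pow, mul_inv_cancel]
    have h3 : t • μ = μ := mul_inv_eq_one.1 (hV.eq_one hcF h2)
    refine ⟨h3, ?_⟩
    rw [h3] at ht
    exact mul_left_cancel ht
  have hle2 : stabilizer G (μ * l) ≤ stabilizer G l := fun t ht => (hst t ht).2
  refine ⟨l, hfl, fun t ht => (hst t ht).1, hle2, ?_⟩
  intro h1
  rw [h1, stab_one, top_le_iff] at hle2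
  rw [hle2, Subgroup.index_top] at hfl
  exact hf.out.one_lt.ne' (Nat.dvd_one.1 hfl)

/-- the elements fixed by `P` -/
def FixP (P : Subgroup G) (V : Type v) [CommGroup V] [MulDistribMulAction G V] : Subgroup V where
  carrier := {v | ∀ x ∈ P, x • v = v}
  one_mem' := fun x _ => smul_one x
  mul_mem' := by
    intro v w hv hw x hx
    rw [smul_mul', hv x hx, hw x hx]
  inv_mem' := by
    intro v hv x hx
    rw [smul_inv', hv x hx]

theorem smul_FixP {P : Subgroup G} (hP : P.Normal) (g : G) {v : V} (hv : v ∈ FixP P V) :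
    g • v ∈ FixP P V := by
  intro x hx
  have h1 : (g⁻¹ * x * g) • v = v := hv _ (by
    have := hP.conj_mem x hx g⁻¹
    rwa [inv_inv] at this)
  have h2 : x * g = g * (g⁻¹ * x * g) := by group
  rw [← mul_smul, h2, mul_smul, h1]

theorem smul_mul_inv (g : G) (v w : V) : g • (v * w⁻¹) = (g • v) * (g • w)⁻¹ := by
  rw [smul_mul', smul_inv']

/-- the averaging argument -/
theorem avg (hV : PV p V) {P K : Subgroup G} (hP : P.Normal)
    (hdec : ∀ g : G, ∃ x ∈ P, ∃ k ∈ K, x * k = g) (hK : ¬ p ∣ Nat.card K) {μ : V}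
    (hμ : μ ∈ FixP P V) (hst : ∀ η : V, η ∉ FixP P V → ∀ g : G, ∃ y : G, y • η = η * (g • μ))
    {η : V} (hη : η ∉ FixP P V) (hPη : ∀ x ∈ P, (x • η) * η⁻¹ ∈ FixP P V) :
    ∃ η₀ : V, η₀ ∉ FixP P V ∧ (∀ x ∈ P, (x • η₀) * η₀⁻¹ ∈ FixP P V) ∧
      (∀ k ∈ K, k • η = η → k • η₀ = η₀) ∧ ∀ g : G, ∃ x ∈ P, x • η₀ = η₀ * (g • μ) := by
  let S : Subgroup G :=
    { carrier := {g | (g • η) * η⁻¹ ∈ FixP P V}
      one_mem' := by
        show ((1 : G) • η) * η⁻¹ ∈ FixP P V
        rw [one_smul, mul_inv_cancel]; exact (FixP P V).one_mem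
      mul_mem' := by
        intro x y hx hy
        have hx' : (x • η) * η⁻¹ ∈ FixP P V := hx
        have hy' : (y • η) * η⁻¹ ∈ FixP P V := hy
        show ((x * y) • η) * η⁻¹ ∈ FixP P V
        have h1 : ((x * y) • η) * η⁻¹ = (x • ((y • η) * η⁻¹)) * ((x • η) * η⁻¹) := by
          rw [smul_mul_inv, mul_smul, ← mul_assoc, inv_mul_cancel_right]
        rw [h1]
        exact (FixP P V).mul_mem (smul_FixP hP x hy') hx'
      inv_mem' := by
        intro x hx
        have hx' : (x • η) * η⁻¹ ∈ FixP P V := hx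
        show (x⁻¹ • η) * η⁻¹ ∈ FixP P V
        have h1 : (x⁻¹ • η) * η⁻¹ = (x⁻¹ • ((x • η) * η⁻¹))⁻¹ := by
          rw [smul_mul_inv, inv_smul_smul, mul_inv_rev, inv_inv]
        rw [h1]
        exact (FixP P V).inv_mem (smul_FixP hP _ hx') }
  have hS : ∀ g : G, g ∈ S ↔ (g • η) * η⁻¹ ∈ FixP P V := fun g => Iff.rfl
  obtain ⟨η₀, -, h2, h3⟩ := exists_fixed_in_coset (G := G) (V := V) hV
    (S ⊓ K) (fun h1 => hK (h1.trans (Subgroup.card_dvd_of_le inf_le_right)))
    (FixP P V) ⊤ (fun _ _ _ _ => trivial) (a := η) trivial (fun g hg => (hS g).1 hg.1)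
  have hS0 : ∀ g : G, (g • η₀) * η₀⁻¹ ∈ FixP P V ↔ g ∈ S := by
    intro g
    rw [hS]
    have h4 : (g • η₀) * η₀⁻¹ = (g • (η₀ * η⁻¹)) * ((g • η) * η⁻¹) * (η₀ * η⁻¹)⁻¹ := by
      rw [smul_mul_inv]
      group
    constructor
    · intro h5
      have h6 : (g • η) * η⁻¹ = (g • (η₀ * η⁻¹))⁻¹ * ((g • η₀) * η₀⁻¹) * (η₀ * η⁻¹) := by
        rw [h4]; group
      rw [h6]
      exact (FixP P V).mul_mem ((FixP P V).mul_mem ((FixP P V).inv_mem (smul_FixP hP g h2)) h5) h2
    · intro h5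
      rw [h4]
      exact (FixP P V).mul_mem ((FixP P V).mul_mem (smul_FixP hP g h2) h5) ((FixP P V).inv_mem h2)
  have hη0 : η₀ ∉ FixP P V := by
    intro h4
    apply hη
    have h5 : η = (η₀ * η⁻¹)⁻¹ * η₀ := by group
    rw [h5]
    exact (FixP P V).mul_mem ((FixP P V).inv_mem h2) h4
  refine ⟨η₀, hη0, fun x hx => (hS0 x).2 (hPη x hx), ?_, ?_⟩
  · intro k hk hkη
    exact h3 k ⟨(hS k).2 (by rw [hkη, mul_inv_cancel]; exact (FixP P V).one_mem), hk⟩
  · intro g
    obtain ⟨y, hy⟩ := hst η₀ hη0 g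
    have h4 : y ∈ S := by
      rw [← hS0, hy, mul_comm η₀, mul_inv_cancel_right]
      exact smul_FixP hP g hμ
    obtain ⟨x, hx, k, hk, rfl⟩ := hdec y
    have h5 : k ∈ S := by
      have h6 : k = x⁻¹ * (x * k) := by group
      rw [h6]
      exact mul_mem (inv_mem ((hS x).2 (hPη x hx))) h4
    refine ⟨x, hx, ?_⟩
    rw [← hy, mul_smul, h3 k ⟨h5, hk⟩]

theorem fix_orbit [Finite V] (hV : PV p V) {P K : Subgroup G} (hP : P.Normal) (hPp : IsPGroup p P)
    (hdec : ∀ g : G, ∃ x ∈ P, ∃ k ∈ K, x * k = g) (hK : ¬ p ∣ Nat.card K) {μ : V}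
    (hμ1 : μ ≠ 1) (hμ : μ ∈ FixP P V)
    (hst : ∀ η : V, η ∉ FixP P V → ∀ g : G, ∃ y : G, y • η = η * (g • μ))
    (hex : ∃ η : V, η ∉ FixP P V) (F : Subgroup G) (hcF : ¬ p ∣ Nat.card F) (hFK : F ≤ K)
    (hFμ : ∀ y ∈ F, y • μ = μ) (hPF : ∀ x ∈ P, ∀ y ∈ F, ∀ v : V, x • y • v = y • x • v) :
    ∀ y ∈ F, ∀ g : G, y • (g • μ) = g • μ := by
  obtain ⟨η, hη, hPη⟩ := exists_fixed_coset' (G := G) (V := V) hV P
    hPp (FixP P V) (fun x _ w hw => smul_FixP hP x hw) hex
  obtain ⟨η₀, hη₀, hPη₀, -, hη₀s⟩ := avg hV hP hdec hK hμ hst hη hPη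
  have hnm : ∀ z ∈ P, ∀ v : V, nm F (z • v) = z • nm F v := fun z hz v =>
    nm_comm F (fun y hy w => hPF z hz y hy w) v
  set κ := nm F η₀ with hκ
  have hκW : κ ∉ FixP P V := by
    intro h1
    obtain ⟨z, hz, hz1⟩ := hη₀s 1
    rw [one_smul] at hz1
    have h2 := hnm z hz η₀
    rw [← hκ, h1 z hz, hz1, map_mul, ← hκ, mul_eq_left, nm_of_fixed _ hFμ] at h2
    exact hμ1 (hV.eq_one hcF h2)
  have hPκ : ∀ z ∈ P, (z • κ) * κ⁻¹ ∈ FixP P V := by
    intro z hz
    rw [hκ, ← hnm z hz, ← map_inv, ← map_mul]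
    exact nm_mem F (FixP P V) (fun y _ v hv => smul_FixP hP y hv) (hPη₀ z hz)
  obtain ⟨κ₀, hκ₀, hPκ₀, hκ₀f, hκ₀s⟩ := avg hV hP hdec hK hμ hst hκW hPκ
  have hFκ₀ : ∀ y ∈ F, y • κ₀ = κ₀ := fun y hy => hκ₀f y (hFK hy) (smul_nm F hy η₀)
  intro y hy g
  obtain ⟨z, hz, hz1⟩ := hκ₀s g
  have h1 := hPF z hz y hy κ₀
  rw [hFκ₀ y hy, hz1, smul_mul', hFκ₀ y hy] at h1
  exact (mul_left_cancel h1).symm

end Cfsg.Agent.H673.Orb
end

-- part: H673/ConnD
section
/-!
# The relative degree graph: connected case, `N` a `p`-group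

The complement, and the case in which the Sylow `p`-subgroup acts nontrivially on the dual of `N`.
-/

set_option autoImplicit false
set_option linter.style.haveILetI false
set_option linter.unusedSectionVars false
open Cfsg

namespace Cfsg.Agent.H673

open Cfsg.Agent.H672
open Cfsg.Agent.Characters.Core Cfsg.Agent.Characters.Clifford
open scoped ComplexConjugate

universe u v w

/-- The Itô-Michler property of all sections. -/
def AllIM (G : Type u) [Group G] : Prop :=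
  ∀ (r : ℕ) [Fact r.Prime] (M T : Subgroup G) [M.Normal], M ≤ T →
    H670.PSing.IM r (T ⧸ M.subgroupOf T)

section

variable {G : Type u} [Group G] [Finite G] {N : Subgroup G} [hN : N.Normal]
variable {p : ℕ} [hp : Fact p.Prime]

attribute [local instance] dualAct

theorem smul_of_mem_N {g : G} (hg : g ∈ N) (l : N →* ℂˣ) : g • l = l := by
  ext n
  rw [smul_apply]
  have e : MulAut.conjNormal g⁻¹ n = (⟨g, hg⟩ : N)⁻¹ * n * ⟨g, hg⟩ := by
    apply Subtype.ext
    rw [MulAut.conjNormal_apply, inv_inv]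
    rfl
  rw [e, map_mul, map_mul, map_inv, mul_comm (l ⟨g, hg⟩)⁻¹, inv_mul_cancel_right]

theorem mem_commutator_of_dual {A : Type v} [Group A] [Finite A] {x : A}
    (h : ∀ v : A →* ℂˣ, v x = 1) : x ∈ commutator A := by
  by_contra hx
  have h1 : (Abelianization.of x : Abelianization A) ≠ 1 := by
    intro h2
    exact hx ((QuotientGroup.eq_one_iff x).1 h2)
  obtain ⟨f, hf⟩ := exists_dual_ne (A := Abelianization A) (fun a b => mul_comm a b) h1
  exact hf (h (f.comp Abelianization.of))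

/-- A `p'`-group acting trivially on the dual of a normal `p`-subgroup centralises it. -/
theorem centralises_of_dual (hNp : IsPGroup p N) (F : Subgroup G)
    (hF : Nat.Coprime (Nat.card F) (Nat.card N)) (htriv : ∀ y ∈ F, ∀ v : N →* ℂˣ, y • v = v) :
    ∀ y ∈ F, ∀ n ∈ N, n * y = y * n := by
  classical
  have hle : F ≤ Subgroup.normalizer (N : Set G) := fun y _ =>
    Subgroup.mem_normalizer_fintype (fun x hx => hN.conj_mem x hx y)
  haveI : Group.IsNilpotent N := IsPGroup.isNilpotent hNp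
  have h1 := S0026.result F N hle hF (Or.inr inferInstance)
  have h2 : ⁅N, F⁆ ≤ (commutator N).map N.subtype := by
    rw [Subgroup.commutator_le]
    intro n hn y hy
    have hmem : y * n⁻¹ * y⁻¹ ∈ N := hN.conj_mem _ (inv_mem hn) y
    refine ⟨⟨n, hn⟩ * ⟨y * n⁻¹ * y⁻¹, hmem⟩, ?_, ?_⟩
    · apply mem_commutator_of_dual
      intro v
      have e : v ⟨y * n⁻¹ * y⁻¹, hmem⟩ = v ⟨n⁻¹, inv_mem hn⟩ := by
        have h3 := DFunLike.congr_fun (htriv y⁻¹ (inv_mem hy) v) (⟨n⁻¹, inv_mem hn⟩ : N)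
        rw [smul_apply, inv_inv] at h3
        rw [← h3]
        congr 1
      rw [map_mul, e, ← map_mul]
      have e2 : (⟨n, hn⟩ : N) * ⟨n⁻¹, inv_mem hn⟩ = 1 := Subtype.ext (mul_inv_cancel n)
      rw [e2, map_one]
    · show n * (y * n⁻¹ * y⁻¹) = n * y * n⁻¹ * y⁻¹
      group
  have h3 : (N ⊓ Subgroup.centralizer (F : Set G)).subgroupOf N = ⊤ := by
    apply frattini_nongenerating
    rw [eq_top_iff]
    intro x _
    have h4 : (x : G) ∈ ⁅N, F⁆ ⊔ (N ⊓ Subgroup.centralizer (F : Set G)) := by rw [h1]; exact x.2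
    have h5 : (x : G) ∈ ((commutator N).map N.subtype) ⊔
        (N ⊓ Subgroup.centralizer (F : Set G)) := sup_le_sup_right h2 _ h4
    have h6 : ((commutator N).map N.subtype) ⊔ (N ⊓ Subgroup.centralizer (F : Set G)) ≤
        ((N ⊓ Subgroup.centralizer (F : Set G)).subgroupOf N ⊔ frattini N).map N.subtype := by
      apply sup_le
      · exact Subgroup.map_mono
          (le_sup_of_le_right (Lib.FrattiniBasic.commutator_le_frattini hNp))
      · intro z hz
        exact ⟨⟨z, hz.1⟩, Subgroup.mem_sup_left hz, rfl⟩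
    obtain ⟨z, hz, hzx⟩ := h6 h5
    have h7 : z = x := Subtype.ext hzx
    rwa [← h7]
  intro y hy n hn
  have h4 : (⟨n, hn⟩ : N) ∈ (N ⊓ Subgroup.centralizer (F : Set G)).subgroupOf N := by
    rw [h3]; trivial
  have h5 : n ∈ N ⊓ Subgroup.centralizer (F : Set G) := h4
  exact (Subgroup.mem_centralizer_iff.1 h5.2 y hy).symm

theorem coprime_card_sylow {q : ℕ} [hq : Fact q.Prime] (hqp : q ≠ p) (hNp : IsPGroup p N)
    (Q : Sylow q G) : Nat.Coprime (Nat.card (Q : Subgroup G)) (Nat.card N) := by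
  obtain ⟨a, ha⟩ := IsPGroup.iff_card.1 hNp
  obtain ⟨b, hb⟩ := IsPGroup.iff_card.1 Q.isPGroup'
  rw [ha, hb]
  exact Nat.Coprime.pow _ _ ((Nat.coprime_primes hq.out hp.out).2 hqp)

/-- **The trivial case.** -/
theorem not_dvd_of_trivial {f : ℕ} [hf : Fact f.Prime] (hfp : f ≠ p) (hNp : IsPGroup p N)
    (F : Sylow f G) (htriv : ∀ y ∈ (F : Subgroup G), ∀ v : N →* ℂˣ, y • v = v)
    (hnorm : ∀ g : G, ∀ y ∈ (F : Subgroup G), g * y * g⁻¹ ∈ N ⊔ (F : Subgroup G))
    (hab : ∀ x ∈ (F : Subgroup G), ∀ y ∈ (F : Subgroup G), x * y = y * x)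
    {d : ℕ} (hd : d ∈ relCharDegrees N) : ¬ f ∣ d := by
  have hcop := coprime_card_sylow hfp hNp F
  have hc := centralises_of_dual hNp (F : Subgroup G) hcop htriv
  have hFn : (F : Subgroup G).Normal := by
    refine ⟨fun y hy g => ?_⟩
    obtain ⟨n, hn, z, hz, hnz⟩ := Subgroup.mem_sup_of_normal_left.1 (hnorm g y hy)
    have h1 : (g * y * g⁻¹) ^ Nat.card (F : Subgroup G) = 1 := by
      have h2 : y ^ Nat.card (F : Subgroup G) = 1 := by
        have := pow_card_eq_one' (x := (⟨y, hy⟩ : (F : Subgroup G)))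
        exact congrArg Subtype.val this
      rw [conj_pow, h2, mul_one, mul_inv_cancel]
    have h3 : z ^ Nat.card (F : Subgroup G) = 1 := by
      have := pow_card_eq_one' (x := (⟨z, hz⟩ : (F : Subgroup G)))
      exact congrArg Subtype.val this
    have h4 : Commute n z := hc z hz n hn
    rw [← hnz, h4.mul_pow, h3, mul_one] at h1
    have h5 : n ^ Nat.card N = 1 := by
      have := pow_card_eq_one' (x := (⟨n, hn⟩ : N))
      exact congrArg Subtype.val this
    have h6 : n = 1 := by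
      have := pow_gcd_eq_one.2 ⟨h1, h5⟩
      rwa [Nat.Coprime.gcd_eq_one hcop, pow_one] at this
    rw [← hnz, h6, one_mul]
    exact hz
  obtain ⟨⟨χ, hχ⟩, -, rfl⟩ := hd
  intro h1
  exact F.not_dvd_index (h1.trans (charDegree_dvd_index hab hχ))

/-- The situation with a complement. -/
structure Bad2 (p : ℕ) (N : Subgroup G) [N.Normal] (μ : N →* ℂˣ) (b : ℕ) (P : Sylow p G)
    (K : Subgroup G) : Prop extends Bad p N μ b where
  hIM : AllIM G
  hP : (P : Subgroup G).Normal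
  hK : Subgroup.IsComplement' (P : Subgroup G) K

theorem Bad.exists_bad2 {μ : N →* ℂˣ} {b : ℕ} (h : Bad p N μ b) (hIM : AllIM G) :
    ∃ (P : Sylow p G) (K : Subgroup G), Bad2 p N μ b P K := by
  obtain ⟨P⟩ : Nonempty (Sylow p G) := inferInstance
  have hP := h.sylow_normal (fun T hT => hIM p N T hT) P
  obtain ⟨K, hK⟩ := Subgroup.exists_right_complement'_of_coprime (N := (P : Subgroup G))
    P.card_coprime_index
  exact ⟨P, K, ⟨h, hIM, hP, hK⟩⟩

namespace Bad2

variable {μ : N →* ℂˣ} {b : ℕ} {P : Sylow p G} {K : Subgroup G} (h : Bad2 p N μ b P K)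
include h

theorem hNP : N ≤ (P : Subgroup G) := h.hNp.le_sylow_of_normal P

theorem decomp (g : G) : ∃ x ∈ (P : Subgroup G), ∃ k ∈ K, x * k = g := by
  haveI := h.hP
  have h1 : g ∈ (P : Subgroup G) ⊔ K := by rw [h.hK.sup_eq_top]; trivial
  obtain ⟨x, hx, k, hk, e⟩ := Subgroup.mem_sup_of_normal_left.1 h1
  exact ⟨x, hx, k, hk, e⟩

theorem eq_one_of_mem {x : G} (h1 : x ∈ (P : Subgroup G)) (h2 : x ∈ K) : x = 1 := by
  have h3 : x ∈ (P : Subgroup G) ⊓ K := ⟨h1, h2⟩
  rwa [h.hK.disjoint.eq_bot, Subgroup.mem_bot] at h3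

theorem mem_of_mem_sup {Q : Subgroup G} (hQ : Q ≤ K) {y : G} (hy : y ∈ N ⊔ Q) (hyK : y ∈ K) :
    y ∈ Q := by
  obtain ⟨n, hn, z, hz, hnz⟩ := Subgroup.mem_sup_of_normal_left.1 hy
  have h1 : n = y * z⁻¹ := by rw [← hnz]; group
  have h2 : n ∈ K := by rw [h1]; exact mul_mem hyK (inv_mem (hQ hz))
  have h3 := h.eq_one_of_mem (h.hNP hn) h2
  rw [← hnz, h3, one_mul]
  exact hz

theorem not_dvd_card : ¬ p ∣ Nat.card K := by
  have h1 : Nat.card K = (P : Subgroup G).index := h.hK.symm.index_eq_card.symm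
  rw [h1]
  exact P.not_dvd_index

theorem index_K : K.index = Nat.card (P : Subgroup G) := h.hK.index_eq_card

theorem stab_P {l : N →* ℂˣ} (hl : ¬ p ∣ (MulAction.stabilizer G l).index) :
    (P : Subgroup G) ≤ MulAction.stabilizer G l :=
  h.le_stab (fun T hT => h.hIM p N T hT) P _ hl

theorem not_dvd_of_P {l : N →* ℂˣ} (hl : (P : Subgroup G) ≤ MulAction.stabilizer G l) :
    ¬ p ∣ (MulAction.stabilizer G l).index := fun h1 =>
  P.not_dvd_index (h1.trans (Subgroup.index_dvd_of_le hl))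

/-- Sylow subgroups of `G` in a stabilizer -/
theorem exists_sylow_K {r : ℕ} [hr : Fact r.Prime] (hrp : r ≠ p) (S : Subgroup G)
    (hS : ¬ r ∣ S.index) (hpS : ¬ p ∣ S.index) :
    ∃ Q : Sylow r G, (Q : Subgroup G) ≤ K ∧ (Q : Subgroup G) ≤ S := by
  obtain ⟨m, hm⟩ := IsPGroup.iff_card.1 P.isPGroup'
  have h1 : K.index = p ^ m := by rw [h.index_K, hm]
  have h2 : Nat.Coprime K.index S.index := by
    rw [h1]
    exact Nat.Coprime.pow_left _ ((Nat.Prime.coprime_iff_not_dvd hp.out).2 hpS)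
  have h3 := Orb.index_inf_of_coprime K S h2
  obtain ⟨Q, hQ⟩ := exists_sylow_le (r := r) (K ⊓ S) (by
    rw [h3, h1]
    intro h4
    rcases (Nat.Prime.dvd_mul hr.out).1 h4 with h5 | h5
    · exact hrp ((Nat.prime_dvd_prime_iff_eq hr.out hp.out).1 (hr.out.dvd_of_dvd_pow h5))
    · exact hS h5)
  exact ⟨Q, hQ.trans inf_le_left, hQ.trans inf_le_right⟩

/-- The structure of the stabilizers. -/
theorem kr {r : ℕ} [hr : Fact r.Prime] (hrp : r ≠ p) {l : N →* ℂˣ} (hl1 : l ≠ 1)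
    (hl : ¬ p ∣ (MulAction.stabilizer G l).index)
    (hdeg : ∀ χ : G → ℂ, IsIrrCharacter G χ → Over N.subtype χ (lf l) → ¬ r ∣ charDegree χ)
    (Q : Sylow r G) (hQK : (Q : Subgroup G) ≤ K)
    (hQl : (Q : Subgroup G) ≤ MulAction.stabilizer G l) :
    (∀ x ∈ (Q : Subgroup G), ∀ y ∈ (Q : Subgroup G), x * y = y * x) ∧
    (∀ x ∈ (P : Subgroup G), ∀ y ∈ (Q : Subgroup G), x * y * x⁻¹ * y⁻¹ ∈ N) ∧
    (∀ t ∈ K, t ∈ MulAction.stabilizer G l → ∀ y ∈ (Q : Subgroup G),
      t * y * t⁻¹ ∈ (Q : Subgroup G)) := by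
  obtain ⟨h1, h2⟩ := h.inertia_pair hl1 hl hdeg (fun T hT => h.hIM r N T hT) Q hQl
  refine ⟨?_, ?_, ?_⟩
  · intro x hx y hy
    have h3 := h2 x hx y hy
    have h4 : x * y * x⁻¹ * y⁻¹ ∈ (Q : Subgroup G) :=
      mul_mem (mul_mem (mul_mem hx hy) (inv_mem hx)) (inv_mem hy)
    have h5 := disjoint_sylow hrp P Q (h.hNP h3) h4
    calc x * y = (x * y * x⁻¹ * y⁻¹) * (y * x) := by group
      _ = y * x := by rw [h5, one_mul]
  · intro x hx y hy
    have h3 := h1 x (h.stab_P hl hx) y hy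
    have h4 : x * y * x⁻¹ * y⁻¹ ∈ N ⊔ (Q : Subgroup G) :=
      mul_mem h3 (Subgroup.mem_sup_right (inv_mem hy))
    have h5 : x * y * x⁻¹ * y⁻¹ ∈ (P : Subgroup G) := by
      have h6 : x * y * x⁻¹ * y⁻¹ = x * (y * x⁻¹ * y⁻¹) := by group
      rw [h6]
      exact mul_mem hx (h.hP.conj_mem _ (inv_mem hx) y)
    obtain ⟨n, hn, z, hz, hnz⟩ := Subgroup.mem_sup_of_normal_left.1 h4
    have h6 : z = n⁻¹ * (x * y * x⁻¹ * y⁻¹) := by rw [← hnz]; group
    have h7 : z ∈ (P : Subgroup G) := by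
      rw [h6]; exact mul_mem (inv_mem (h.hNP hn)) h5
    have h8 := disjoint_sylow hrp P Q h7 hz
    rw [← hnz, h8, mul_one]
    exact hn
  · intro t htK ht y hy
    exact h.mem_of_mem_sup hQK (h1 t ht y hy) (mul_mem (mul_mem htK (hQK hy)) (inv_mem htK))

theorem P_comm {Q : Subgroup G}
    (hQ : ∀ x ∈ (P : Subgroup G), ∀ y ∈ Q, x * y * x⁻¹ * y⁻¹ ∈ N)
    {x : G} (hx : x ∈ (P : Subgroup G)) {y : G} (hy : y ∈ Q) (v : N →* ℂˣ) :
    x • y • v = y • x • v := by
  have h2 := smul_of_mem_N (hQ x hx y hy) (y • x • v)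
  rw [← mul_smul, ← mul_smul] at h2
  have h3 : x * y * x⁻¹ * y⁻¹ * y * x = x * y := by group
  rw [h3, mul_smul] at h2
  exact h2

/-- **The Sylow subgroup `F` is not normal in `K`.** -/
theorem false_of_normal {f : ℕ} [hf : Fact f.Prime] (hfp : f ≠ p)
    {x : ℕ} (hx : x ∈ relCharDegrees N) (hpx : p ∣ x) (hfx : f ∣ x)
    (F : Sylow f G) (hFμ : (F : Subgroup G) ≤ MulAction.stabilizer G μ)
    (hab : ∀ x ∈ (F : Subgroup G), ∀ y ∈ (F : Subgroup G), x * y = y * x)
    (hPF : ∀ x ∈ (P : Subgroup G), ∀ y ∈ (F : Subgroup G), x * y * x⁻¹ * y⁻¹ ∈ N)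
    (hnorm : ∀ k ∈ K, ∀ y ∈ (F : Subgroup G), k * y * k⁻¹ ∈ (F : Subgroup G)) : False := by
  by_cases htriv : ∀ y ∈ (F : Subgroup G), ∀ v : N →* ℂˣ, y • v = v
  · refine not_dvd_of_trivial hfp h.hNp F htriv ?_ hab hx hfx
    intro g y hy
    obtain ⟨z, hz, k, hk, rfl⟩ := h.decomp g
    have h1 := hnorm k hk y hy
    have h2 := hPF z hz _ h1
    have h3 : z * k * y * (z * k)⁻¹ =
        (z * (k * y * k⁻¹) * z⁻¹ * (k * y * k⁻¹)⁻¹) * (k * y * k⁻¹) := by group
    rw [h3]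
    exact mul_mem (Subgroup.mem_sup_left h2) (Subgroup.mem_sup_right h1)
  push Not at htriv
  obtain ⟨l, hfl, hle1, hle2, hne⟩ := Orb.exists_product (G := G) (V := N →* ℂˣ) hfp
    (pV_dual h.hNp) (P : Subgroup G) K h.decomp F (fun x hx y hy v => h.P_comm hPF hx hy v) hnorm
    (fun y hy => hFμ hy) htriv
  obtain ⟨ψ, hψ, ho⟩ := exists_over N _ (isIrr_lf (μ * l))
  have h1 := stab_dvd_of_over hψ ho
  have h2 : f ∣ charDegree ψ := (hfl.trans (Subgroup.index_dvd_of_le hle2)).trans h1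
  refine h.not_coprime_of_dvd ((Subgroup.index_dvd_of_le hle1).trans h1) ?_
  refine h.f2 x hx hpx _ (mem_rel_of_over hψ ho hne) ?_
  intro h3
  exact hf.out.one_lt.ne' (Nat.eq_one_of_dvd_coprimes h3 hfx h2)

/-- normality of `F` in `K` from `F` fixing the orbit of `μ` -/
theorem norm_of_fix {f : ℕ} [hf : Fact f.Prime] (F : Sylow f G) (hFK : (F : Subgroup G) ≤ K)
    {l : N →* ℂˣ} (hk4 : ∀ t ∈ K, t ∈ MulAction.stabilizer G l → ∀ y ∈ (F : Subgroup G),
      t * y * t⁻¹ ∈ (F : Subgroup G)) {k : G} (hk : k ∈ K)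
    (hfix : ∀ y ∈ (F : Subgroup G), y • (k⁻¹ • l) = k⁻¹ • l) :
    ∀ y ∈ (F : Subgroup G), k * y * k⁻¹ ∈ (F : Subgroup G) := by
  have hmem : ∀ t ∈ ((k • F : Sylow f G) : Subgroup G), ∃ y ∈ (F : Subgroup G),
      k * y * k⁻¹ = t := by
    intro t ht
    rw [Sylow.coe_subgroup_smul] at ht
    obtain ⟨y, hy, hyt⟩ := ht
    exact ⟨y, hy, hyt⟩
  have h1 : ((k • F : Sylow f G) : Subgroup G) ≤ (F : Subgroup G) := by
    apply Orb.le_sylow_of_normalizes (k • F).isPGroup'
    intro t ht z hz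
    obtain ⟨y, hy, rfl⟩ := hmem t ht
    apply hk4 _ (mul_mem (mul_mem hk (hFK hy)) (inv_mem hk)) _ z hz
    rw [MulAction.mem_stabilizer_iff, mul_smul, mul_smul, hfix y hy, smul_inv_smul]
  intro y hy
  apply h1
  rw [Sylow.coe_subgroup_smul]
  exact ⟨y, hy, rfl⟩

theorem mem_FixP_iff {v : N →* ℂˣ} : v ∈ Orb.FixP (P : Subgroup G) (N →* ℂˣ) ↔
    ¬ p ∣ (MulAction.stabilizer G v).index :=
  ⟨fun h1 => h.not_dvd_of_P h1, fun h1 => h.stab_P h1⟩

theorem mu_mem : μ ∈ Orb.FixP (P : Subgroup G) (N →* ℂˣ) := h.mem_FixP_iff.2 h.not_dvd_u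

theorem stable' (η : N →* ℂˣ) (hη : η ∉ Orb.FixP (P : Subgroup G) (N →* ℂˣ)) (g : G) :
    ∃ y : G, y • η = η * (g • μ) := by
  have h1 : p ∣ (MulAction.stabilizer G η).index := by
    by_contra h2
    exact hη (h.mem_FixP_iff.2 h2)
  have h2 : η ≠ 1 := by
    rintro rfl
    exact hη (Orb.FixP (P : Subgroup G) (N →* ℂˣ)).one_mem
  obtain ⟨ψ, hψ, ho⟩ := exists_over N _ (isIrr_lf η)
  obtain ⟨y, hy⟩ := h.stable h2 hψ ho (h1.trans (stab_dvd_of_over hψ ho)) g 1
  exact ⟨y, by rw [hy, one_smul]⟩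

/-- **Case A**: `P` acts nontrivially on the dual. -/
theorem caseA {f : ℕ} [hf : Fact f.Prime] (hfp : f ≠ p)
    {x : ℕ} (hx : x ∈ relCharDegrees N) (hpx : p ∣ x) (hfx : f ∣ x)
    (hfμ : ∀ χ : G → ℂ, IsIrrCharacter G χ → Over N.subtype χ (lf μ) → ¬ f ∣ charDegree χ)
    (hex : ∃ η : N →* ℂˣ, η ∉ Orb.FixP (P : Subgroup G) (N →* ℂˣ)) : False := by
  haveI := finite_dual N
  have hfμi : ¬ f ∣ (MulAction.stabilizer G μ).index := by
    obtain ⟨χ, hχ, ho⟩ := exists_over N _ (isIrr_lf μ)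
    exact fun h1 => hfμ χ hχ ho (h1.trans (stab_dvd_of_over hχ ho))
  obtain ⟨F, hFK, hFμ⟩ := h.exists_sylow_K hfp _ hfμi h.not_dvd_u
  obtain ⟨hab, hPF, hk4⟩ := h.kr hfp h.hμ1 h.not_dvd_u hfμ F hFK hFμ
  have hFo := Orb.fix_orbit (G := G) (V := N →* ℂˣ) (pV_dual h.hNp) h.hP P.isPGroup' h.decomp
    h.not_dvd_card h.hμ1 h.mu_mem h.stable' hex (F : Subgroup G) (Orb.not_dvd_card_sylow hfp F) hFK
    (fun y hy => hFμ hy) (fun x hx y hy v => h.P_comm hPF hx hy v)
  exact h.false_of_normal hfp hx hpx hfx F hFμ hab hPF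
    (fun k hk => h.norm_of_fix F hFK hk4 hk (fun y hy => hFo y hy k⁻¹))

end Bad2

end

end Cfsg.Agent.H673
end

-- part: H673/InIM2
section
/-!
# The Itô-Michler theorem in the inertia group of a character of a normal Sylow subgroup
-/

set_option autoImplicit false
set_option linter.style.haveILetI false
set_option linter.unusedSectionVars false
open Cfsg

namespace Cfsg.Agent.H673

open Cfsg.Agent.H672
open Cfsg.Agent.Characters.Core Cfsg.Agent.Characters.Clifford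
open scoped ComplexConjugate

universe u v w

variable {G : Type u} [Group G] [Finite G]

/-- Extension of an invariant character of a normal Sylow subgroup to its inertia group. -/
theorem exists_ext_inertia {p : ℕ} [hp : Fact p.Prime] (P : Subgroup G) [hP : P.Normal]
    (hPp : IsPGroup p P) (hidx : ¬ p ∣ P.index) {θ : P → ℂ} (hθ : IsIrrCharacter P θ)
    (T : Subgroup G) (hT : T = inertia P θ) (hPT : P ≤ T) :
    ∃ ξ : T → ℂ, IsIrrCharacter T ξ ∧ ∀ n : P, ξ ⟨n, hPT n.2⟩ = θ n := by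
  classical
  let e : P.subgroupOf T ≃* P := Subgroup.subgroupOfEquivOfLe hPT
  set θ' : P.subgroupOf T → ℂ := fun n => θ ⟨n, n.2⟩ with hθ'
  have hθ'i : IsIrrCharacter (P.subgroupOf T) θ' := isIrr_comp e.toMonoidHom e.surjective hθ
  have hN : (P.subgroupOf T).Normal := inferInstance
  have hinv : ∀ (g : T) (n : P.subgroupOf T),
      θ' ⟨g * n * g⁻¹, hN.conj_mem (n : T) n.2 g⟩ = θ' n := by
    intro g n
    have h1 : (g : G) ∈ inertia P θ := hT ▸ g.2
    exact mem_inertia_iff.1 h1 ⟨n, n.2⟩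
  have hd' : θ' 1 = (charDegree θ : ℕ) := (coe_charDegree hθ).symm
  have hcard : Nat.card (P.subgroupOf T) = Nat.card P := Nat.card_congr e.toEquiv
  obtain ⟨a, ha⟩ := IsPGroup.iff_card.1 hPp
  have hnd : ¬ p ∣ (P.subgroupOf T).index := fun h =>
    hidx (h.trans (Subgroup.relIndex_dvd_index_of_normal P T))
  have hcop : Nat.Coprime (P.subgroupOf T).index (detOrder θ' * charDegree θ) := by
    have h1 : Nat.Coprime (P.subgroupOf T).index (p ^ a) :=
      (Nat.Coprime.pow_left a ((hp.out.coprime_iff_not_dvd).2 hnd)).symm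
    rw [← ha, ← hcard] at h1
    refine Nat.Coprime.mul_right ?_ ?_
    · exact Nat.Coprime.coprime_dvd_right (H706.Canon.detOrder_dvd hθ'i) h1
    · exact Nat.Coprime.coprime_dvd_right (H706.Canon.degree_dvd_card hθ'i hd') h1
  obtain ⟨ψ, ⟨hψ, hres, -⟩, -⟩ :=
    Cfsg.Agent.S0867.result (P.subgroupOf T) θ' hθ'i hinv _ hd' hcop
  exact ⟨ψ, hψ, fun n => hres ⟨⟨n, hPT n.2⟩, n.2⟩⟩

/-- the induced twist lies over `θ` -/
theorem twist_irr_over2 {P : Subgroup G} [hP : P.Normal] {θ : P → ℂ} (hθ : IsIrrCharacter P θ)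
    (T : Subgroup G) (hT : T = inertia P θ) (hPT : P ≤ T) {ξ : T → ℂ} (hξ : IsIrrCharacter T ξ)
    (hξθ : ∀ n : P, ξ ⟨n, hPT n.2⟩ = θ n) {β : T → ℂ} (hβ : IsIrrCharacter T β)
    (hker : ∀ n : P, β ⟨n, hPT n.2⟩ = β 1) :
    ∃ χ : G → ℂ, IsIrrCharacter G χ ∧ Over P.subtype χ θ ∧
      charDegree χ = T.index * (charDegree β * charDegree ξ) := by
  classical
  letI := Fintype.ofFinite G
  letI := Fintype.ofFinite P
  letI := Fintype.ofFinite T
  have hTmem : ∀ g, g ∈ T ↔ OddOrderCharacters.NormalInduced.conjFn P θ g = θ := by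
    intro g
    rw [hT, mem_inertia_iff, funext_iff]
    rfl
  have hφ : IsIrrCharacter T (β * ξ) := by
    refine H597.FrobC.isIrr_mul_of_restrict (P.subgroupOf T) hξ ?_ hβ ?_
    · let e : P.subgroupOf T ≃* P := Subgroup.subgroupOfEquivOfLe hPT
      have h1 : IsIrrCharacter (P.subgroupOf T) (θ ∘ e) := isIrr_comp e.toMonoidHom e.surjective hθ
      have h2 : (fun n : P.subgroupOf T => ξ n) = θ ∘ e := by
        funext n
        exact hξθ ⟨n, n.2⟩
      rw [h2]
      exact h1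
    · intro k hk
      exact hker ⟨k, hk⟩
  have hresTo : OddOrderCharacters.PF9.CliffGen.resTo hPT (β * ξ) = β 1 • θ := by
    funext n
    show β ⟨n, hPT n.2⟩ * ξ ⟨n, hPT n.2⟩ = β 1 * θ n
    rw [hker, hξθ]
  have h0 : classInner (OddOrderCharacters.PF9.CliffGen.resTo hPT (β * ξ)) θ ≠ 0 := by
    rw [hresTo, classInner_smul_left, classInner_irr_self hθ, mul_one]
    exact isIrr_apply_one_ne_zero hβ
  have hirr := OddOrderCharacters.PF9.CliffGen.irr_ind hθ hTmem hPT hφ h0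
  refine ⟨_, hirr, ?_, ?_⟩
  · have h1 : Over T.subtype (indFun T (β * ξ)) (β * ξ) := by
      rw [over_iff]
      have h3 := CharactersDeep.NormalInd.classInner_indFun T (β * ξ)
        (indFun T (β * ξ)) (isIrr_isClassFunction hirr)
      rw [classInner_irr_self hirr] at h3
      intro h4
      have h5 := classInner_conj_symm (β * ξ) (fun h : T => indFun T (β * ξ) h)
      have h6 : classInner (fun h : T => indFun T (β * ξ) h) (β * ξ) = 0 := h4
      rw [← h3, h6] at h5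
      simp at h5
    have e : P.subtype = T.subtype.comp (Subgroup.inclusion hPT) := by ext; rfl
    rw [e]
    refine (over_comp_iff _ _ (isIrr_isCharacter hirr) hθ).2 ⟨_, hφ, h1, ?_⟩
    rw [over_iff]
    exact h0
  · rw [charDegree_indFun T hφ rfl, H597.FrobC.charDegree_mul hξ hβ]

/-- consequences of the Itô-Michler property of `T ⧸ M` -/
theorem of_IM_quotient {M : Subgroup G} [M.Normal] {r : ℕ} [hr : Fact r.Prime] (T : Subgroup G)
    (h1 : ∀ Q : Sylow r (T ⧸ M.subgroupOf T), (Q : Subgroup (T ⧸ M.subgroupOf T)).Normal ∧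
      ∀ a ∈ (Q : Subgroup (T ⧸ M.subgroupOf T)), ∀ b ∈ (Q : Subgroup (T ⧸ M.subgroupOf T)),
        a * b = b * a) (Q : Sylow r G) (hQT : (Q : Subgroup G) ≤ T) :
    (∀ t ∈ T, ∀ x ∈ (Q : Subgroup G), t * x * t⁻¹ ∈ M ⊔ (Q : Subgroup G)) ∧
    (∀ x ∈ (Q : Subgroup G), ∀ y ∈ (Q : Subgroup G), x * y * x⁻¹ * y⁻¹ ∈ M) := by
  classical
  let Q₁ : Sylow r T := Q.subtype hQT
  have hQ₁ : ∀ x : T, x ∈ (Q₁ : Subgroup T) ↔ (x : G) ∈ (Q : Subgroup G) := by
    intro x
    exact Iff.rfl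
  have h2 := h1 (Q₁.mapSurjective (QuotientGroup.mk'_surjective (M.subgroupOf T)))
  constructor
  · intro t ht x hx
    have h3 : QuotientGroup.mk' (M.subgroupOf T) (⟨x, hQT hx⟩ : T) ∈
        ((Q₁.mapSurjective (QuotientGroup.mk'_surjective (M.subgroupOf T)) :
          Sylow r (T ⧸ M.subgroupOf T)) : Subgroup (T ⧸ M.subgroupOf T)) :=
      Subgroup.mem_map_of_mem _ ((hQ₁ ⟨x, hQT hx⟩).2 hx)
    have h4 := h2.1.conj_mem _ h3 (QuotientGroup.mk' (M.subgroupOf T) (⟨t, ht⟩ : T))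
    obtain ⟨y, hy, hyt⟩ := h4
    rw [← map_mul, ← map_inv, ← map_mul] at hyt
    have h5 : y⁻¹ * ((⟨t, ht⟩ : T) * ⟨x, hQT hx⟩ * (⟨t, ht⟩ : T)⁻¹) ∈ M.subgroupOf T :=
      QuotientGroup.eq.1 hyt
    have h6 : (y : G)⁻¹ * (t * x * t⁻¹) ∈ M := Subgroup.mem_subgroupOf.1 h5
    have h7 : (y : G) ∈ (Q : Subgroup G) := (hQ₁ y).1 hy
    have h9 : t * x * t⁻¹ = (y : G) * ((y : G)⁻¹ * (t * x * t⁻¹)) := by group
    rw [h9]
    exact mul_mem (Subgroup.mem_sup_right h7) (Subgroup.mem_sup_left h6)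
  · intro x hx y hy
    have h := h2.2
      (QuotientGroup.mk' _ (⟨x, hQT hx⟩ : T)) (Subgroup.mem_map_of_mem _ ((hQ₁ ⟨x, hQT hx⟩).2 hx))
      (QuotientGroup.mk' _ (⟨y, hQT hy⟩ : T)) (Subgroup.mem_map_of_mem _ ((hQ₁ ⟨y, hQT hy⟩).2 hy))
    have h3 : ((⟨x, hQT hx⟩ : T) * ⟨y, hQT hy⟩ * (⟨x, hQT hx⟩ : T)⁻¹ * (⟨y, hQT hy⟩ : T)⁻¹) ∈
        M.subgroupOf T := by
      rw [← QuotientGroup.eq_one_iff]
      show QuotientGroup.mk' (M.subgroupOf T) _ = 1
      rw [map_mul, map_mul, map_mul, map_inv, map_inv, h]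
      group
    exact Subgroup.mem_subgroupOf.1 h3

/-- If all the characters over `θ ∈ Irr(P)` have degree prime to `r`, `P` a normal Sylow subgroup,
then `I(θ) / P` has a normal abelian Sylow `r`-subgroup. -/
theorem inertia_IM2 {p : ℕ} [hp : Fact p.Prime] (P : Subgroup G) [hP : P.Normal]
    (hPp : IsPGroup p P) (hidx : ¬ p ∣ P.index) {θ : P → ℂ} (hθ : IsIrrCharacter P θ)
    {r : ℕ} [hr : Fact r.Prime]
    (hdeg : ∀ χ : G → ℂ, IsIrrCharacter G χ → Over P.subtype χ θ → ¬ r ∣ charDegree χ)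
    (hIM : H670.PSing.IM r (inertia P θ ⧸ P.subgroupOf (inertia P θ))) (Q : Sylow r G)
    (hQT : (Q : Subgroup G) ≤ inertia P θ) :
    (∀ t ∈ inertia P θ, ∀ x ∈ (Q : Subgroup G), t * x * t⁻¹ ∈ P ⊔ (Q : Subgroup G)) ∧
    (∀ x ∈ (Q : Subgroup G), ∀ y ∈ (Q : Subgroup G), x * y * x⁻¹ * y⁻¹ ∈ P) := by
  have hPT : P ≤ inertia P θ := le_inertia (isIrr_isClassFunction hθ)
  obtain ⟨ξ, hξ, hξθ⟩ := exists_ext_inertia P hPp hidx hθ (inertia P θ) rfl hPT
  refine of_IM_quotient (inertia P θ) (hIM ?_) Q hQT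
  intro β hβ hrβ
  have hβirr : IsIrrCharacter (inertia P θ)
      (β ∘ (QuotientGroup.mk' (P.subgroupOf (inertia P θ)))) :=
    isIrr_comp (QuotientGroup.mk' (P.subgroupOf (inertia P θ)))
      (QuotientGroup.mk'_surjective _) hβ
  have hker : ∀ n : P, (β ∘ (QuotientGroup.mk' (P.subgroupOf (inertia P θ)))) ⟨n, hPT n.2⟩ =
      (β ∘ (QuotientGroup.mk' (P.subgroupOf (inertia P θ)))) 1 := by
    intro n
    show β (QuotientGroup.mk' (P.subgroupOf (inertia P θ)) ⟨n, hPT n.2⟩) =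
      β (QuotientGroup.mk' (P.subgroupOf (inertia P θ)) 1)
    congr 1
    rw [map_one]
    exact (QuotientGroup.eq_one_iff _).2 (Subgroup.mem_subgroupOf.2 n.2)
  obtain ⟨χ, hχ, ho, hd⟩ := twist_irr_over2 hθ (inertia P θ) rfl hPT hξ hξθ hβirr hker
  apply hdeg χ hχ ho
  rw [hd]
  apply Dvd.dvd.mul_left
  apply Dvd.dvd.mul_right
  rw [charDegree_comp_one]
  exact hrβ

end Cfsg.Agent.H673
end

-- part: H673/ConnE
section
/-!
# The relative degree graph: connected case, `N` a `p`-group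

The case in which the Sylow `p`-subgroup acts trivially on the dual of `N`: Sylow subgroups of the
complement.
-/

set_option autoImplicit false
set_option linter.style.haveILetI false
set_option linter.unusedSectionVars false
open Cfsg

namespace Cfsg.Agent.H673

open Cfsg.Agent.H672
open Cfsg.Agent.Characters.Core Cfsg.Agent.Characters.Clifford
open scoped ComplexConjugate

universe u v w

section

variable {G : Type u} [Group G] [Finite G] {N : Subgroup G} [hN : N.Normal]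
variable {p : ℕ} [hp : Fact p.Prime]

attribute [local instance] dualAct

theorem eq_of_le_sylow {X : Type v} [Group X] {r : ℕ} {R R' : Sylow r X}
    (h : (R' : Subgroup X) ≤ (R : Subgroup X)) : R' = R := by
  have h1 := R'.is_maximal' R.isPGroup' h
  exact Sylow.ext h1.symm

namespace Bad2

variable {μ : N →* ℂˣ} {b : ℕ} {P : Sylow p G} {K : Subgroup G} (h : Bad2 p N μ b P K)
include h

theorem relIndex_K (S : Subgroup G) (hS : ¬ p ∣ S.index) : (S.subgroupOf K).index = S.index := by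
  obtain ⟨m, hm⟩ := IsPGroup.iff_card.1 P.isPGroup'
  have h1 : K.index = p ^ m := by rw [h.index_K, hm]
  have h2 : Nat.Coprime K.index S.index := by
    rw [h1]
    exact Nat.Coprime.pow_left _ ((Nat.Prime.coprime_iff_not_dvd hp.out).2 hS)
  have h3 := Orb.index_inf_of_coprime K S h2
  have h4 : (S.subgroupOf K).index * K.index = (K ⊓ S).index := by
    have h5 := Subgroup.relIndex_mul_index (H := K ⊓ S) (K := K) inf_le_left
    rw [← h5, inf_comm, Subgroup.inf_relIndex_right]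
    rfl
  rw [h3, mul_comm] at h4
  exact Nat.eq_of_mul_eq_mul_left (Nat.pos_of_ne_zero Subgroup.index_ne_zero_of_finite) h4

/-- Sylow subgroups of `K` normal in a stabilizer -/
theorem card_sylow_K_dvd {r : ℕ} [hr : Fact r.Prime] (Q : Sylow r G) (hQK : (Q : Subgroup G) ≤ K)
    (S : Subgroup G) (hS : ¬ p ∣ S.index)
    (hk4 : ∀ t ∈ K, t ∈ S → ∀ y ∈ (Q : Subgroup G), t * y * t⁻¹ ∈ (Q : Subgroup G)) :
    Nat.card (Sylow r K) ∣ S.index := by
  rw [← h.relIndex_K S hS, (Q.subtype hQK).card_eq_index_normalizer]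
  apply Subgroup.index_dvd_of_le
  intro t ht
  apply Subgroup.mem_normalizer_fintype
  intro y hy
  exact hk4 t t.2 ht y hy

/-- `K`-level version -/
theorem krK {r : ℕ} [hr : Fact r.Prime] (hrp : r ≠ p) {l : N →* ℂˣ} (hl1 : l ≠ 1)
    (hl : ¬ p ∣ (MulAction.stabilizer G l).index)
    (hdeg : ∀ χ : G → ℂ, IsIrrCharacter G χ → Over N.subtype χ (lf l) → ¬ r ∣ charDegree χ) :
    Nat.card (Sylow r K) ∣ (MulAction.stabilizer G l).index ∧
    ∃ Q : Sylow r G, (Q : Subgroup G) ≤ K ∧ (Q : Subgroup G) ≤ MulAction.stabilizer G l ∧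
    (∀ x ∈ (Q : Subgroup G), ∀ y ∈ (Q : Subgroup G), x * y = y * x) ∧
    (∀ x ∈ (P : Subgroup G), ∀ y ∈ (Q : Subgroup G), x * y * x⁻¹ * y⁻¹ ∈ N) ∧
    (∀ t ∈ K, t ∈ MulAction.stabilizer G l → ∀ y ∈ (Q : Subgroup G),
      t * y * t⁻¹ ∈ (Q : Subgroup G)) := by
  have hri : ¬ r ∣ (MulAction.stabilizer G l).index := by
    obtain ⟨χ, hχ, ho⟩ := exists_over N _ (isIrr_lf l)
    exact fun h1 => hdeg χ hχ ho (h1.trans (stab_dvd_of_over hχ ho))
  obtain ⟨Q, hQK, hQl⟩ := h.exists_sylow_K hrp _ hri hl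
  obtain ⟨h1, h2, h3⟩ := h.kr hrp hl1 hl hdeg Q hQK hQl
  exact ⟨h.card_sylow_K_dvd Q hQK _ hl h3, Q, hQK, hQl, h1, h2, h3⟩

/-- uniqueness -/
theorem uniq_K {r : ℕ} [hr : Fact r.Prime] {l : N →* ℂˣ} (Q : Sylow r G)
    (hQK : (Q : Subgroup G) ≤ K)
    (hk4 : ∀ t ∈ K, t ∈ MulAction.stabilizer G l → ∀ y ∈ (Q : Subgroup G),
      t * y * t⁻¹ ∈ (Q : Subgroup G)) (R : Sylow r K)
    (hR : ∀ y ∈ (R : Subgroup K), (y : G) • l = l) : R = Q.subtype hQK := by
  have _ := h
  apply eq_of_le_sylow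
  apply Orb.le_sylow_of_normalizes R.isPGroup'
  intro t ht y hy
  exact hk4 t t.2 (hR t ht) y hy

theorem hab_P : ⁅(P : Subgroup G), (P : Subgroup G)⁆ ≤ N := by
  rw [Subgroup.commutator_le]
  intro x hx y hy
  have := h.comm_mem (fun T hT => h.hIM p N T hT) P x hx y hy
  exact this

/-- characters over nonlinear characters of `P` -/
theorem over_P {θ : ↥(P : Subgroup G) → ℂ} (hθ : IsIrrCharacter _ θ) (hθ1 : charDegree θ ≠ 1)
    {χ : G → ℂ} (hχ : IsIrrCharacter G χ) (ho : Over (P : Subgroup G).subtype χ θ) :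
    charDegree χ ∈ relCharDegrees N ∧ p ∣ charDegree χ := by
  haveI := h.hP
  refine ⟨rel_mono h.hab_P (mem_rel_commutator_of_nonlinear hχ hθ ho hθ1), ?_⟩
  have h1 := (charDegree_dvd_of_over (P : Subgroup G) hχ hθ ho).1
  rcases H670.PSing.charDegree_pgroup P.isPGroup' hθ with h2 | h2
  · exact (hθ1 h2).elim
  · exact h2.trans h1

/-- constituents on `P` of characters of degree divisible by `p` -/
theorem nonlinear_P {χ : G → ℂ} (hχ : IsIrrCharacter G χ) (hpχ : p ∣ charDegree χ)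
    {θ : ↥(P : Subgroup G) → ℂ} (hθ : IsIrrCharacter _ θ)
    (ho : Over (P : Subgroup G).subtype χ θ) : charDegree θ ≠ 1 := by
  haveI := h.hP
  intro h1
  have h2 := (charDegree_dvd_of_over (P : Subgroup G) hχ hθ ho).2
  rw [h1, Nat.div_one] at h2
  exact P.not_dvd_index (hpχ.trans h2)

/-- Sylow `e`-subgroups and nonlinear characters of `P` -/
theorem sylow_e {e : ℕ} [he : Fact e.Prime] (hep : e ≠ p)
    (hez : ∀ z ∈ relCharDegrees N, p ∣ z → ¬ e ∣ z)
    {θ : ↥(P : Subgroup G) → ℂ} (hθ : IsIrrCharacter _ θ) (hθ1 : charDegree θ ≠ 1) :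
    haveI := h.hP
    Nat.card (Sylow e K) ∣ (inertia (P : Subgroup G) θ).index ∧
    ∃ Q : Sylow e G, (Q : Subgroup G) ≤ K ∧ (Q : Subgroup G) ≤ inertia (P : Subgroup G) θ ∧
    (∀ x ∈ (Q : Subgroup G), ∀ y ∈ (Q : Subgroup G), x * y = y * x) := by
  haveI := h.hP
  have hPT : (P : Subgroup G) ≤ inertia (P : Subgroup G) θ :=
    le_inertia (isIrr_isClassFunction hθ)
  have hpi : ¬ p ∣ (inertia (P : Subgroup G) θ).index := fun h1 =>
    P.not_dvd_index (h1.trans (Subgroup.index_dvd_of_le hPT))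
  have hdeg : ∀ χ : G → ℂ, IsIrrCharacter G χ → Over (P : Subgroup G).subtype χ θ →
      ¬ e ∣ charDegree χ := by
    intro χ hχ ho
    obtain ⟨h1, h2⟩ := h.over_P hθ hθ1 hχ ho
    exact hez _ h1 h2
  have hei : ¬ e ∣ (inertia (P : Subgroup G) θ).index := by
    obtain ⟨χ, hχ, ho⟩ := exists_over (P : Subgroup G) _ hθ
    exact fun h1 => hdeg χ hχ ho (h1.trans (index_dvd_of_over hχ hθ ho))
  obtain ⟨Q, hQK, hQT⟩ := h.exists_sylow_K hep _ hei hpi
  obtain ⟨h1, h2⟩ := inertia_IM2 (P : Subgroup G) P.isPGroup' P.not_dvd_index hθ hdeg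
    (h.hIM e (P : Subgroup G) _ hPT) Q hQT
  refine ⟨h.card_sylow_K_dvd Q hQK _ hpi ?_, Q, hQK, hQT, ?_⟩
  · intro t htK htT y hy
    obtain ⟨z, hz, w, hw, hzw⟩ := Subgroup.mem_sup_of_normal_left.1 (h1 t htT y hy)
    have h3 : z = t * y * t⁻¹ * w⁻¹ := by rw [← hzw]; group
    have h4 : z ∈ K := by
      rw [h3]
      exact mul_mem (mul_mem (mul_mem htK (hQK hy)) (inv_mem htK)) (inv_mem (hQK hw))
    rw [← hzw, h.eq_one_of_mem hz h4, one_mul]
    exact hw
  · intro x hx y hy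
    have h3 : x * y * x⁻¹ * y⁻¹ ∈ K :=
      mul_mem (mul_mem (mul_mem (hQK hx) (hQK hy)) (inv_mem (hQK hx))) (inv_mem (hQK hy))
    have h4 := h.eq_one_of_mem (h2 x hx y hy) h3
    calc x * y = (x * y * x⁻¹ * y⁻¹) * (y * x) := by group
      _ = y * x := by rw [h4, one_mul]

/-- the degree prime to `p` and its constituent -/
theorem exists_lin {y : ℕ} (hy : y ∈ relCharDegrees N) (hpy : ¬ p ∣ y) :
    ∃ l : N →* ℂˣ, l ≠ 1 ∧ (MulAction.stabilizer G l).index ∣ y := by
  obtain ⟨⟨χ, hχ⟩, hk, rfl⟩ := hy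
  dsimp only at hk hpy ⊢
  obtain ⟨θ, hθ, ho⟩ := exists_under (f := N.subtype) hχ
  obtain ⟨l, rfl⟩ := lin_of_not_dvd h.hNp hχ hpy hθ ho
  refine ⟨l, ?_, stab_dvd_of_over hχ ho⟩
  rintro rfl
  exact ne_one_of_over N hχ hk (isIrr_lf _) ho lf_one

variable (hβ : ∀ v : N →* ℂˣ, v ∈ Orb.FixP (P : Subgroup G) (N →* ℂˣ))
include hβ

theorem notp (l : N →* ℂˣ) : ¬ p ∣ (MulAction.stabilizer G l).index := h.mem_FixP_iff.1 (hβ l)

theorem lin_not_dvd {l : N →* ℂˣ} (hl1 : l ≠ 1) {χ : G → ℂ} (hχ : IsIrrCharacter G χ)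
    (ho : Over N.subtype χ (lf l)) : ¬ p ∣ charDegree χ :=
  h.not_dvd_of_u hl1 (h.notp hβ l) hχ ho

/-- the Sylow `e`-subgroup of `K` is normal -/
theorem card_sylow_eq_one {e : ℕ} [he : Fact e.Prime] (hep : e ≠ p)
    (hez : ∀ z ∈ relCharDegrees N, p ∣ z → ¬ e ∣ z) : Nat.card (Sylow e K) = 1 := by
  classical
  haveI := h.hP
  by_contra hne
  obtain ⟨f, hf, hfn⟩ := Nat.exists_prime_and_dvd hne
  haveI : Fact f.Prime := ⟨hf⟩
  have hfz : ∀ z ∈ relCharDegrees N, p ∣ z → f ∣ z := by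
    rintro _ ⟨⟨χ, hχ⟩, -, rfl⟩ hpz
    dsimp only at hpz ⊢
    obtain ⟨θ, hθ, ho⟩ := exists_under (f := (P : Subgroup G).subtype) hχ
    have hθ1 := h.nonlinear_P hχ hpz hθ ho
    have h1 := (h.sylow_e hep hez hθ hθ1).1
    exact (hfn.trans h1).trans (index_dvd_of_over hχ hθ ho)
  have hfy : ∀ y ∈ relCharDegrees N, ¬ p ∣ y → ¬ f ∣ y := by
    obtain ⟨a, ha, hpa, haf⟩ := h.f1
    intro y hy hpy hfy
    exact hf.one_lt.ne' (Nat.eq_one_of_dvd_coprimes (haf y hy hpy) (hfz a ha hpa) hfy)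
  have hfp : f ≠ p := by
    rintro rfl
    apply h.not_dvd_card
    refine hfn.trans ?_
    obtain ⟨Q⟩ : Nonempty (Sylow e K) := inferInstance
    rw [Q.card_eq_index_normalizer]
    exact Subgroup.index_dvd_card _
  have hND : ∀ l : N →* ℂˣ, l ≠ 1 → ∀ χ : G → ℂ, IsIrrCharacter G χ →
      Over N.subtype χ (lf l) → ¬ f ∣ charDegree χ := fun l hl1 χ hχ ho =>
    hfy _ (mem_rel_of_over hχ ho hl1) (h.lin_not_dvd hβ hl1 hχ ho)
  obtain ⟨x, hx, y, hy, hpx, hpy, hxy⟩ := h.edge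
  have hyb := h.f2 x hx hpx y hy hxy
  obtain ⟨l, hl1, hly⟩ := h.exists_lin hy hpy
  obtain ⟨h1, F, hFK, hFμ, hab, hPF, hk4⟩ := h.krK hfp h.hμ1 h.not_dvd_u (hND μ h.hμ1)
  have h2 := (h.krK hfp hl1 (h.notp hβ l) (hND l hl1)).1
  have h3 : Nat.card (Sylow f K) = 1 :=
    Nat.eq_one_of_dvd_coprimes hyb (h2.trans hly) (h1.trans h.hb)
  haveI : Subsingleton (Sylow f K) := (Nat.card_eq_one_iff_unique.1 h3).1
  have h4 := Sylow.normal_of_subsingleton (F.subtype hFK)
  refine h.false_of_normal hfp hx hpx (hfz x hx hpx) F hFμ hab hPF ?_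
  intro k hk y hy
  exact h4.conj_mem ⟨y, hFK hy⟩ hy ⟨k, hk⟩

/-- the properties of the Sylow `e`-subgroup -/
theorem sylow_e_props {e : ℕ} [he : Fact e.Prime] (hep : e ≠ p)
    (hez : ∀ z ∈ relCharDegrees N, p ∣ z → ¬ e ∣ z) (R : Sylow e K) :
    haveI := h.hP
    (R : Subgroup K).Normal ∧
    (∀ x ∈ (R : Subgroup K), ∀ y ∈ (R : Subgroup K), x * y = y * x) ∧
    (∀ θ : ↥(P : Subgroup G) → ℂ, IsIrrCharacter _ θ → charDegree θ ≠ 1 →
      ∀ y ∈ (R : Subgroup K), (y : G) ∈ inertia (P : Subgroup G) θ) ∧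
    (∀ l : N →* ℂˣ, ¬ e ∣ (MulAction.stabilizer G l).index →
      ∀ y ∈ (R : Subgroup K), (y : G) • l = l) := by
  haveI := h.hP
  have h1 := h.card_sylow_eq_one hβ hep hez
  haveI : Subsingleton (Sylow e K) := (Nat.card_eq_one_iff_unique.1 h1).1
  have h2 : ∀ (θ : ↥(P : Subgroup G) → ℂ), IsIrrCharacter _ θ → charDegree θ ≠ 1 →
      (∀ x ∈ (R : Subgroup K), ∀ y ∈ (R : Subgroup K), x * y = y * x) ∧
      ∀ y ∈ (R : Subgroup K), (y : G) ∈ inertia (P : Subgroup G) θ := by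
    intro θ hθ hθ1
    obtain ⟨-, Q, hQK, hQT, hab⟩ := h.sylow_e hep hez hθ hθ1
    have h3 : R = Q.subtype hQK := Subsingleton.elim _ _
    rw [h3]
    exact ⟨fun x hx y hy => Subtype.ext (hab x hx y hy), fun y hy => hQT hy⟩
  refine ⟨Sylow.normal_of_subsingleton R, ?_, fun θ hθ hθ1 => (h2 θ hθ hθ1).2, ?_⟩
  · obtain ⟨x, hx, y, hy, hpx, hpy, hxy⟩ := h.edge
    obtain ⟨⟨χ, hχ⟩, -, rfl⟩ := hx
    dsimp only at hpx
    obtain ⟨θ, hθ, ho⟩ := exists_under (f := (P : Subgroup G).subtype) hχ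
    exact (h2 θ hθ (h.nonlinear_P hχ hpx hθ ho)).1
  · intro l hl y hy
    obtain ⟨Q, hQK, hQl⟩ := h.exists_sylow_K hep _ hl (h.notp hβ l)
    have h3 : R = Q.subtype hQK := Subsingleton.elim _ _
    rw [h3] at hy
    exact hQl hy

end Bad2

end

end Cfsg.Agent.H673
end
end

-- part: H673/Final
section
prune_inst 0x400000000000002000000002000000000400000000000000000006000002000000000000000000000000020020000000000000000000000000000000000000001000000000000000000000000000000000000000000000000000000000000000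
set_option linter.all false
open scoped Cfsg.Agent.FastGrp

-- part: H673/FinA
section
/-!
# A counting lemma on coprime action with abelian normal subgroup

`K` acts on the finite abelian `p`-group `A`, every nonzero element of which is fixed by exactly one
Sylow `f`-subgroup of `K`, and these are permuted transitively by the abelian normal subgroup `H`.
-/

set_option autoImplicit false
set_option linter.unusedSectionVars false
set_option linter.style.haveILetI false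

namespace Cfsg.Agent.H673.Fin

open MulAction

universe u v

theorem num_aux {p n s t s' t' : ℕ} (hp : p.Prime) (hn : 2 ≤ n) (hs : 0 < s)
    (h : p ^ t + n = n * p ^ s + 1) (h' : p ^ t' + n = n * p ^ s' + 1) : ¬ s < s' := by
  intro hss
  have key : ∀ {a b : ℕ}, 0 < a → p ^ b + n = n * p ^ a + 1 → a < b := by
    intro a b ha hab
    by_contra hcon
    have h1 : p ^ b ≤ p ^ a := Nat.pow_le_pow_right hp.pos (not_lt.1 hcon)
    have h2 : 2 ≤ p ^ a := le_trans hp.two_le (Nat.le_self_pow ha.ne' p)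
    nlinarith only [hn, hab, h1, h2]
  have h1 := key hs h
  have h2 := key (hs.trans hss) h'
  have hd : ((p : ℤ) ^ (s + 1)) ∣ (n : ℤ) * (p : ℤ) ^ s := by
    have e : (n : ℤ) * (p : ℤ) ^ s = n * (p : ℤ) ^ s' - (p : ℤ) ^ t' + (p : ℤ) ^ t := by
      have e1 : (p : ℤ) ^ t + n = n * (p : ℤ) ^ s + 1 := by exact_mod_cast h
      have e2 : (p : ℤ) ^ t' + n = n * (p : ℤ) ^ s' + 1 := by exact_mod_cast h'
      linarith only [h, h']
    rw [e]
    refine dvd_add (dvd_sub (Dvd.dvd.mul_left (pow_dvd_pow _ hss) _) (pow_dvd_pow _ ?_))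
      (pow_dvd_pow _ h1)
    omega
  have hd' : p ^ (s + 1) ∣ n * p ^ s := by exact_mod_cast hd
  rw [pow_succ, mul_comm n] at hd'
  have hpn : p ∣ n := (Nat.mul_dvd_mul_iff_left (pow_pos hp.pos s)).1 hd'
  have h3 : p ∣ p ^ t := dvd_pow_self p (by omega)
  have h4 : p ∣ n * p ^ s + 1 := by rw [← h]; exact dvd_add h3 hpn
  have h5 : p ∣ 1 := (Nat.dvd_add_right (hpn.mul_right _)).1 h4
  exact hp.one_lt.ne' (Nat.dvd_one.1 h5)

theorem num_two {p n s t : ℕ} (hp : p.Prime) (hn : 2 ≤ n) (hs : 0 < s)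
    (h : p ^ t + n = n * p ^ s + 1) (hle : p ^ t ≤ p ^ s * p ^ s) : n = p ^ s + 1 := by
  have h2 : 2 ≤ p ^ s := le_trans hp.two_le (Nat.le_self_pow hs.ne' p)
  have h1 : s < t := by
    by_contra hcon
    have h1 : p ^ t ≤ p ^ s := Nat.pow_le_pow_right hp.pos (not_lt.1 hcon)
    nlinarith only [hn, h, h2, h1]
  have hd : p ^ s ∣ p ^ t := pow_dvd_pow _ h1.le
  obtain ⟨m, rfl⟩ : ∃ m, n = m + 1 := ⟨n - 1, by omega⟩
  have h3 : p ^ s ∣ p ^ t + m := by
    have : p ^ t + m = (m + 1) * p ^ s := by omega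
    rw [this]
    exact dvd_mul_left _ _
  have h4 : p ^ s ∣ m := (Nat.dvd_add_right hd).1 h3
  have h5 : p ^ s ≤ m := Nat.le_of_dvd (by omega) h4
  have h6 : m ≤ p ^ s := by
    by_contra hcon
    push Not at hcon
    nlinarith only [hle, h2, h, hcon]
  omega

variable {K : Type u} [Group K] [Finite K] {A : Type v} [AddCommGroup A] [Finite A]
  [DistribMulAction K A]
variable {p f : ℕ} [hp : Fact p.Prime] [hf : Fact f.Prime]

/-- the fixed points of a Sylow subgroup -/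
def Fx (A : Type v) [AddCommGroup A] [DistribMulAction K A] (R : Sylow f K) : AddSubgroup A where
  carrier := {a | ∀ y ∈ (R : Subgroup K), y • a = a}
  zero_mem' := fun y _ => smul_zero y
  add_mem' := by
    intro a b ha hb y hy
    rw [smul_add, ha y hy, hb y hy]
  neg_mem' := by
    intro a ha y hy
    rw [smul_neg, ha y hy]

theorem smul_mem_Fx (h : K) {R : Sylow f K} {a : A} (ha : a ∈ Fx A R) :
    h • a ∈ Fx A (h • R) := by
  intro y hy
  rw [Sylow.coe_subgroup_smul] at hy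
  obtain ⟨z, hz, hzy⟩ := hy
  have h1 : h * z * h⁻¹ = y := hzy
  rw [← h1, mul_smul, mul_smul, inv_smul_smul, ha z hz]

/-- The hypotheses. -/
structure FHyp (p f : ℕ) (K : Type u) [Group K] (A : Type v) [AddCommGroup A]
    [DistribMulAction K A] (H : Subgroup K) : Prop where
  card : ∃ t, Nat.card A = p ^ t
  trans : ∀ R R' : Sylow f K, ∃ h ∈ H, h • R = R'
  uniq : ∀ a : A, a ≠ 0 → ∃! R : Sylow f K, a ∈ Fx A R
  ne : Nat.card (Sylow f K) ≠ 1
  comm : ∀ a ∈ H, ∀ b ∈ H, a * b = b * a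
  nontriv : ∃ a : A, a ≠ 0
  hfp : f ≠ p

theorem card_add_one (B : AddSubgroup A) :
    Nat.card {a : A // a ∈ B ∧ a ≠ 0} + 1 = Nat.card B := by
  have h1 := Set.ncard_sdiff_singleton_add_one (s := (B : Set A)) (a := 0) B.zero_mem
    (Set.toFinite _)
  have h2 : Nat.card {a : A // a ∈ B ∧ a ≠ 0} = ((B : Set A) \ {0}).ncard := by
    rw [← Nat.card_coe_set_eq]
    exact Nat.card_congr (Equiv.subtypeEquivRight (fun a => by simp))
  rw [h2, h1, ← Nat.card_coe_set_eq]
  rfl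

namespace FHyp

variable {H : Subgroup K} (h : FHyp p f K A H)
include h

theorem two_le : 2 ≤ Nat.card (Sylow f K) := by
  have h1 := h.ne
  have h2 : Nat.card (Sylow f K) ≠ 0 := Nat.card_pos.ne'
  omega

/-- **The count.** -/
theorem count (U : AddSubgroup A) (hU : ∀ g ∈ H, ∀ a ∈ U, g • a ∈ U) (R : Sylow f K) :
    Nat.card U + Nat.card (Sylow f K) =
      Nat.card (Sylow f K) * Nat.card (U ⊓ Fx A R : AddSubgroup A) + 1 := by
  classical
  letI := Fintype.ofFinite (Sylow f K)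
  have hfib : ∀ R' : Sylow f K,
      Nat.card {a : A // a ∈ (U ⊓ Fx A R' : AddSubgroup A) ∧ a ≠ 0} =
      Nat.card {a : A // a ∈ (U ⊓ Fx A R : AddSubgroup A) ∧ a ≠ 0} := by
    have hle : ∀ R1 R2 : Sylow f K,
        Nat.card {a : A // a ∈ (U ⊓ Fx A R1 : AddSubgroup A) ∧ a ≠ 0} ≤
        Nat.card {a : A // a ∈ (U ⊓ Fx A R2 : AddSubgroup A) ∧ a ≠ 0} := by
      intro R1 R2
      obtain ⟨g, hg, rfl⟩ := h.trans R1 R2
      refine Nat.card_le_card_of_injective (fun a => ⟨g • (a : A), ⟨hU g hg _ a.2.1.1,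
        smul_mem_Fx g a.2.1.2⟩, fun h0 => a.2.2 ((smul_eq_zero_iff_eq g).1 h0)⟩) ?_
      intro a b hab
      exact Subtype.ext (MulAction.injective g (congrArg Subtype.val hab))
    exact fun R' => le_antisymm (hle R' R) (hle R R')
  let S := {a : A // a ∈ U ∧ a ≠ 0}
  let φ : S → Sylow f K := fun a => (h.uniq a.1 a.2.2).choose
  have hφ : ∀ a : S, a.1 ∈ Fx A (φ a) := fun a => (h.uniq a.1 a.2.2).choose_spec.1
  have hφ' : ∀ (a : S) (R' : Sylow f K), a.1 ∈ Fx A R' → R' = φ a := fun a R' ha =>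
    (h.uniq a.1 a.2.2).choose_spec.2 R' ha
  have h1 : Nat.card S = ∑ R' : Sylow f K, Nat.card {a : S // φ a = R'} := by
    rw [← Nat.card_sigma]
    exact Nat.card_congr (Equiv.sigmaFiberEquiv φ).symm
  have h2 : ∀ R' : Sylow f K, Nat.card {a : S // φ a = R'} =
      Nat.card {a : A // a ∈ (U ⊓ Fx A R' : AddSubgroup A) ∧ a ≠ 0} := by
    intro R'
    refine Nat.card_congr
      { toFun := fun a => ⟨a.1.1, ⟨a.1.2.1, by
          have h6 := hφ a.1
          rwa [a.2] at h6⟩, a.1.2.2⟩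
        invFun := fun a => ⟨⟨a.1, a.2.1.1, a.2.2⟩, (hφ' _ _ a.2.1.2).symm⟩
        left_inv := fun a => rfl
        right_inv := fun a => rfl }
  rw [Finset.sum_congr rfl (fun R' _ => (h2 R').trans (hfib R')), Finset.sum_const,
    Finset.card_univ, smul_eq_mul, ← Nat.card_eq_fintype_card] at h1
  have h3 := card_add_one U
  have h4 := card_add_one (U ⊓ Fx A R : AddSubgroup A)
  have h5 : Nat.card S = Nat.card {a : A // a ∈ U ∧ a ≠ 0} := rfl
  rw [← h3, ← h4, ← h5, h1]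
  ring

theorem pow_card (B : AddSubgroup A) : ∃ t, Nat.card B = p ^ t := by
  obtain ⟨t, ht⟩ := h.card
  have h1 : Nat.card B ∣ p ^ t := ht ▸ AddSubgroup.card_addSubgroup_dvd_card B
  obtain ⟨s, -, hs⟩ := (Nat.dvd_prime_pow hp.out).1 h1
  exact ⟨s, hs⟩

/-- **Irreducibility.** -/
theorem irr (U : AddSubgroup A) (hU : ∀ g ∈ H, ∀ a ∈ U, g • a ∈ U) (hU0 : ∃ a ∈ U, a ≠ 0) :
    U = ⊤ := by
  obtain ⟨R⟩ : Nonempty (Sylow f K) := inferInstance
  have key : ∀ U : AddSubgroup A, (∀ g ∈ H, ∀ a ∈ U, g • a ∈ U) → (∃ a ∈ U, a ≠ 0) →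
      ∃ s t : ℕ, 0 < s ∧ Nat.card U = p ^ t ∧
        p ^ t + Nat.card (Sylow f K) = Nat.card (Sylow f K) * p ^ s + 1 := by
    intro U hU ⟨a, ha, ha0⟩
    obtain ⟨t, ht⟩ := h.pow_card U
    obtain ⟨s, hs⟩ := h.pow_card (U ⊓ Fx A R)
    have h1 := h.count U hU R
    rw [ht, hs] at h1
    refine ⟨s, t, ?_, ht, h1⟩
    rw [Nat.pos_iff_ne_zero]
    rintro rfl
    rw [pow_zero, mul_one] at h1
    have h2 : Nat.card U = 1 := by omega
    have h3 : U = ⊥ := AddSubgroup.card_eq_one.1 h2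
    rw [h3, AddSubgroup.mem_bot] at ha
    exact ha0 ha
  obtain ⟨s, t, hs, ht, h1⟩ := key U hU hU0
  obtain ⟨a, ha⟩ := h.nontriv
  obtain ⟨s', t', hs', ht', h1'⟩ := key ⊤ (fun _ _ _ _ => trivial) ⟨a, trivial, ha⟩
  have h2 : s = s' := by
    rcases lt_trichotomy s s' with h3 | h3 | h3
    · exact (num_aux hp.out h.two_le hs h1 h1' h3).elim
    · exact h3
    · exact (num_aux hp.out h.two_le hs' h1' h1 h3).elim
  subst h2
  have h3 : Nat.card U = Nat.card (⊤ : AddSubgroup A) := by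
    rw [ht, ht']
    omega
  rw [AddSubgroup.card_top] at h3
  exact AddSubgroup.eq_top_of_card_eq U h3

/-- the generators -/
def gen (K : Type u) [Group K] (A : Type v) [AddCommGroup A] [DistribMulAction K A] (g : K) :
    AddMonoid.End A × AddMonoid.End A :=
  (DistribMulAction.toAddMonoidEnd K A g, DistribMulAction.toAddMonoidEnd K A g⁻¹)

/-- the ring -/
def E (A : Type v) [AddCommGroup A] [DistribMulAction K A] (H : Subgroup K) :
    Subring (AddMonoid.End A × AddMonoid.End A) :=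
  Subring.closure (Set.range fun g : H => gen K A (g : K))

omit h [Finite K] [Finite A] in
theorem gen_mem {g : K} (hg : g ∈ H) : gen K A g ∈ E A H :=
  Subring.subset_closure ⟨⟨g, hg⟩, rfl⟩

omit h [Finite K] [Finite A] in
theorem gen_mul (g k : K) (hc : g * k = k * g) : gen K A g * gen K A k = gen K A (g * k) := by
  unfold gen
  rw [Prod.mk_mul_mk, ← map_mul, ← map_mul, ← mul_inv_rev, hc]

theorem E_comm {c d : AddMonoid.End A × AddMonoid.End A} (hc : c ∈ E A H) (hd : d ∈ E A H) :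
    c * d = d * c := by
  have h1 : ∀ x ∈ Set.range (fun g : H => gen K A (g : K)),
      ∀ y ∈ Set.range (fun g : H => gen K A (g : K)), x * y = y * x := by
    rintro _ ⟨x, rfl⟩ _ ⟨y, rfl⟩
    have e := h.comm x x.2 y y.2
    dsimp only
    rw [gen_mul _ _ e, gen_mul _ _ e.symm, e]
  have h2 := (Subring.isMulCommutative_closure h1).is_comm.comm ⟨c, hc⟩ ⟨d, hd⟩
  exact congrArg Subtype.val h2

omit h [Finite K] [Finite A] in
theorem swap_mem {d : AddMonoid.End A × AddMonoid.End A} (hd : d ∈ E A H) : d.swap ∈ E A H := by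
  refine Subring.closure_induction (p := fun d _ => d.swap ∈ E A H) ?_ ?_ ?_ ?_ ?_ ?_ hd
  · rintro _ ⟨g, rfl⟩
    have : (gen K A (g : K)).swap = gen K A (g : K)⁻¹ := by
      unfold gen
      rw [Prod.swap_prod_mk, inv_inv]
    dsimp only
    rw [this]
    exact gen_mem (inv_mem g.2)
  · exact (E A H).zero_mem
  · exact (E A H).one_mem
  · intro x y _ _ hx hy
    exact ((E A H).add_mem hx hy :)
  · intro x _ hx
    exact (E A H).neg_mem hx
  · intro x y _ _ hx hy
    exact (E A H).mul_mem hx hy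

/-- conjugation -/
def cj (r : K) (d : AddMonoid.End A × AddMonoid.End A) : AddMonoid.End A × AddMonoid.End A :=
  (DistribMulAction.toAddMonoidEnd K A r * d.1 * DistribMulAction.toAddMonoidEnd K A r⁻¹,
   DistribMulAction.toAddMonoidEnd K A r * d.2 * DistribMulAction.toAddMonoidEnd K A r⁻¹)

omit h [Finite K] [Finite A] in
theorem cj_add (r : K) (c d : AddMonoid.End A × AddMonoid.End A) :
    cj r (c + d) = cj r c + cj r d := by
  have key : ∀ x y : AddMonoid.End A,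
      DistribMulAction.toAddMonoidEnd K A r * (x + y) * DistribMulAction.toAddMonoidEnd K A r⁻¹ =
      DistribMulAction.toAddMonoidEnd K A r * x * DistribMulAction.toAddMonoidEnd K A r⁻¹ +
      DistribMulAction.toAddMonoidEnd K A r * y * DistribMulAction.toAddMonoidEnd K A r⁻¹ := by
    intro x y
    rw [mul_add, add_mul]
  exact Prod.ext (key _ _) (key _ _)

omit h [Finite K] [Finite A] in
theorem cj_neg (r : K) (d : AddMonoid.End A × AddMonoid.End A) : cj r (-d) = - cj r d := by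
  have key : ∀ x : AddMonoid.End A,
      DistribMulAction.toAddMonoidEnd K A r * (-x) * DistribMulAction.toAddMonoidEnd K A r⁻¹ =
      -(DistribMulAction.toAddMonoidEnd K A r * x * DistribMulAction.toAddMonoidEnd K A r⁻¹) := by
    intro x
    rw [mul_neg, neg_mul]
  exact Prod.ext (key _) (key _)

omit h [Finite K] [Finite A] in
theorem cj_mul (r : K) (c d : AddMonoid.End A × AddMonoid.End A) :
    cj r (c * d) = cj r c * cj r d := by
  have e : DistribMulAction.toAddMonoidEnd K A r⁻¹ * DistribMulAction.toAddMonoidEnd K A r = 1 := by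
    rw [← map_mul, inv_mul_cancel, map_one]
  have key : ∀ x y : AddMonoid.End A,
      DistribMulAction.toAddMonoidEnd K A r * (x * y) * DistribMulAction.toAddMonoidEnd K A r⁻¹ =
      DistribMulAction.toAddMonoidEnd K A r * x * DistribMulAction.toAddMonoidEnd K A r⁻¹ *
      (DistribMulAction.toAddMonoidEnd K A r * y * DistribMulAction.toAddMonoidEnd K A r⁻¹) := by
    intro x y
    simp only [mul_assoc]
    rw [← mul_assoc (DistribMulAction.toAddMonoidEnd K A r⁻¹)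
      (DistribMulAction.toAddMonoidEnd K A r), e, one_mul]
  unfold cj
  rw [Prod.mk_mul_mk]
  exact Prod.ext (key _ _) (key _ _)

omit h [Finite K] [Finite A] in
theorem cj_one (r : K) : cj r (1 : AddMonoid.End A × AddMonoid.End A) = 1 := by
  have e : DistribMulAction.toAddMonoidEnd K A r * 1 * DistribMulAction.toAddMonoidEnd K A r⁻¹
      = 1 := by
    rw [mul_one, ← map_mul, mul_inv_cancel, map_one]
  exact Prod.ext e e

omit h [Finite K] [Finite A] in
theorem cj_swap (r : K) (d : AddMonoid.End A × AddMonoid.End A) : cj r d.swap = (cj r d).swap := rfl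

omit h [Finite K] [Finite A] in
theorem cj_mem [hH : H.Normal] (r : K) {d : AddMonoid.End A × AddMonoid.End A} (hd : d ∈ E A H) :
    cj r d ∈ E A H := by
  refine Subring.closure_induction (p := fun d _ => cj r d ∈ E A H) ?_ ?_ ?_ ?_ ?_ ?_ hd
  · rintro _ ⟨g, rfl⟩
    have : cj r (gen K A (g : K)) = gen K A (r * (g : K) * r⁻¹) := by
      unfold cj gen
      dsimp only
      rw [← map_mul, ← map_mul, ← map_mul, ← map_mul]
      have e : (r * (g : K) * r⁻¹)⁻¹ = r * (g : K)⁻¹ * r⁻¹ := by group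
      rw [e]
    dsimp only
    rw [this]
    exact gen_mem (hH.conj_mem _ g.2 r)
  · have key : DistribMulAction.toAddMonoidEnd K A r * 0 *
        DistribMulAction.toAddMonoidEnd K A r⁻¹ = 0 := by rw [mul_zero, zero_mul]
    have : cj r (0 : AddMonoid.End A × AddMonoid.End A) = 0 := Prod.ext key key
    rw [this]
    exact (E A H).zero_mem
  · rw [cj_one]
    exact (E A H).one_mem
  · intro x y _ _ hx hy
    rw [cj_add]
    exact (E A H).add_mem hx hy
  · intro x _ hx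
    rw [cj_neg]
    exact (E A H).neg_mem hx
  · intro x y _ _ hx hy
    rw [cj_mul]
    exact (E A H).mul_mem hx hy

/-- elements of `E` act injectively -/
theorem eq_zero_of_apply (hsym : ∀ d ∈ E A H, d.1 = 0 → d.2 = 0)
    {d : AddMonoid.End A × AddMonoid.End A} (hd : d ∈ E A H) {a : A} (ha : a ≠ 0)
    (hda : d.1 a = 0) : d = 0 := by
  have h1 : AddMonoidHom.ker (d.1 : A →+ A) = ⊤ := by
    apply h.irr
    · intro g hg b hb
      have h2 := congrArg Prod.fst (h.E_comm hd (gen_mem (A := A) hg))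
      have h3 := DFunLike.congr_fun h2 b
      have h4 : d.1 (g • b) = g • d.1 b := h3
      have h5 : d.1 b = 0 := hb
      show d.1 (g • b) = 0
      rw [h4, h5, smul_zero]
    · exact ⟨a, hda, ha⟩
  have h2 : d.1 = 0 := by
    apply AddMonoidHom.ext
    intro b
    have : b ∈ AddMonoidHom.ker (d.1 : A →+ A) := by rw [h1]; trivial
    exact this
  exact Prod.ext h2 (hsym d hd h2)

theorem eq_zero_of_mul (hsym : ∀ d ∈ E A H, d.1 = 0 → d.2 = 0)
    {c d : AddMonoid.End A × AddMonoid.End A} (hc : c ∈ E A H) (hd : d ∈ E A H)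
    (hcd : c * d = 0) : c = 0 ∨ d = 0 := by
  by_cases hd0 : d = 0
  · exact Or.inr hd0
  · left
    obtain ⟨a, ha⟩ := h.nontriv
    refine h.eq_zero_of_apply hsym hc (a := d.1 a) ?_ ?_
    · intro h1
      exact hd0 (h.eq_zero_of_apply hsym hd ha h1)
    · exact DFunLike.congr_fun (congrArg Prod.fst hcd) a

/-- the orbit of a nonzero element -/
theorem exists_apply {a₀ : A} (ha₀ : a₀ ≠ 0) (a : A) : ∃ d ∈ E A H, d.1 a₀ = a := by
  let U : AddSubgroup A :=
    { carrier := {b | ∃ d ∈ E A H, d.1 a₀ = b}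
      zero_mem' := ⟨0, (E A H).zero_mem, rfl⟩
      add_mem' := by
        rintro _ _ ⟨c, hc, rfl⟩ ⟨d, hd, rfl⟩
        exact ⟨c + d, (E A H).add_mem hc hd, rfl⟩
      neg_mem' := by
        rintro _ ⟨c, hc, rfl⟩
        exact ⟨-c, (E A H).neg_mem hc, rfl⟩ }
  have h1 : U = ⊤ := by
    apply h.irr
    · rintro g hg _ ⟨c, hc, rfl⟩
      exact ⟨gen K A g * c, (E A H).mul_mem (gen_mem hg) hc, rfl⟩
    · exact ⟨a₀, ⟨1, (E A H).one_mem, rfl⟩, ha₀⟩
  have h2 : a ∈ U := by rw [h1]; trivial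
  exact h2

/-- **The final contradiction.** -/
theorem final [hH : H.Normal] (hsym : ∀ d ∈ E A H, d.1 = 0 → d.2 = 0) : False := by
  classical
  obtain ⟨a₀, ha₀⟩ := h.nontriv
  obtain ⟨R, hR, -⟩ := h.uniq a₀ ha₀
  -- evaluation at `a₀` is injective
  have hinj : ∀ {c d : AddMonoid.End A × AddMonoid.End A}, c ∈ E A H → d ∈ E A H →
      c.1 a₀ = d.1 a₀ → c = d := by
    intro c d hc hd hcd
    have h1 : c - d = 0 := by
      refine h.eq_zero_of_apply hsym ((E A H).sub_mem hc hd) ha₀ ?_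
      show c.1 a₀ - d.1 a₀ = 0
      rw [hcd, sub_self]
    exact sub_eq_zero.1 h1
  -- the fixed subring
  let E₀ : Set (AddMonoid.End A × AddMonoid.End A) :=
    {d | d ∈ E A H ∧ ∀ r ∈ (R : Subgroup K), cj r d = d}
  have hE₀ : ∀ {d : AddMonoid.End A × AddMonoid.End A}, d ∈ E A H → d.1 a₀ ∈ Fx A R → d ∈ E₀ := by
    intro d hd hda
    refine ⟨hd, fun r hr => hinj (cj_mem r hd) hd ?_⟩
    show r • d.1 (r⁻¹ • a₀) = d.1 a₀
    rw [hR r⁻¹ (inv_mem hr), hda r hr]
  have hE₀' : ∀ {d : AddMonoid.End A × AddMonoid.End A}, d ∈ E₀ → d.1 a₀ ∈ Fx A R := by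
    intro d hd r hr
    have h1 := DFunLike.congr_fun (congrArg Prod.fst (hd.2 r hr)) a₀
    have h2 : r • d.1 (r⁻¹ • a₀) = d.1 a₀ := h1
    rwa [hR r⁻¹ (inv_mem hr)] at h2
  have hadd : ∀ {c d : AddMonoid.End A × AddMonoid.End A}, c ∈ E₀ → d ∈ E₀ → c + d ∈ E₀ := by
    intro c d hc hd
    exact ⟨(E A H).add_mem hc.1 hd.1, fun r hr => by rw [cj_add, hc.2 r hr, hd.2 r hr]⟩
  have hneg : ∀ {c : AddMonoid.End A × AddMonoid.End A}, c ∈ E₀ → -c ∈ E₀ := by
    intro c hc
    exact ⟨(E A H).neg_mem hc.1, fun r hr => by rw [cj_neg, hc.2 r hr]⟩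
  have hmul : ∀ {c d : AddMonoid.End A × AddMonoid.End A}, c ∈ E₀ → d ∈ E₀ → c * d ∈ E₀ := by
    intro c d hc hd
    exact ⟨(E A H).mul_mem hc.1 hd.1, fun r hr => by rw [cj_mul, hc.2 r hr, hd.2 r hr]⟩
  have hone : (1 : AddMonoid.End A × AddMonoid.End A) ∈ E₀ :=
    ⟨(E A H).one_mem, fun r _ => cj_one r⟩
  have hswap : ∀ {c : AddMonoid.End A × AddMonoid.End A}, c ∈ E₀ → c.swap ∈ E₀ := by
    intro c hc
    exact ⟨swap_mem hc.1, fun r hr => by rw [cj_swap, hc.2 r hr]⟩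
  have swap_mul : ∀ c d : AddMonoid.End A × AddMonoid.End A,
      (c * d).swap = c.swap * d.swap := fun c d => rfl
  have swap_add : ∀ c d : AddMonoid.End A × AddMonoid.End A,
      (c + d).swap = c.swap + d.swap := fun c d => rfl
  -- the norm
  have hnorm : ∀ {d : AddMonoid.End A × AddMonoid.End A}, d ∈ E A H → d * d.swap ∈ E₀ := by
    intro d hd
    by_cases hd0 : d = 0
    · rw [hd0, zero_mul]
      have := hadd hone (hneg hone)
      rwa [add_neg_cancel] at this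
    have h1 : d.1 a₀ ≠ 0 := fun h1 => hd0 (h.eq_zero_of_apply hsym hd ha₀ h1)
    obtain ⟨R', hR', -⟩ := h.uniq _ h1
    obtain ⟨g, hg, hgR⟩ := h.trans R' R
    have h2 : g • d.1 a₀ ∈ Fx A R := hgR ▸ smul_mem_Fx g hR'
    have h3 : gen K A g * d ∈ E₀ := hE₀ ((E A H).mul_mem (gen_mem hg) hd) h2
    have h4 := hmul h3 (hswap h3)
    have h5 : gen K A g * d * (gen K A g * d).swap = d * d.swap := by
      have e1 : (gen K A g).swap = gen K A g⁻¹ := by
        unfold gen
        rw [Prod.swap_prod_mk, inv_inv]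
      have e2 : gen K A g * gen K A g⁻¹ = 1 := by
        rw [gen_mul _ _ (by rw [mul_inv_cancel, inv_mul_cancel]), mul_inv_cancel]
        unfold gen
        rw [inv_one, map_one]
        rfl
      rw [swap_mul, e1]
      calc gen K A g * d * (gen K A g⁻¹ * d.swap)
          = gen K A g * (d * gen K A g⁻¹) * d.swap := by simp only [mul_assoc]
        _ = gen K A g * (gen K A g⁻¹ * d) * d.swap := by
            rw [h.E_comm hd (gen_mem (inv_mem hg))]
        _ = (gen K A g * gen K A g⁻¹) * (d * d.swap) := by simp only [mul_assoc]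
        _ = d * d.swap := by rw [e2, one_mul]
    rwa [h5] at h4
  -- the trace
  have htr : ∀ {d : AddMonoid.End A × AddMonoid.End A}, d ∈ E A H → d + d.swap ∈ E₀ := by
    intro d hd
    have h1 := hnorm ((E A H).add_mem (E A H).one_mem hd)
    have h2 := hadd (hadd h1 (hneg (hnorm hd))) (hneg hone)
    have h3 : (1 + d) * (1 + d).swap + -(d * d.swap) + -1 = d + d.swap := by
      have e1 : (1 + d).swap = 1 + d.swap := rfl
      rw [e1]
      simp only [mul_add, add_mul, one_mul, mul_one]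
      abel
    rwa [h3] at h2
  -- symmetric elements
  have hsymm : ∀ {s : AddMonoid.End A × AddMonoid.End A}, s ∈ E A H → s.swap = s → s ∈ E₀ := by
    intro s hs hss
    refine ⟨hs, fun r hr => ?_⟩
    have h1 := (hnorm hs).2 r hr
    have h2 := (htr hs).2 r hr
    rw [hss] at h1 h2
    rw [cj_mul] at h1
    rw [cj_add] at h2
    set s' := cj r s with hs'
    have hs'E : s' ∈ E A H := cj_mem r hs
    have h3 : (s' - s) * (s' + s) = 0 := by
      have e := h.E_comm hs'E hs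
      simp only [sub_mul, mul_add]
      rw [h1, e]
      abel
    rcases h.eq_zero_of_mul hsym ((E A H).sub_mem hs'E hs) ((E A H).add_mem hs'E hs) h3 with h4 | h4
    · exact sub_eq_zero.1 h4
    · have h5 : s' = -s := eq_neg_of_add_eq_zero_left h4
      have h6 : (s + s) * (1 + 1) = 0 := by
        have h7 : s + s + (s + s) = 0 := by
          have e : s + s = -s + -s := by rw [← h2, h5]
          nth_rewrite 2 [e]
          abel
        rw [mul_add, mul_one]
        exact h7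
      have h7 : s + s = 0 := by
        rcases h.eq_zero_of_mul hsym ((E A H).add_mem hs hs)
          ((E A H).add_mem (E A H).one_mem (E A H).one_mem) h6 with h8 | h8
        · exact h8
        · have h9 : s * (1 + 1) = 0 := by rw [h8, mul_zero]
          rwa [mul_add, mul_one] at h9
      rw [h5]
      exact (eq_neg_of_add_eq_zero_left h7).symm
  -- counting
  obtain ⟨t, ht⟩ := h.card
  obtain ⟨s, hs⟩ := h.pow_card (Fx A R)
  have hcount := h.count ⊤ (fun _ _ _ _ => trivial) R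
  rw [top_inf_eq, AddSubgroup.card_top, ht, hs] at hcount
  have hs0 : 0 < s := by
    rw [Nat.pos_iff_ne_zero]
    rintro rfl
    rw [pow_zero] at hs
    have h1 : Fx A R = ⊥ := AddSubgroup.card_eq_one.1 hs
    rw [h1, AddSubgroup.mem_bot] at hR
    exact ha₀ hR
  by_cases hall : ∀ d ∈ E A H, d.swap = d
  · have h1 : Fx A R = ⊤ := by
      rw [eq_top_iff]
      intro a _
      obtain ⟨d, hd, rfl⟩ := h.exists_apply ha₀ a
      exact hE₀' (hsymm hd (hall d hd))
    rw [h1, AddSubgroup.card_top, ht] at hs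
    rw [hs] at hcount
    have h2 := h.two_le
    have h3 : 2 ≤ p ^ s := le_trans hp.out.two_le (Nat.le_self_pow hs0.ne' p)
    nlinarith only [hcount, h2, h3]
  push Not at hall
  obtain ⟨z, hz, hzs⟩ := hall
  have hδ : z - z.swap ∈ E A H := (E A H).sub_mem hz (swap_mem hz)
  have hδ0 : z - z.swap ≠ 0 := fun h1 => hzs (sub_eq_zero.1 h1).symm
  have hdiv : ∀ {e : AddMonoid.End A × AddMonoid.End A}, e ∈ E A H →
      ∃ β ∈ E A H, (z - z.swap) * β = e := by
    intro e he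
    have h1 : Function.Injective (z - z.swap).1 := by
      rw [injective_iff_map_eq_zero]
      intro a ha
      by_contra ha0
      exact hδ0 (h.eq_zero_of_apply hsym hδ ha0 ha)
    obtain ⟨a, ha⟩ := (Finite.injective_iff_surjective.1 h1) (e.1 a₀)
    obtain ⟨β, hβ, hβa⟩ := h.exists_apply ha₀ a
    refine ⟨β, hβ, hinj ((E A H).mul_mem hδ hβ) he ?_⟩
    show (z - z.swap).1 (β.1 a₀) = e.1 a₀
    rw [hβa, ha]
  have hdec : ∀ {d : AddMonoid.End A × AddMonoid.End A}, d ∈ E A H →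
      ∃ α ∈ E₀, ∃ β ∈ E₀, d = α + z * β := by
    intro d hd
    obtain ⟨β, hβ, hβd⟩ := hdiv ((E A H).sub_mem hd (swap_mem hd))
    have h1 : β.swap = β := by
      have h2 : (z - z.swap) * (β - β.swap) = 0 := by
        have h3 : (z.swap - z) * β.swap = d.swap - d := congrArg Prod.swap hβd
        rw [mul_sub, hβd]
        have h4 : (z - z.swap) * β.swap = d - d.swap := by
          have h5 : (z - z.swap) * β.swap = -((z.swap - z) * β.swap) := by
            rw [← neg_mul, neg_sub]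
          rw [h5, h3, neg_sub]
        rw [h4, sub_self]
      rcases h.eq_zero_of_mul hsym hδ ((E A H).sub_mem hβ (swap_mem hβ)) h2 with h3 | h3
      · exact (hδ0 h3).elim
      · exact (sub_eq_zero.1 h3).symm
    refine ⟨d - z * β, hsymm ((E A H).sub_mem hd ((E A H).mul_mem hz hβ)) ?_, β,
      hsymm hβ h1, by abel⟩
    have h2 : (d - z * β).swap = d.swap - z.swap * β.swap := rfl
    rw [h2, h1]
    have h3 : z * β - z.swap * β = d - d.swap := by rw [← sub_mul, hβd]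
    have h4 : d.swap - z.swap * β = d - z * β - ((d - d.swap) - (z * β - z.swap * β)) := by abel
    rw [h4, h3, sub_self, sub_zero]
  have hle : Nat.card A ≤ Nat.card (Fx A R) * Nat.card (Fx A R) := by
    rw [← Nat.card_prod]
    refine Nat.card_le_card_of_surjective
      (fun x : Fx A R × Fx A R => (x.1 : A) + z.1 (x.2 : A)) ?_
    intro a
    obtain ⟨d, hd, rfl⟩ := h.exists_apply ha₀ a
    obtain ⟨α, hα, β, hβ, rfl⟩ := hdec hd
    exact ⟨(⟨_, hE₀' hα⟩, ⟨_, hE₀' hβ⟩), rfl⟩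
  rw [ht, hs] at hle
  have hn := num_two hp.out h.two_le hs0 hcount hle
  have hmod : Nat.card (Sylow f K) ≡ 1 [MOD f] := card_sylow_modEq_one f K
  rw [hn] at hmod
  have h1 : f ∣ p ^ s := by
    have h2 := (Nat.modEq_iff_dvd' (by omega)).1 hmod.symm
    rwa [Nat.add_sub_cancel] at h2
  exact h.hfp ((Nat.prime_dvd_prime_iff_eq hf.out hp.out).1 (hf.out.dvd_of_dvd_pow h1))

end FHyp

end Cfsg.Agent.H673.Fin
end

-- part: H673/FinB
section
/-!
# The finite ring lemma for a group acting on an abelian group with a pairing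
-/

set_option autoImplicit false
set_option linter.unusedSectionVars false
set_option linter.style.haveILetI false

namespace Cfsg.Agent.H673.Fin

open MulAction Cfsg.Agent.H673.Orb

universe u v w z

variable {K : Type u} [Group K] [Finite K] {V : Type v} [CommGroup V]
  [MulDistribMulAction K V]
variable {p f : ℕ} [hp : Fact p.Prime] [hf : Fact f.Prime]

/-- the kernel of the norm -/
noncomputable def Yk (V : Type v) [CommGroup V] [MulDistribMulAction K V] (H₁ : Subgroup K) :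
    Subgroup V := (nm (V := V) H₁).ker

theorem mem_Yk {H₁ : Subgroup K} {v : V} : v ∈ Yk V H₁ ↔ nm H₁ v = 1 := MonoidHom.mem_ker

theorem smul_mem_Yk {H₁ : Subgroup K} [hH₁ : H₁.Normal] (k : K) {v : V} (hv : v ∈ Yk V H₁) :
    k • v ∈ Yk V H₁ := by
  rw [mem_Yk] at hv ⊢
  rw [nm_conj H₁ (fun y hy => hH₁.conj_mem y hy k), hv, smul_one]

/-- the action on the kernel of the norm, written additively -/
@[reducible] noncomputable def actY (V : Type v) [CommGroup V] [MulDistribMulAction K V]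
    (H₁ : Subgroup K) [hH₁ : H₁.Normal] : DistribMulAction K (Additive (Yk V H₁)) where
  smul k a := Additive.ofMul ⟨k • ((Additive.toMul a : Yk V H₁) : V),
    smul_mem_Yk k (Additive.toMul a).2⟩
  one_smul a := by
    apply Additive.toMul.injective
    apply Subtype.ext
    exact one_smul K _
  mul_smul k l a := by
    apply Additive.toMul.injective
    apply Subtype.ext
    exact mul_smul k l _
  smul_zero k := by
    apply Additive.toMul.injective
    apply Subtype.ext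
    exact smul_one k
  smul_add k a b := by
    apply Additive.toMul.injective
    apply Subtype.ext
    exact smul_mul' k _ _

/-- The situation. -/
structure YHyp (p f : ℕ) (K : Type u) [Group K] [Finite K] (V : Type v) [CommGroup V]
    [MulDistribMulAction K V] (H H₁ : Subgroup K) : Prop where
  hV : PV p V
  trans : ∀ R R' : Sylow f K, ∃ h ∈ H, h • R = R'
  uniq : ∀ v : V, (∃ h ∈ H₁, h • v ≠ v) → ∃! R : Sylow f K, ∀ y ∈ (R : Subgroup K), y • v = v
  ne : Nat.card (Sylow f K) ≠ 1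
  comm : ∀ a ∈ H, ∀ b ∈ H, a * b = b * a
  le : H₁ ≤ H
  cop : ¬ p ∣ Nat.card H₁
  nontriv : ∃ h ∈ H₁, ∃ v : V, h • v ≠ v
  hfp : f ≠ p

namespace YHyp

variable [Finite V] {H H₁ : Subgroup K} [hH : H.Normal] [hH₁ : H₁.Normal]
  (h : YHyp p f K V H H₁)
include h

attribute [local instance] actY

theorem eq_one {v : V} (hv : v ∈ Yk V H₁) (hfix : ∀ g ∈ H₁, g • v = v) : v = 1 := by
  rw [mem_Yk, nm_of_fixed H₁ hfix] at hv
  exact h.hV.eq_one h.cop hv

theorem fhyp : FHyp p f K (Additive (Yk V H₁)) H where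
  card := by
    have h1 : IsPGroup p (Yk V H₁) := h.hV.isPGroup_subgroup _
    obtain ⟨t, ht⟩ := IsPGroup.iff_card.1 h1
    exact ⟨t, ht⟩
  trans := h.trans
  uniq := by
    intro a ha
    have h1 : ∃ g ∈ H₁, g • ((Additive.toMul a : Yk V H₁) : V) ≠ (Additive.toMul a : Yk V H₁) := by
      by_contra hcon
      push Not at hcon
      apply ha
      apply Additive.toMul.injective
      exact Subtype.ext (h.eq_one (Additive.toMul a).2 hcon)
    obtain ⟨R, hR, hR'⟩ := h.uniq _ h1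
    refine ⟨R, ?_, ?_⟩
    · intro y hy
      apply Additive.toMul.injective
      exact Subtype.ext (hR y hy)
    · intro R' h2
      apply hR'
      intro y hy
      exact congrArg (fun a : Additive (Yk V H₁) => ((Additive.toMul a : Yk V H₁) : V)) (h2 y hy)
  ne := h.ne
  comm := h.comm
  nontriv := by
    obtain ⟨l, hl1, hl⟩ := exists_nm_ne (G := K) (V := V) (F := H₁) h.nontriv
    refine ⟨Additive.ofMul ⟨l, mem_Yk.2 hl⟩, fun h1 => hl1 ?_⟩
    exact congrArg (fun a : Additive (Yk V H₁) => ((Additive.toMul a : Yk V H₁) : V)) h1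
  hfp := h.hfp

variable {M : Type w} [Group M] [MulDistribMulAction K M] {T : Type z} [CommGroup T]

/-- the commutator of `M` and `H₁` -/
def M1 (M : Type w) [Group M] [MulDistribMulAction K M] (H₁ : Subgroup K) : Subgroup M :=
  Subgroup.closure {x | ∃ g ∈ H₁, ∃ m : M, x = (g • m) * m⁻¹}

omit h in
theorem smul_mem_M1 (k : K) {m : M} (hm : m ∈ M1 M H₁) : k • m ∈ M1 M H₁ := by
  refine Subgroup.closure_induction (p := fun m _ => k • m ∈ M1 M H₁) ?_ ?_ ?_ ?_ hm
  · rintro _ ⟨g, hg, m, rfl⟩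
    apply Subgroup.subset_closure
    refine ⟨k * g * k⁻¹, hH₁.conj_mem g hg k, k • m, ?_⟩
    rw [smul_mul', smul_inv', ← mul_smul, ← mul_smul, inv_mul_cancel_right]
  · rw [smul_one]
    exact (M1 M H₁).one_mem
  · intro x y _ _ hx hy
    rw [smul_mul']
    exact (M1 M H₁).mul_mem hx hy
  · intro x _ hx
    rw [smul_inv']
    exact (M1 M H₁).inv_mem hx

/-- **The contradiction.** -/
theorem false_of_pairing (ev : V → M → T)
    (ev_mul_left : ∀ v w m, ev (v * w) m = ev v m * ev w m)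
    (ev_mul_right : ∀ v m m', ev v (m * m') = ev v m * ev v m')
    (ev_smul : ∀ (k : K) v m, ev (k • v) m = ev v (k⁻¹ • m))
    (Φ : M →* V) (hΦ : ∀ g ∈ H, ∀ m, Φ (g • m) = g • Φ m)
    (hΦ0 : ∀ m, (∀ v, ev v m = 1) → Φ m = 1) (hΦ1 : ∃ m ∈ M1 M H₁, Φ m ≠ 1) : False := by
  have F := h.fhyp
  have ev_one_left : ∀ m, ev 1 m = 1 := by
    intro m
    have h1 := ev_mul_left 1 1 m
    rw [mul_one] at h1
    exact mul_eq_left.1 h1.symm
  have ev_one_right : ∀ v, ev v 1 = 1 := by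
    intro v
    have h1 := ev_mul_right v 1 1
    rw [mul_one] at h1
    exact mul_eq_left.1 h1.symm
  have ev_inv_left : ∀ v m, ev v⁻¹ m = (ev v m)⁻¹ := by
    intro v m
    have h1 := ev_mul_left v⁻¹ v m
    rw [inv_mul_cancel, ev_one_left] at h1
    exact eq_inv_of_mul_eq_one_left h1.symm
  have ev_inv_right : ∀ v m, ev v m⁻¹ = (ev v m)⁻¹ := by
    intro v m
    have h1 := ev_mul_right v m⁻¹ m
    rw [inv_mul_cancel, ev_one_right] at h1
    exact eq_inv_of_mul_eq_one_left h1.symm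
  have ev_pow : ∀ v m (j : ℕ), ev (v ^ j) m = ev v m ^ j := by
    intro v m j
    induction j with
    | zero => rw [pow_zero, pow_zero, ev_one_left]
    | succ j ih => rw [pow_succ, ev_mul_left, ih, pow_succ]
  -- `Φ` maps `M₁` into `Y`
  have hΦY : ∀ {m : M}, m ∈ M1 M H₁ → Φ m ∈ Yk V H₁ := by
    intro m hm
    refine Subgroup.closure_induction (p := fun m _ => Φ m ∈ Yk V H₁) ?_ ?_ ?_ ?_ hm
    · rintro _ ⟨g, hg, m, rfl⟩
      rw [mem_Yk, map_mul, hΦ g (h.le hg), map_inv, map_mul, map_inv, nm_smul H₁ hg, mul_inv_cancel]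
    · rw [map_one]; exact (Yk V H₁).one_mem
    · intro x y _ _ hx hy
      rw [map_mul]; exact (Yk V H₁).mul_mem hx hy
    · intro x _ hx
      rw [map_inv]; exact (Yk V H₁).inv_mem hx
  -- fixed characters are trivial on `M₁`
  have hfixM : ∀ v : V, (∀ g ∈ H₁, g • v = v) → ∀ m ∈ M1 M H₁, ev v m = 1 := by
    intro v hv m hm
    refine Subgroup.closure_induction (p := fun m _ => ev v m = 1) ?_ ?_ ?_ ?_ hm
    · rintro _ ⟨g, hg, m, rfl⟩
      have h1 := ev_smul g⁻¹ v m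
      rw [hv g⁻¹ (inv_mem hg), inv_inv] at h1
      rw [ev_mul_right, ev_inv_right, ← h1, mul_inv_cancel]
    · exact ev_one_right v
    · intro x y _ _ hx hy
      rw [ev_mul_right, hx, hy, mul_one]
    · intro x _ hx
      rw [ev_inv_right, hx, inv_one]
  have hM1V : ∀ m ∈ M1 M H₁, (∀ y ∈ Yk V H₁, ev y m = 1) → ∀ v, ev v m = 1 := by
    intro m hm hy v
    have h1 : v ^ Nat.card H₁ * (nm H₁ v)⁻¹ ∈ Yk V H₁ := by
      rw [mem_Yk, map_mul, map_inv, map_pow, nm_of_fixed H₁ (v := nm H₁ v)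
        (fun g hg => smul_nm H₁ hg v), mul_inv_cancel]
    have h2 := hy _ h1
    rw [ev_mul_left, ev_inv_left, hfixM (nm H₁ v) (fun g hg => smul_nm H₁ hg v) m hm, inv_one,
      mul_one, ev_pow] at h2
    obtain ⟨k, hk⟩ := h.hV
    have h3 : ev v m ^ p ^ k = 1 := by rw [← ev_pow, hk, ev_one_left]
    have h4 := pow_gcd_eq_one.2 ⟨h2, h3⟩
    have h5 : Nat.Coprime (Nat.card H₁) (p ^ k) :=
      Nat.Coprime.pow_right _ ((Nat.Prime.coprime_iff_not_dvd hp.out).2 h.cop).symm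
    rwa [Nat.Coprime.gcd_eq_one h5, pow_one] at h4
  -- surjectivity
  have hsurj : ∀ a : Additive (Yk V H₁), ∃ m, ∃ hm : m ∈ M1 M H₁,
      Additive.ofMul (⟨Φ m, hΦY hm⟩ : Yk V H₁) = a := by
    let U : AddSubgroup (Additive (Yk V H₁)) :=
      { carrier := {a | ∃ m, ∃ hm : m ∈ M1 M H₁, Additive.ofMul (⟨Φ m, hΦY hm⟩ : Yk V H₁) = a}
        zero_mem' := ⟨1, (M1 M H₁).one_mem, by
          apply Additive.toMul.injective
          exact Subtype.ext (map_one Φ)⟩
        add_mem' := by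
          rintro _ _ ⟨m, hm, rfl⟩ ⟨m', hm', rfl⟩
          refine ⟨m * m', (M1 M H₁).mul_mem hm hm', ?_⟩
          apply Additive.toMul.injective
          exact Subtype.ext (map_mul Φ m m')
        neg_mem' := by
          rintro _ ⟨m, hm, rfl⟩
          refine ⟨m⁻¹, (M1 M H₁).inv_mem hm, ?_⟩
          apply Additive.toMul.injective
          exact Subtype.ext (map_inv Φ m) }
    have hU : U = ⊤ := by
      apply F.irr
      · rintro g hg _ ⟨m, hm, rfl⟩
        refine ⟨g • m, smul_mem_M1 g hm, ?_⟩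
        apply Additive.toMul.injective
        exact Subtype.ext (hΦ g hg m)
      · obtain ⟨m, hm, hm1⟩ := hΦ1
        refine ⟨_, ⟨m, hm, rfl⟩, fun h1 => hm1 ?_⟩
        exact congrArg (fun a : Additive (Yk V H₁) => ((Additive.toMul a : Yk V H₁) : V)) h1
    intro a
    have : a ∈ U := by rw [hU]; trivial
    exact this
  -- the transposed maps
  have key : ∀ d ∈ FHyp.E (Additive (Yk V H₁)) H, ∃ s : M → M,
      (∀ m ∈ M1 M H₁, s m ∈ M1 M H₁) ∧
      (∀ (y : Additive (Yk V H₁)) (m : M),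
        ev ((Additive.toMul (d.1 y) : Yk V H₁) : V) m =
          ev ((Additive.toMul y : Yk V H₁) : V) (s m)) ∧
      (∀ (m : M) (hm : m ∈ M1 M H₁),
        ((Additive.toMul (d.2 (Additive.ofMul (⟨Φ m, hΦY hm⟩ : Yk V H₁))) : Yk V H₁) : V) =
          Φ (s m)) := by
    intro d hd
    refine Subring.closure_induction (p := fun d _ => ∃ s : M → M,
      (∀ m ∈ M1 M H₁, s m ∈ M1 M H₁) ∧
      (∀ (y : Additive (Yk V H₁)) (m : M),
        ev ((Additive.toMul (d.1 y) : Yk V H₁) : V) m =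
          ev ((Additive.toMul y : Yk V H₁) : V) (s m)) ∧
      (∀ (m : M) (hm : m ∈ M1 M H₁),
        ((Additive.toMul (d.2 (Additive.ofMul (⟨Φ m, hΦY hm⟩ : Yk V H₁))) : Yk V H₁) : V) =
          Φ (s m))) ?_ ?_ ?_ ?_ ?_ ?_ hd
    · rintro _ ⟨g, rfl⟩
      refine ⟨fun m => (g : K)⁻¹ • m, fun m hm => smul_mem_M1 _ hm, fun y m => ?_, fun m hm => ?_⟩
      · exact ev_smul (g : K) _ m
      · exact (hΦ (g : K)⁻¹ (inv_mem g.2) m).symm
    · refine ⟨fun _ => 1, fun m _ => (M1 M H₁).one_mem, fun y m => ?_, fun m hm => ?_⟩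
      · rw [ev_one_right]
        exact ev_one_left m
      · rw [map_one]
        rfl
    · exact ⟨fun m => m, fun m hm => hm, fun y m => rfl, fun m hm => rfl⟩
    · rintro x y _ _ ⟨s, hs1, hs2, hs3⟩ ⟨t, ht1, ht2, ht3⟩
      refine ⟨fun m => s m * t m, fun m hm => (M1 M H₁).mul_mem (hs1 m hm) (ht1 m hm),
        fun a m => ?_, fun m hm => ?_⟩
      · rw [ev_mul_right, ← hs2, ← ht2, ← ev_mul_left]
        rfl
      · rw [map_mul, ← hs3 m hm, ← ht3 m hm]
        rfl
    · rintro x _ ⟨s, hs1, hs2, hs3⟩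
      refine ⟨fun m => (s m)⁻¹, fun m hm => (M1 M H₁).inv_mem (hs1 m hm),
        fun a m => ?_, fun m hm => ?_⟩
      · rw [ev_inv_right, ← hs2, ← ev_inv_left]
        rfl
      · rw [map_inv, ← hs3 m hm]
        rfl
    · rintro x y hx hy ⟨s, hs1, hs2, hs3⟩ ⟨t, ht1, ht2, ht3⟩
      refine ⟨fun m => s (t m), fun m hm => hs1 _ (ht1 m hm), fun a m => ?_, fun m hm => ?_⟩
      · have hc := F.E_comm hx hy
        rw [hc, ← hs2, ← ht2]
        rfl
      · rw [← hs3 (t m) (ht1 m hm)]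
        have h1 : y.2 (Additive.ofMul (⟨Φ m, hΦY hm⟩ : Yk V H₁)) =
            Additive.ofMul (⟨Φ (t m), hΦY (ht1 m hm)⟩ : Yk V H₁) := by
          apply Additive.toMul.injective
          exact Subtype.ext (ht3 m hm)
        rw [← h1]
        rfl
  apply F.final
  intro d hd hd1
  obtain ⟨s, hs1, hs2, hs3⟩ := key d hd
  apply AddMonoidHom.ext
  intro a
  obtain ⟨m, hm, rfl⟩ := hsurj a
  apply Additive.toMul.injective
  apply Subtype.ext
  refine (hs3 m hm).trans ?_
  show Φ (s m) = 1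
  apply hΦ0
  apply hM1V (s m) (hs1 m hm)
  intro y hy
  have h1 := hs2 (Additive.ofMul ⟨y, hy⟩) m
  have h2 : ev y (s m) = ev ((Additive.toMul (d.1 (Additive.ofMul ⟨y, hy⟩)) : Yk V H₁) : V) m :=
    h1.symm
  rw [h2, hd1]
  exact ev_one_left m

/-- Elements of `M₁` moved by iterated commutators. -/
theorem exists_moved (ev : V → M → T)
    (ev_mul_left : ∀ v w m, ev (v * w) m = ev v m * ev w m)
    (ev_mul_right : ∀ v m m', ev v (m * m') = ev v m * ev v m')
    (ev_smul : ∀ (k : K) v m, ev (k • v) m = ev v (k⁻¹ • m))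
    (ev_inj : ∀ v, (∀ m, ev v m = 1) → v = 1) :
    ∃ x ∈ M1 M H₁, ∃ g ∈ H₁, ∃ k ∈ H₁, ∃ v : V,
      ev v (k • ((g • x) * x⁻¹)) ≠ ev v ((g • x) * x⁻¹) := by
  have ev_one_left : ∀ m, ev 1 m = 1 := by
    intro m
    have h1 := ev_mul_left 1 1 m
    rw [mul_one] at h1
    exact mul_eq_left.1 h1.symm
  have ev_one_right : ∀ v, ev v 1 = 1 := by
    intro v
    have h1 := ev_mul_right v 1 1
    rw [mul_one] at h1
    exact mul_eq_left.1 h1.symm
  have ev_inv_left : ∀ v m, ev v⁻¹ m = (ev v m)⁻¹ := by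
    intro v m
    have h1 := ev_mul_left v⁻¹ v m
    rw [inv_mul_cancel, ev_one_left] at h1
    exact eq_inv_of_mul_eq_one_left h1.symm
  have ev_inv_right : ∀ v m, ev v m⁻¹ = (ev v m)⁻¹ := by
    intro v m
    have h1 := ev_mul_right v m⁻¹ m
    rw [inv_mul_cancel, ev_one_right] at h1
    exact eq_inv_of_mul_eq_one_left h1.symm
  have hcomm : ∀ (g : K) (v : V) (m : M),
      ev ((g • v) * v⁻¹) m = ev v ((g⁻¹ • m) * m⁻¹) := by
    intro g v m
    rw [ev_mul_left, ev_inv_left, ev_smul, ev_mul_right, ev_inv_right]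
  have hY : ∀ (g : K) (v : V), g ∈ H₁ → (g • v) * v⁻¹ ∈ Yk V H₁ := by
    intro g v hg
    rw [mem_Yk, map_mul, map_inv, nm_smul H₁ hg, mul_inv_cancel]
  have hne : ∀ (g : K) (v : V), g • v ≠ v → (g • v) * v⁻¹ ≠ 1 := fun g v hg h1 =>
    hg (mul_inv_eq_one.1 h1)
  obtain ⟨k, hk, v, hv⟩ := h.nontriv
  obtain ⟨g, hg, hgw⟩ : ∃ g ∈ H₁, g • ((k • v) * v⁻¹) ≠ (k • v) * v⁻¹ := by
    by_contra hcon
    push Not at hcon
    exact hne k v hv (h.eq_one (hY k v hk) hcon)
  set w := (k • v) * v⁻¹ with hw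
  obtain ⟨l, hl, hlw⟩ : ∃ l ∈ H₁, l • ((g • w) * w⁻¹) ≠ (g • w) * w⁻¹ := by
    by_contra hcon
    push Not at hcon
    exact hne g w hgw (h.eq_one (hY g w hg) hcon)
  set w' := (g • w) * w⁻¹ with hw'
  obtain ⟨m, hm⟩ : ∃ m, ev ((l • w') * w'⁻¹) m ≠ 1 := by
    by_contra hcon
    push Not at hcon
    exact hne l w' hlw (ev_inj _ hcon)
  rw [hcomm] at hm
  refine ⟨(l⁻¹ • m) * m⁻¹, Subgroup.subset_closure ⟨l⁻¹, inv_mem hl, m, rfl⟩, g⁻¹, inv_mem hg,
    k⁻¹, inv_mem hk, v, ?_⟩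
  rw [hw', hcomm, hw, hcomm] at hm
  intro h1
  apply hm
  rw [ev_mul_right, h1, ev_inv_right, mul_inv_cancel]

end YHyp

end Cfsg.Agent.H673.Fin
end

-- part: H673/Pair
section
/-!
# The commutator pairing of a nilpotent group

For a nonabelian finite `p`-group `X` we choose a nontrivial linear character `ν` of `X'` which is
trivial on `[X', X]`, and an irreducible character `θ` of `X` over it.
-/

set_option autoImplicit false
set_option linter.style.haveILetI false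
set_option linter.unusedSectionVars false
open Cfsg

namespace Cfsg.Agent.H673

open Cfsg.Agent.H672
open Cfsg.Agent.Characters.Core Cfsg.Agent.Characters.Clifford
open scoped ComplexConjugate commutatorElement

universe u v w

variable {X : Type u} [Group X]

theorem commElt_mem (x g : X) : x * g * x⁻¹ * g⁻¹ ∈ commutator X := by
  have := Subgroup.commutator_mem_commutator (Subgroup.mem_top x) (Subgroup.mem_top g)
  rwa [commutatorElement_def] at this

/-- an invariant linear character of the commutator subgroup -/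
structure Nu (X : Type u) [Group X] where
  /-- the character -/
  ν : commutator X →* ℂˣ
  inv : ∀ (z : commutator X) (g : X) (h : g * z * g⁻¹ ∈ commutator X), ν ⟨g * z * g⁻¹, h⟩ = ν z

namespace Nu

variable (n : Nu X)

/-- the pairing -/
def B (x g : X) : ℂˣ := n.ν ⟨x * g * x⁻¹ * g⁻¹, commElt_mem x g⟩

theorem B_mul_left (x y g : X) : n.B (x * y) g = n.B x g * n.B y g := by
  unfold B
  have h1 := n.inv ⟨y * g * y⁻¹ * g⁻¹, commElt_mem y g⟩ x
    ((inferInstance : (commutator X).Normal).conj_mem _ (commElt_mem y g) x)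
  rw [← h1, mul_comm, ← map_mul]
  congr 1
  apply Subtype.ext
  show x * y * g * (x * y)⁻¹ * g⁻¹ = x * (y * g * y⁻¹ * g⁻¹) * x⁻¹ * (x * g * x⁻¹ * g⁻¹)
  group

theorem B_mul_right (x g h : X) : n.B x (g * h) = n.B x g * n.B x h := by
  unfold B
  have h1 := n.inv ⟨x * h * x⁻¹ * h⁻¹, commElt_mem x h⟩ g
    ((inferInstance : (commutator X).Normal).conj_mem _ (commElt_mem x h) g)
  rw [← h1, ← map_mul]
  congr 1
  apply Subtype.ext
  show x * (g * h) * x⁻¹ * (g * h)⁻¹ = (x * g * x⁻¹ * g⁻¹) * (g * (x * h * x⁻¹ * h⁻¹) * g⁻¹)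
  group

theorem B_one_right (x : X) : n.B x 1 = 1 := by
  have h1 := n.B_mul_right x 1 1
  rw [mul_one] at h1
  exact (mul_eq_left.1 h1.symm)

theorem B_one_left (g : X) : n.B 1 g = 1 := by
  have h1 := n.B_mul_left 1 1 g
  rw [mul_one] at h1
  exact (mul_eq_left.1 h1.symm)

theorem B_inv_left (x g : X) : n.B x⁻¹ g = (n.B x g)⁻¹ := by
  have h1 := n.B_mul_left x⁻¹ x g
  rw [inv_mul_cancel, B_one_left] at h1
  exact eq_inv_of_mul_eq_one_left h1.symm

theorem B_comp (e : X ≃* X) (he : ∀ (z : X) (h : z ∈ commutator X) (h' : e z ∈ commutator X),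
    n.ν ⟨e z, h'⟩ = n.ν ⟨z, h⟩) (x g : X) : n.B (e x) (e g) = n.B x g := by
  unfold B
  have h1 : e (x * g * x⁻¹ * g⁻¹) = e x * e g * (e x)⁻¹ * (e g)⁻¹ := by
    rw [map_mul, map_mul, map_mul, map_inv, map_inv]
  have h2 := he (x * g * x⁻¹ * g⁻¹) (commElt_mem x g) (h1 ▸ commElt_mem (e x) (e g))
  rw [← h2]
  congr 1
  exact Subtype.ext h1.symm

end Nu

variable [Finite X]

theorem commutator_top_lt (hX : Group.IsNilpotent X) {D : Subgroup X} (hD : D ≠ ⊥) :
    ¬ D ≤ ⁅D, (⊤ : Subgroup X)⁆ := by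
  intro hle
  obtain ⟨n, hn⟩ := (Subgroup.nilpotent_iff_lowerCentralSeries (G := X)).1 hX
  have h1 : ∀ m : ℕ, D ≤ (⊤ : Subgroup X).lowerCentralSeries m := by
    intro m
    induction m with
    | zero => exact le_top
    | succ m ih =>
      refine hle.trans ?_
      exact Subgroup.commutator_mono ih le_rfl
  exact hD (le_bot_iff.1 (hn ▸ h1 n))

/-- existence of a nontrivial invariant linear character of the commutator subgroup -/
theorem exists_nu (hX : Group.IsNilpotent X) (hD : commutator X ≠ ⊥) :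
    ∃ n : Nu X, n.ν ≠ 1 := by
  classical
  set D := commutator X with hDdef
  set M : Subgroup X := ⁅D, (⊤ : Subgroup X)⁆ with hM
  have hMn : M.Normal := Subgroup.commutator_normal D ⊤
  haveI : (M.subgroupOf D).Normal := hMn.subgroupOf D
  have hlt := commutator_top_lt hX hD
  obtain ⟨d, hd, hdM⟩ : ∃ d ∈ D, d ∉ M := by
    by_contra hcon
    push Not at hcon
    exact hlt hcon
  have hab : ∀ a b : D ⧸ M.subgroupOf D, a * b = b * a := by
    intro a b
    obtain ⟨a, rfl⟩ := QuotientGroup.mk_surjective a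
    obtain ⟨b, rfl⟩ := QuotientGroup.mk_surjective b
    rw [← QuotientGroup.mk_mul, ← QuotientGroup.mk_mul, QuotientGroup.eq]
    have h1 : ⁅(b : X)⁻¹, (a : X)⁻¹⁆ ∈ M :=
      Subgroup.commutator_mem_commutator (inv_mem b.2) (Subgroup.mem_top _)
    rw [Subgroup.mem_subgroupOf]
    have h2 : (((a * b)⁻¹ * (b * a) : D) : X) = ⁅(b : X)⁻¹, (a : X)⁻¹⁆ := by
      rw [commutatorElement_def]
      show ((a : X) * b)⁻¹ * ((b : X) * a) = _
      group
    rw [h2]
    exact h1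
  have hne : (QuotientGroup.mk (⟨d, hd⟩ : D) : D ⧸ M.subgroupOf D) ≠ 1 := by
    intro h1
    exact hdM (Subgroup.mem_subgroupOf.1 ((QuotientGroup.eq_one_iff _).1 h1))
  obtain ⟨f, hf⟩ := exists_dual_ne hab hne
  refine ⟨⟨f.comp (QuotientGroup.mk' (M.subgroupOf D)), ?_⟩, ?_⟩
  · intro z g h
    rw [MonoidHom.comp_apply, MonoidHom.comp_apply]
    congr 1
    show QuotientGroup.mk (⟨g * z * g⁻¹, h⟩ : D) = QuotientGroup.mk z
    rw [QuotientGroup.eq, Subgroup.mem_subgroupOf]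
    have h1 : ⁅g, (z : X)⁻¹⁆ ∈ M := by
      rw [hM, Subgroup.commutator_comm]
      exact Subgroup.commutator_mem_commutator (Subgroup.mem_top _) (inv_mem z.2)
    have h2 : (((⟨g * z * g⁻¹, h⟩ : D)⁻¹ * z : D) : X) = ⁅g, (z : X)⁻¹⁆ := by
      rw [commutatorElement_def]
      show (g * (z : X) * g⁻¹)⁻¹ * (z : X) = _
      group
    rw [h2]
    exact h1
  · intro h1
    apply hf
    exact DFunLike.congr_fun h1 (⟨d, hd⟩ : D)

/-- an irreducible character over `ν` -/
theorem Nu.exists_irr (n : Nu X) (hn : n.ν ≠ 1) : ∃ θ : X → ℂ, IsIrrCharacter X θ ∧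
    charDegree θ ≠ 1 ∧ ∀ z : commutator X, θ z = θ 1 * (n.ν z : ℂ) := by
  classical
  letI := Fintype.ofFinite (commutator X)
  obtain ⟨θ, hθ, ho⟩ := exists_over (N := commutator X) _ (isIrr_lf n.ν)
  have h0 := ho
  rw [over_iff] at h0
  have hres := comp_eq_smul_of_invariant_hom (commutator X).subtype
    (commutator X).subtype_injective (by rw [Subgroup.range_subtype]; infer_instance) hθ
    (isIrr_lf n.ν) (by
      intro k h h' e
      have hm : k * (h : X) * k⁻¹ ∈ commutator X :=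
        (inferInstance : (commutator X).Normal).conj_mem _ h.2 k
      have e' : h' = ⟨k * (h : X) * k⁻¹, hm⟩ := Subtype.ext e
      rw [e']
      exact congrArg Units.val (n.inv h k hm)) h0
  have hone : classInner (θ ∘ (commutator X).subtype) (lf n.ν) = θ 1 := by
    have h1 := congrFun hres 1
    simp only [Pi.smul_apply, smul_eq_mul, lf_apply, map_one, Units.val_one, mul_one] at h1
    rw [← h1]
    rfl
  have hval : ∀ z : commutator X, θ z = θ 1 * (n.ν z : ℂ) := by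
    intro z
    have h1 := congrFun hres z
    rw [hone] at h1
    exact h1
  refine ⟨θ, hθ, ?_, hval⟩
  intro h1
  obtain ⟨ϕ, rfl⟩ := exists_hom_of_degree_one hθ h1
  apply hn
  ext z
  have h2 := hval z
  have h3 : (z : X) ∈ ϕ.ker := Abelianization.commutator_subset_ker ϕ z.2
  rw [lf_apply, lf_apply, MonoidHom.mem_ker.1 h3, map_one, Units.val_one, one_mul] at h2
  rw [← h2, MonoidHom.one_apply, Units.val_one]

/-- zeros of `θ` -/
theorem Nu.exists_B_ne (n : Nu X) {θ : X → ℂ} (hθ : IsIrrCharacter X θ)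
    (hval : ∀ z : commutator X, θ z = θ 1 * (n.ν z : ℂ)) {x : X} (hx : θ x = 0) :
    ∃ g : X, n.B x g ≠ 1 := by
  classical
  letI := Fintype.ofFinite X
  by_contra hcon
  push Not at hcon
  have h1 := Characters.Central.sum_char_conj_mul hθ x x⁻¹
  rw [hx, mul_zero, zero_mul, zero_div] at h1
  have h2 : ∀ a : X, θ (a * x * a⁻¹ * x⁻¹) = θ 1 := by
    intro a
    have h3 := hval ⟨a * x * a⁻¹ * x⁻¹, commElt_mem a x⟩
    have h4 := hcon a⁻¹
    have h5 : n.ν ⟨a * x * a⁻¹ * x⁻¹, commElt_mem a x⟩ = 1 := by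
      have h6 := n.inv ⟨x * a⁻¹ * x⁻¹ * a⁻¹⁻¹, commElt_mem x a⁻¹⟩ a
        ((inferInstance : (commutator X).Normal).conj_mem _ (commElt_mem x a⁻¹) a)
      have h7 : n.ν ⟨x * a⁻¹ * x⁻¹ * a⁻¹⁻¹, commElt_mem x a⁻¹⟩ = 1 := h4
      rw [h7] at h6
      rw [← h6]
      congr 1
      apply Subtype.ext
      show a * x * a⁻¹ * x⁻¹ = a * (x * a⁻¹ * x⁻¹ * a⁻¹⁻¹) * a⁻¹
      group
    rw [h5, Units.val_one, mul_one] at h3
    exact h3
  rw [Finset.sum_congr rfl (fun a _ => h2 a), Finset.sum_const, Finset.card_univ, nsmul_eq_mul] at h1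
  rcases mul_eq_zero.1 h1 with h3 | h3
  · exact Fintype.card_ne_zero (Nat.cast_eq_zero.1 h3)
  · exact isIrr_apply_one_ne_zero hθ h3

end Cfsg.Agent.H673
end

-- part: H673/ConnF
section
/-!
# The relative degree graph: connected case, `N` a `p`-group

The case in which the Sylow `p`-subgroup acts trivially on the dual of `N`.
-/

set_option autoImplicit false
set_option linter.style.haveILetI false
set_option linter.unusedSectionVars false
open Cfsg

namespace Cfsg.Agent.H673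

open Cfsg.Agent.H672
open Cfsg.Agent.Characters.Core Cfsg.Agent.Characters.Clifford
open scoped ComplexConjugate

universe u v w

section hall

variable {X : Type u} [Group X] [Finite X]

/-- the subgroup generated by the Sylow `e`-subgroups, `e` dividing `n` -/
def HS (X : Type u) [Group X] (n : ℕ) : Subgroup X :=
  Subgroup.closure {y : X | ∃ e : ℕ, e.Prime ∧ e ∣ n ∧ ∃ R : Sylow e X, y ∈ (R : Subgroup X)}

variable {n : ℕ}

theorem le_HS {e : ℕ} (he : e.Prime) (hen : e ∣ n) (R : Sylow e X) : (R : Subgroup X) ≤ HS X n :=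
  fun _ hy => Subgroup.subset_closure ⟨e, he, hen, R, hy⟩

theorem HS_le {B : Subgroup X}
    (h : ∀ e : ℕ, e.Prime → e ∣ n → ∀ R : Sylow e X, (R : Subgroup X) ≤ B) : HS X n ≤ B := by
  unfold HS
  rw [Subgroup.closure_le]
  rintro y ⟨e, he, hen, R, hy⟩
  exact h e he hen R hy

theorem HS_normal (h : ∀ e : ℕ, e.Prime → e ∣ n → ∀ R : Sylow e X, (R : Subgroup X).Normal) :
    (HS X n).Normal := by
  refine ⟨fun x hx g => ?_⟩
  refine Subgroup.closure_induction (p := fun x _ => g * x * g⁻¹ ∈ HS X n) ?_ ?_ ?_ ?_ hx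
  · rintro y ⟨e, he, hen, R, hy⟩
    exact le_HS he hen R ((h e he hen R).conj_mem y hy g)
  · rw [mul_one, mul_inv_cancel]
    exact (HS X n).one_mem
  · intro x y _ _ hx hy
    have e : g * (x * y) * g⁻¹ = (g * x * g⁻¹) * (g * y * g⁻¹) := by group
    rw [e]
    exact mul_mem hx hy
  · intro x _ hx
    have e : g * x⁻¹ * g⁻¹ = (g * x * g⁻¹)⁻¹ := by group
    rw [e]
    exact inv_mem hx

theorem HS_comm (h : ∀ e : ℕ, e.Prime → e ∣ n → ∀ R : Sylow e X, (R : Subgroup X).Normal)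
    (hc : ∀ e : ℕ, e.Prime → e ∣ n → ∀ R : Sylow e X,
      ∀ x ∈ (R : Subgroup X), ∀ y ∈ (R : Subgroup X), x * y = y * x) :
    ∀ x ∈ HS X n, ∀ y ∈ HS X n, x * y = y * x := by
  have key : ∀ x ∈ {y : X | ∃ e : ℕ, e.Prime ∧ e ∣ n ∧ ∃ R : Sylow e X, y ∈ (R : Subgroup X)},
      ∀ y ∈ {y : X | ∃ e : ℕ, e.Prime ∧ e ∣ n ∧ ∃ R : Sylow e X, y ∈ (R : Subgroup X)},
      x * y = y * x := by
    rintro x ⟨e, he, hen, R, hx⟩ y ⟨e', he', hen', R', hy⟩
    haveI : Fact e.Prime := ⟨he⟩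
    haveI : Fact e'.Prime := ⟨he'⟩
    by_cases hee : e = e'
    · subst hee
      haveI := h e he hen R
      haveI := Sylow.unique_of_normal R (h e he hen R)
      have h1 : R' = R := Subsingleton.elim _ _
      rw [h1] at hy
      exact hc e he hen R x hx y hy
    · have h1 : Disjoint (R : Subgroup X) (R' : Subgroup X) := by
        apply Subgroup.disjoint_of_coprime_natCard
        obtain ⟨a, ha⟩ := IsPGroup.iff_card.1 R.isPGroup'
        obtain ⟨b, hb⟩ := IsPGroup.iff_card.1 R'.isPGroup'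
        rw [ha, hb]
        exact Nat.Coprime.pow _ _ ((Nat.coprime_primes he he').2 hee)
      exact Subgroup.commute_of_normal_of_disjoint _ _ (h e he hen R) (h e' he' hen' R') h1 x y hx hy
  have h1 := (Subgroup.isMulCommutative_closure key).is_comm.comm
  intro x hx y hy
  exact congrArg Subtype.val (h1 ⟨x, hx⟩ ⟨y, hy⟩)

theorem HS_trans {f : ℕ} [Fact f.Prime] (hn : Nat.card (Sylow f X) = n) (R R' : Sylow f X) :
    ∃ g ∈ HS X n, g • R = R' := by
  obtain ⟨g, hg⟩ := MulAction.exists_smul_eq X R R'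
  have hcop : Nat.Coprime (HS X n).index (Subgroup.normalizer (R : Set X)).index := by
    rw [← R.card_eq_index_normalizer, hn]
    apply Nat.Coprime.symm
    by_contra hcon
    obtain ⟨e, he, h1, h2⟩ := Nat.Prime.not_coprime_iff_dvd.1 hcon
    haveI : Fact e.Prime := ⟨he⟩
    obtain ⟨Q⟩ : Nonempty (Sylow e X) := inferInstance
    exact Q.not_dvd_index (h2.trans (Subgroup.index_dvd_of_le (le_HS he h1 Q)))
  obtain ⟨a, ha, c, hc, hac⟩ := S0543.exists_mul_eq_of_coprime_index _ _ hcop g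
  refine ⟨a, ha, ?_⟩
  have h1 : c • R = R := Sylow.smul_eq_iff_mem_normalizer.2 hc
  rw [← hg, hac, mul_smul, h1]

end hall

section

variable {G : Type u} [Group G] [Finite G] {N : Subgroup G} [hN : N.Normal]
variable {p : ℕ} [hp : Fact p.Prime]

/-- the conjugation action on a normal subgroup -/
@[reducible] def conjAct (N : Subgroup G) [N.Normal] : MulDistribMulAction G N where
  smul g n := MulAut.conjNormal g n
  one_smul n := by
    show MulAut.conjNormal (1 : G) n = n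
    rw [map_one]; rfl
  mul_smul g k n := by
    show MulAut.conjNormal (g * k) n = _
    rw [map_mul]; rfl
  smul_one g := map_one (MulAut.conjNormal g)
  smul_mul g m n := map_mul (MulAut.conjNormal g) m n

attribute [local instance] dualAct conjAct

namespace Bad2

variable {μ : N →* ℂˣ} {b : ℕ} {P : Sylow p G} {K : Subgroup G} (h : Bad2 p N μ b P K)
include h

/-- the centralizer of `P / N` -/
theorem exists_cent : ∃ C : Subgroup G, C.Normal ∧
    ∀ g, g ∈ C ↔ ∀ x ∈ (P : Subgroup G), g * x * g⁻¹ * x⁻¹ ∈ N := by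
  haveI := h.hP
  haveI : ((P : Subgroup G).map (QuotientGroup.mk' N)).Normal :=
    h.hP.map _ (QuotientGroup.mk'_surjective N)
  refine ⟨(Subgroup.centralizer (((P : Subgroup G).map (QuotientGroup.mk' N) : Subgroup (G ⧸ N)) :
    Set (G ⧸ N))).comap (QuotientGroup.mk' N), inferInstance, fun g => ?_⟩
  rw [Subgroup.mem_comap, Subgroup.mem_centralizer_iff]
  constructor
  · intro h1 x hx
    have h2 := h1 (QuotientGroup.mk' N x) ⟨x, hx, rfl⟩
    rw [← QuotientGroup.eq_one_iff]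
    show QuotientGroup.mk' N (g * x * g⁻¹ * x⁻¹) = 1
    rw [map_mul, map_mul, map_mul, map_inv, map_inv, ← h2]
    group
  · rintro h1 _ ⟨x, hx, rfl⟩
    have h2 := h1 x hx
    rw [← QuotientGroup.eq_one_iff] at h2
    have h3 : QuotientGroup.mk' N (g * x * g⁻¹ * x⁻¹) = 1 := h2
    rw [map_mul, map_mul, map_mul, map_inv, map_inv, mul_inv_eq_one, mul_inv_eq_iff_eq_mul] at h3
    exact h3.symm

variable (hβ : ∀ v : N →* ℂˣ, v ∈ Orb.FixP (P : Subgroup G) (N →* ℂˣ))
include hβ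

theorem exists_ext_P (v : N →* ℂˣ) :
    ∃ ν : (P : Subgroup G) →* ℂˣ, ∀ n : N, ν ⟨n, h.hNP n.2⟩ = v n := by
  by_cases hv : v = 1
  · exact ⟨1, fun n => by rw [hv]; rfl⟩
  · obtain ⟨R, hR⟩ := h.mem_ER_of_u hv (h.notp hβ v)
    exact ER_of_stab (R' := P) hR (h.stab_P (h.notp hβ v))

/-- **Case B.** -/
theorem caseB {f : ℕ} [hf : Fact f.Prime] (hfp : f ≠ p)
    {x : ℕ} (hx : x ∈ relCharDegrees N) (hpx : p ∣ x) (hfx : f ∣ x) : False := by
  classical
  haveI := h.hP
  haveI := finite_dual N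
  have hfd : ∀ {d : ℕ}, f ∣ d → ¬ Nat.Coprime x d := fun hd h1 =>
    hf.out.one_lt.ne' (Nat.eq_one_of_dvd_coprimes h1 hfx hd)
  have hND : ∀ χ : G → ℂ, IsIrrCharacter G χ → Over N.subtype χ (lf μ) → ¬ f ∣ charDegree χ :=
    fun χ hχ ho h1 => hfd h1
      ((h.a0 h.hμ1 (h.not_coprime_of_dvd dvd_rfl) hχ ho).2 x hx hpx)
  obtain ⟨hnμ, F, hFK, hFμ, hab, hPF, hk4⟩ := h.krK hfp h.hμ1 h.not_dvd_u hND
  set n := Nat.card (Sylow f K) with hn
  have hn1 : n ≠ 1 := by
    intro h3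
    haveI : Subsingleton (Sylow f K) := (Nat.card_eq_one_iff_unique.1 h3).1
    have h4 := Sylow.normal_of_subsingleton (F.subtype hFK)
    refine h.false_of_normal hfp hx hpx hfx F hFμ hab hPF ?_
    intro k hk y hy
    exact h4.conj_mem ⟨y, hFK hy⟩ hy ⟨k, hk⟩
  -- the primes dividing `n`
  have hep : ∀ e : ℕ, e.Prime → e ∣ n → e ≠ p := by
    rintro e he hen rfl
    exact h.not_dvd_u (hen.trans hnμ)
  have heb : ∀ e : ℕ, e ∣ n → e ∣ b := fun e hen => (hen.trans hnμ).trans h.hb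
  have hez : ∀ e : ℕ, e.Prime → e ∣ n → ∀ z ∈ relCharDegrees N, p ∣ z → ¬ e ∣ z := by
    intro e he hen z hz hpz hez
    exact he.one_lt.ne' (Nat.eq_one_of_dvd_coprimes (h.coprime_b hz hpz) hez (heb e hen))
  have hE : ∀ e : ℕ, e.Prime → e ∣ n → ∀ R : Sylow e K,
      (R : Subgroup K).Normal ∧
      (∀ x ∈ (R : Subgroup K), ∀ y ∈ (R : Subgroup K), x * y = y * x) ∧
      (∀ θ : ↥(P : Subgroup G) → ℂ, IsIrrCharacter _ θ → charDegree θ ≠ 1 →
        ∀ y ∈ (R : Subgroup K), (y : G) ∈ inertia (P : Subgroup G) θ) ∧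
      (∀ l : N →* ℂˣ, ¬ e ∣ (MulAction.stabilizer G l).index →
        ∀ y ∈ (R : Subgroup K), (y : G) • l = l) := by
    intro e he hen R
    haveI : Fact e.Prime := ⟨he⟩
    exact h.sylow_e_props hβ (hep e he hen) (hez e he hen) R
  set H : Subgroup K := HS K n with hHdef
  haveI hHn : H.Normal := HS_normal (fun e he hen R => (hE e he hen R).1)
  have hHc : ∀ a ∈ H, ∀ b ∈ H, a * b = b * a :=
    HS_comm (fun e he hen R => (hE e he hen R).1) (fun e he hen R => (hE e he hen R).2.1)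
  have hHt : ∀ R R' : Sylow f K, ∃ g ∈ H, g • R = R' := fun R R' => HS_trans hn.symm R R'
  have hHθ : ∀ θ : ↥(P : Subgroup G) → ℂ, IsIrrCharacter _ θ → charDegree θ ≠ 1 →
      ∀ g ∈ H, (g : G) ∈ inertia (P : Subgroup G) θ := by
    intro θ hθ hθ1
    have h1 : H ≤ (inertia (P : Subgroup G) θ).subgroupOf K :=
      HS_le (fun e he hen R y hy => (hE e he hen R).2.2.1 θ hθ hθ1 y hy)
    exact fun g hg => h1 hg
  have hHl : ∀ l : N →* ℂˣ,
      (∀ e : ℕ, e.Prime → e ∣ n → ¬ e ∣ (MulAction.stabilizer G l).index) →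
      ∀ g ∈ H, (g : G) • l = l := by
    intro l hl
    have h1 : H ≤ (MulAction.stabilizer G l).subgroupOf K :=
      HS_le (fun e he hen R y hy => (hE e he hen R).2.2.2 l (hl e he hen) y hy)
    exact fun g hg => h1 hg
  have huniq : ∀ l : N →* ℂˣ, (∃ g ∈ H, (g : G) • l ≠ l) →
      ∃! R : Sylow f K, ∀ y ∈ (R : Subgroup K), (y : G) • l = l := by
    rintro l ⟨g, hg, hgl⟩
    have hl1 : l ≠ 1 := by
      rintro rfl
      exact hgl (MonoidHom.ext fun n => rfl)
    have hND' : ∀ χ : G → ℂ, IsIrrCharacter G χ → Over N.subtype χ (lf l) →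
        ¬ f ∣ charDegree χ := by
      intro χ hχ ho hfχ
      have h1 := h.f2 x hx hpx _ (mem_rel_of_over hχ ho hl1) (hfd hfχ)
      refine hgl (hHl l (fun e he hen hel => ?_) g hg)
      exact he.one_lt.ne' (Nat.eq_one_of_dvd_coprimes h1 (hel.trans (stab_dvd_of_over hχ ho))
        (heb e hen))
    obtain ⟨-, Q, hQK, hQl, -, -, hQ4⟩ := h.krK hfp hl1 (h.notp hβ l) hND'
    refine ⟨Q.subtype hQK, fun y hy => hQl hy, fun R' hR' => ?_⟩
    exact h.uniq_K Q hQK hQ4 R' hR'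
  -- the centralizer of `P / N`
  obtain ⟨C, hCn, hC⟩ := h.exists_cent
  set H₁ : Subgroup K := H ⊓ C.subgroupOf K with hH1def
  haveI hCK : (C.subgroupOf K).Normal := hCn.subgroupOf K
  haveI hH1n : H₁.Normal := Subgroup.normal_inf_normal H (C.subgroupOf K)
  have hFC : ∀ y ∈ (F : Subgroup G), y ∈ C := by
    intro y hy
    rw [hC]
    intro z hz
    have h1 := inv_mem (hPF z hz y hy)
    have h2 : y * z * y⁻¹ * z⁻¹ = (z * y * z⁻¹ * y⁻¹)⁻¹ := by group
    rw [h2]; exact h1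
  have hnt : ∃ g ∈ H₁, ∃ v : N →* ℂˣ, g • v ≠ v := by
    by_contra hcon
    push Not at hcon
    apply hn1
    rw [hn]
    refine Nat.card_eq_one_iff_unique.2 ⟨⟨fun R R' => ?_⟩, ⟨F.subtype hFK⟩⟩
    have key : ∀ R : Sylow f K, R = F.subtype hFK := by
      intro R
      obtain ⟨g, hg, rfl⟩ := hHt (F.subtype hFK) R
      apply h.uniq_K F hFK hk4
      intro y hy
      rw [Sylow.coe_subgroup_smul] at hy
      obtain ⟨z, hz, hzy⟩ := hy
      have h1 : g * z * g⁻¹ = y := hzy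
      have hzF : (z : G) ∈ (F : Subgroup G) := hz
      have h2 : g * z * g⁻¹ * z⁻¹ ∈ H₁ := by
        refine ⟨?_, ?_⟩
        · have e : g * z * g⁻¹ * z⁻¹ = g * (z * g⁻¹ * z⁻¹) := by group
          rw [e]
          exact mul_mem hg (hHn.conj_mem _ (inv_mem hg) z)
        · have hzC : z ∈ C.subgroupOf K := hFC _ hzF
          exact (C.subgroupOf K).mul_mem (hCK.conj_mem z hzC g) ((C.subgroupOf K).inv_mem hzC)
      have h3 := hcon _ h2 ((z : G) • μ)
      have h4 : (z : G) • μ = μ := hFμ hzF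
      have h5 : ((g * z * g⁻¹ * z⁻¹ : K) : G) • ((z : G) • μ) = (z : G) • μ := h3
      rw [← mul_smul, h4] at h5
      have h6 : ((g * z * g⁻¹ * z⁻¹ : K) : G) * (z : G) = (y : G) := by
        rw [← h1]
        push_cast
        group
      rwa [h6] at h5
    rw [key R, key R']
  have Y : Fin.YHyp p f K (N →* ℂˣ) H H₁ :=
    { hV := pV_dual h.hNp
      trans := hHt
      uniq := fun v ⟨g, hg, hgv⟩ => huniq v ⟨g, hg.1, hgv⟩
      ne := hn1
      comm := hHc
      le := inf_le_left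
      cop := fun h1 => h.not_dvd_card (h1.trans (Subgroup.card_subgroup_dvd_card H₁))
      nontriv := hnt
      hfp := hfp }
  -- the pairing on `P`
  have hXn : Group.IsNilpotent (P : Subgroup G) := P.isPGroup'.isNilpotent
  have hXc : commutator (P : Subgroup G) ≠ ⊥ := by
    intro hbot
    obtain ⟨⟨χ, hχ⟩, -, rfl⟩ := hx
    dsimp only at hpx
    obtain ⟨θ, hθ, ho⟩ := exists_under (f := (P : Subgroup G).subtype) hχ
    apply h.nonlinear_P hχ hpx hθ ho
    obtain ⟨ϕ, rfl⟩ := Characters.CCBasic.exists_hom_of_comm (fun a c => by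
      have h1 := commElt_mem a c
      rw [hbot, Subgroup.mem_bot] at h1
      calc a * c = (a * c * a⁻¹ * c⁻¹) * (c * a) := by group
        _ = c * a := by rw [h1, one_mul]) hθ
    exact charDegree_lf ϕ
  obtain ⟨ν, hν⟩ := exists_nu hXn hXc
  obtain ⟨θ, hθ, hθ1, hval⟩ := ν.exists_irr hν
  have hθ0 : θ 1 ≠ 0 := isIrr_apply_one_ne_zero hθ
  have hB : ∀ g ∈ H, ∀ x y : (P : Subgroup G),
      ν.B (MulAut.conjNormal (g : G) x) (MulAut.conjNormal (g : G) y) = ν.B x y := by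
    intro g hg x y
    apply ν.B_comp (MulAut.conjNormal (g : G))
    intro z hz hz'
    have h1 := congrFun (mem_inertia.1 (hHθ θ hθ hθ1 g hg)) z
    have h2 : θ (MulAut.conjNormal (g : G) z) = θ z := h1
    have h3 := hval ⟨z, hz⟩
    have h4 := hval ⟨MulAut.conjNormal (g : G) z, hz'⟩
    have h5 : θ 1 * (ν.ν ⟨MulAut.conjNormal (g : G) z, hz'⟩ : ℂ) = θ 1 * (ν.ν ⟨z, hz⟩ : ℂ) := by
      rw [← h3, ← h4]
      exact h2
    exact Units.ext (mul_left_cancel₀ hθ0 h5)
  let ι : N →* (P : Subgroup G) := Subgroup.inclusion h.hNP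
  have hι : ∀ (g : G) (m : N), ι (g • m) = MulAut.conjNormal g (ι m) := fun g m => rfl
  let Φ : N →* (N →* ℂˣ) :=
    { toFun := fun m =>
        { toFun := fun n => ν.B (ι m) (ι n)
          map_one' := by rw [map_one]; exact ν.B_one_right _
          map_mul' := fun a c => by rw [map_mul]; exact ν.B_mul_right _ _ _ }
      map_one' := by
        apply MonoidHom.ext
        intro n
        show ν.B (ι 1) (ι n) = 1
        rw [map_one]; exact ν.B_one_left _
      map_mul' := fun a c => by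
        apply MonoidHom.ext
        intro n
        show ν.B (ι (a * c)) (ι n) = ν.B (ι a) (ι n) * ν.B (ι c) (ι n)
        rw [map_mul]; exact ν.B_mul_left _ _ _ }
  have hΦa : ∀ m n : N, Φ m n = ν.B (ι m) (ι n) := fun m n => rfl
  have ev_smul : ∀ (k : K) (v : N →* ℂˣ) (m : N), (k • v) m = v (k⁻¹ • m) := fun k v m => rfl
  obtain ⟨x1, hx1, g, hg, k, hk, v, hv⟩ := Y.exists_moved (M := N) (T := ℂˣ) (fun v m => v m)
    (fun v w m => rfl) (fun v m m' => map_mul v m m') ev_smul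
    (fun v hv => MonoidHom.ext hv)
  refine Y.false_of_pairing (M := N) (T := ℂˣ) (fun v m => v m)
    (fun v w m => rfl) (fun v m m' => map_mul v m m') ev_smul Φ ?_ ?_ ⟨x1, hx1, ?_⟩
  · intro g hg m
    apply MonoidHom.ext
    intro n
    have h1 := hB g hg (ι m) (ι (g⁻¹ • n))
    have h2 : ι n = MulAut.conjNormal (g : G) (ι (g⁻¹ • n)) := by
      rw [← hι]
      congr 1
      exact (smul_inv_smul g n).symm
    show ν.B (ι (g • m)) (ι n) = ν.B (ι m) (ι (g⁻¹ • n))
    rw [← h1, ← h2]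
    rfl
  · intro m hm
    have h1 : m ∈ commutator N := mem_commutator_of_dual hm
    exact MonoidHom.mem_ker.1 (Abelianization.commutator_subset_ker Φ h1)
  · -- `Φ x1 ≠ 1`
    intro hΦ1
    set x2 : N := (g • x1) * x1⁻¹ with hx2
    obtain ⟨lam, hlam⟩ := h.exists_ext_P hβ v
    have hlam' : ∀ m : N, lam (ι m) = v m := hlam
    have hzero : θ (ι x2) = 0 := by
      have h1 := congrFun (mem_inertia.1 (hHθ θ hθ hθ1 k hk.1)) (ι x2)
      have h2 : θ (ι (k • x2)) = θ (ι x2) := h1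
      have hlθ := isIrr_mul_lf lam hθ
      have h3 := congrFun (mem_inertia.1 (hHθ _ hlθ (by rwa [charDegree_mul_lf]) k hk.1)) (ι x2)
      have h4 : (lam (ι (k • x2)) : ℂ) * θ (ι (k • x2)) = (lam (ι x2) : ℂ) * θ (ι x2) := h3
      rw [h2, hlam', hlam'] at h4
      by_contra h5
      exact hv (Units.ext (mul_right_cancel₀ h5 h4))
    obtain ⟨y, hy⟩ := ν.exists_B_ne hθ hval hzero
    apply hy
    -- the commutator
    have hmem' : (g : G)⁻¹ * y * (g : G) * (y : G)⁻¹ ∈ N := by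
      have h1 := (hC ((g⁻¹ : K) : G)).1 (inv_mem hg.2 : (g⁻¹ : K) ∈ C.subgroupOf K) y y.2
      have h2 : ((g⁻¹ : K) : G) * y * ((g⁻¹ : K) : G)⁻¹ * (y : G)⁻¹ =
          (g : G)⁻¹ * y * (g : G) * (y : G)⁻¹ := by
        push_cast
        group
      rwa [h2] at h1
    set n0 : N := ⟨_, hmem'⟩ with hn0
    have h1 : ν.B (ι (g • x1)) y = ν.B (ι x1) (MulAut.conjNormal (g : G)⁻¹ y) := by
      rw [← hB g hg.1 (ι x1) (MulAut.conjNormal (g : G)⁻¹ y)]
      have e : MulAut.conjNormal (g : G) (MulAut.conjNormal (g : G)⁻¹ y) = y := by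
        apply Subtype.ext
        rw [MulAut.conjNormal_apply, MulAut.conjNormal_apply]
        group
      rw [e]
      rfl
    have h2 : MulAut.conjNormal (g : G)⁻¹ y = ι n0 * y := by
      apply Subtype.ext
      rw [MulAut.conjNormal_apply, Subgroup.coe_mul]
      show (g : G)⁻¹ * y * (g : G)⁻¹⁻¹ = ((g : G)⁻¹ * y * (g : G) * (y : G)⁻¹) * y
      group
    have h3 : ν.B (ι x1) (ι n0) = 1 := by
      rw [← hΦa, hΦ1]
      rfl
    rw [hx2, map_mul, map_inv, ν.B_mul_left, ν.B_inv_left, h1, h2, ν.B_mul_right, h3, one_mul,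
      mul_inv_cancel]

/-- **There is no bad situation.** -/
theorem false_aux : False := by
  obtain ⟨x, hx, y, hy, hpx, hpy, hxy⟩ := h.edge
  obtain ⟨f, hf, h1, h2⟩ := Nat.Prime.not_coprime_iff_dvd.1 hxy
  haveI : Fact f.Prime := ⟨hf⟩
  have hfp : f ≠ p := by
    rintro rfl
    exact hpy h2
  exact h.caseB hβ hfp hx hpx h1

end Bad2

theorem Bad.false {μ : N →* ℂˣ} {b : ℕ} (h : Bad p N μ b) (hIM : AllIM G) : False := by
  obtain ⟨P, K, h2⟩ := h.exists_bad2 hIM
  by_cases hβ : ∀ v : N →* ℂˣ, v ∈ Orb.FixP (P : Subgroup G) (N →* ℂˣ)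
  · exact h2.false_aux hβ
  · push Not at hβ
    obtain ⟨x, hx, y, hy, hpx, hpy, hxy⟩ := h.edge
    obtain ⟨f, hf, h1, h3⟩ := Nat.Prime.not_coprime_iff_dvd.1 hxy
    haveI : Fact f.Prime := ⟨hf⟩
    have hfp : f ≠ p := by
      rintro rfl
      exact hpy h3
    refine h2.caseA hfp hx hpx h1 (fun χ hχ ho h4 => ?_) hβ
    exact hf.one_lt.ne' (Nat.eq_one_of_dvd_coprimes
      ((h.a0 h.hμ1 (h.not_coprime_of_dvd dvd_rfl) hχ ho).2 x hx hpx) h1 h4)

end

end Cfsg.Agent.H673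
end

-- part: H673/ConnB
section
/-!
# The relative degree graph: connected case, nilpotent `N`

Reduction to `p`-groups, and the diameter.
-/

set_option autoImplicit false
set_option linter.style.haveILetI false
set_option linter.unusedSectionVars false
open Cfsg

namespace Cfsg.Agent.H673

open Cfsg.Agent.H672
open Cfsg.Agent.Characters.Core Cfsg.Agent.Characters.Clifford
open scoped ComplexConjugate

universe u v w

variable {G : Type u} [Group G] [Finite G]

/-- chains of length three -/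
def Ch3 (N : Subgroup G) (a b : ℕ) : Prop :=
  ∃ c ∈ relCharDegrees N, ∃ d ∈ relCharDegrees N,
    ¬ Nat.Coprime a c ∧ ¬ Nat.Coprime c d ∧ ¬ Nat.Coprime d b

theorem Ch3.symm {N : Subgroup G} {a b : ℕ} (h : Ch3 N a b) : Ch3 N b a := by
  obtain ⟨c, hc, d, hd, h1, h2, h3⟩ := h
  exact ⟨d, hd, c, hc, fun h => h3 h.symm, fun h => h2 h.symm, fun h => h1 h.symm⟩

/-- the case of a `p`-group -/
theorem ch3_pgroup {p : ℕ} [hp : Fact p.Prime] (N : Subgroup G) [hN : N.Normal]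
    (hNp : IsPGroup p N) (hNG : N ≤ commutator G) (hIM : AllIM G)
    (hconn : ∀ x ∈ relCharDegrees N, ∀ y ∈ relCharDegrees N, Conn N x y) :
    ∀ a ∈ relCharDegrees N, ∀ b ∈ relCharDegrees N, Ch3 N a b := by
  have self : ∀ {x : ℕ}, x ∈ relCharDegrees N → ¬ Nat.Coprime x x := fun hx =>
    not_coprime_self (one_lt_of_mem_rel hNG hx)
  have common : ∀ {x y : ℕ}, p ∣ x → p ∣ y → ¬ Nat.Coprime x y := fun h1 h2 h =>
    hp.out.one_lt.ne' (Nat.eq_one_of_dvd_coprimes h h1 h2)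
  have near : ∀ y ∈ relCharDegrees N, ¬ p ∣ y → ∃ μ : N →* ℂˣ, μ ≠ 1 ∧
      (inertia N (lf μ)).index ∣ y ∧ (∃ R : Sylow p G, μ ∈ ER hNp R) ∧
      ∀ z ∈ relCharDegrees N, ¬ p ∣ z →
      ∃ d ∈ relCharDegrees N, ¬ Nat.Coprime z d ∧ ¬ Nat.Coprime d y := by
    rintro _ ⟨⟨χ, hχ⟩, hk, rfl⟩ hpy
    dsimp only at hk hpy ⊢
    obtain ⟨θ, hθ, ho⟩ := exists_under (f := N.subtype) hχ
    obtain ⟨l, rfl⟩ := lin_of_not_dvd hNp hχ hpy hθ ho
    have hl1 : l ≠ 1 := by
      rintro rfl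
      exact ne_one_of_over N hχ hk (isIrr_lf _) ho lf_one
    have hd := index_dvd_of_over hχ (isIrr_lf l) ho
    obtain ⟨R, hR⟩ := exists_mem_ER hNp hχ ho hpy
    refine ⟨l, hl1, hd, ⟨R, hR⟩, fun z hz hpz => ?_⟩
    obtain ⟨ν, hν⟩ := (mem_ER_iff hNp R l).1 hR
    obtain ⟨k, hk'⟩ := exists_pow_pV hNp
    obtain ⟨d, hd', h1, h2⟩ := caseI' hNG R hl1 (hk' l) ν hν z hz hpz
    exact ⟨d, hd', h1, fun h3 => h2 (h3.coprime_dvd_right hd)⟩
  have key : ∀ a ∈ relCharDegrees N, ∀ b ∈ relCharDegrees N, p ∣ a → ¬ p ∣ b → Ch3 N a b := by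
    intro a ha b hb hpa hpb
    by_contra hcon
    obtain ⟨μ, hμ1, hμb, hμE, hnear⟩ := near b hb hpb
    have hbad : Bad p N μ b :=
      { hNp := hNp
        hNG := hNG
        hb := by rw [stabilizer_eq]; exact hμb
        hμ1 := hμ1
        hμE := hμE
        f1 := by
          refine ⟨a, ha, hpa, fun y hy hpy => ?_⟩
          by_contra hay
          obtain ⟨d, hd, h1, h2⟩ := hnear y hy hpy
          exact hcon ⟨y, hy, d, hd, hay, h1, h2⟩
        f2 := by
          intro z hz hpz d hd hzd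
          by_contra hdb
          exact hcon ⟨z, hz, d, hd, common hpa hpz, hzd, hdb⟩
        edge := by
          obtain ⟨x, hx, y, hy, h1, h2, h3⟩ :=
            exists_edge (hconn a ha b hb) (fun z => p ∣ z) hpa hpb
          exact ⟨x, hx, y, hy, h1, h2, h3⟩ }
    exact hbad.false hIM
  intro a ha b hb
  by_cases hpa : p ∣ a
  · by_cases hpb : p ∣ b
    · exact ⟨a, ha, a, ha, self ha, self ha, common hpa hpb⟩
    · exact key a ha b hb hpa hpb
  · by_cases hpb : p ∣ b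
    · exact (key b hb a ha hpb hpa).symm
    · obtain ⟨-, -, -, -, hnear⟩ := near b hb hpb
      obtain ⟨d, hd, h1, h2⟩ := hnear a ha hpa
      exact ⟨d, hd, d, hd, h1, self hd, h2⟩

/-- the degrees over a nontrivial character have a common factor -/
theorem common_factor {M : Subgroup G} [M.Normal] (hMG : M ≤ commutator G) {θ : M → ℂ}
    (hθ : IsIrrCharacter M θ) (hθ1 : θ ≠ 1) :
    ∃ q, 1 < q ∧ ∀ χ : G → ℂ, IsIrrCharacter G χ → Over M.subtype χ θ → q ∣ charDegree χ := by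
  by_cases h1 : (inertia M θ).index * charDegree θ = 1
  · have h2 : (inertia M θ).index = 1 := Nat.dvd_one.1 (h1 ▸ Dvd.intro _ rfl)
    have h3 : charDegree θ = 1 := Nat.dvd_one.1 (h1 ▸ Dvd.intro_left _ rfl)
    obtain ⟨ϕ, rfl⟩ := exists_hom_of_degree_one hθ h3
    have hϕ : ϕ ≠ 1 := by rintro rfl; exact hθ1 lf_one
    obtain ⟨r, j, hr, hx, hj⟩ := exists_pow_prime ϕ hϕ
    haveI : Fact r.Prime := ⟨hr⟩
    refine ⟨r, hr.one_lt, fun χ hχ ho => ?_⟩
    refine prime_dvd_of_over hMG (k := 1) (j := j) hx (by rwa [pow_one]) ?_ hχ ho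
    rw [Subgroup.index_eq_one] at h2
    exact top_le_iff.1 (h2.symm.le.trans (inertia_pow M ϕ j))
  · have h0 : 0 < (inertia M θ).index * charDegree θ :=
      Nat.mul_pos (Nat.pos_of_ne_zero Subgroup.index_ne_zero_of_finite) (charDegree_pos hθ)
    exact ⟨_, by omega, fun χ hχ ho => index_mul_charDegree_dvd M hχ hθ ho⟩

theorem exists_over_hom {H : Type v} [Group H] [Finite H] (f : H →* G)
    (hf : Function.Injective f) {θ : H → ℂ} (hθ : IsIrrCharacter H θ) :
    ∃ χ : G → ℂ, IsIrrCharacter G χ ∧ Over f χ θ := by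
  let e : H ≃* f.range := MonoidHom.ofInjective hf
  have hθ' : IsIrrCharacter f.range (θ ∘ e.symm) :=
    isIrr_comp (e.symm : f.range →* H) e.symm.surjective hθ
  obtain ⟨χ, hχ, ho⟩ := exists_over_subtype f.range hθ'
  refine ⟨χ, hχ, ?_⟩
  have h1 := (over_comp_equiv f.range.subtype e χ (θ ∘ e.symm)).2 ho
  have h2 : (θ ∘ e.symm) ∘ e = θ := by
    funext x
    simp
  have h3 : f.range.subtype.comp e.toMonoidHom = f := by
    ext x
    rfl
  rwa [h2, h3] at h1

/-- characters over two commuting normal subgroups -/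
theorem exists_over_two (M L : Subgroup G) (hc : ∀ m ∈ M, ∀ l ∈ L, m * l = l * m)
    (hd : Disjoint M L) {θ : M → ℂ} (hθ : IsIrrCharacter M θ) {ν : L → ℂ}
    (hν : IsIrrCharacter L ν) :
    ∃ χ : G → ℂ, IsIrrCharacter G χ ∧ Over M.subtype χ θ ∧ Over L.subtype χ ν := by
  classical
  letI := Fintype.ofFinite M
  letI := Fintype.ofFinite L
  let f : M × L →* G :=
    { toFun := fun x => (x.1 : G) * (x.2 : G)
      map_one' := by simp only [_root_.Prod.fst_one, _root_.OneMemClass.coe_one, _root_.Prod.snd_one, _root_.mul_one]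
      map_mul' := by
        intro x y
        have h1 := hc (y.1 : G) y.1.2 (x.2 : G) x.2.2
        show (x.1 : G) * y.1 * ((x.2 : G) * y.2) = (x.1 : G) * x.2 * ((y.1 : G) * y.2)
        calc (x.1 : G) * y.1 * ((x.2 : G) * y.2) = (x.1 : G) * ((y.1 : G) * x.2) * y.2 := by group
          _ = (x.1 : G) * ((x.2 : G) * y.1) * y.2 := by rw [h1]
          _ = (x.1 : G) * x.2 * ((y.1 : G) * y.2) := by group }
  have hf : Function.Injective f := by
    rw [injective_iff_map_eq_one]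
    intro x hx
    have h1 : (x.1 : G) * (x.2 : G) = 1 := hx
    have h2 : (x.1 : G) = (x.2 : G)⁻¹ := eq_inv_of_mul_eq_one_left h1
    have h3 : (x.1 : G) ∈ M ⊓ L := ⟨x.1.2, by rw [h2]; exact L.inv_mem x.2.2⟩
    rw [hd.eq_bot, Subgroup.mem_bot] at h3
    rw [h3, one_mul] at h1
    exact Prod.ext (Subtype.ext h3) (Subtype.ext h1)
  have hη : IsIrrCharacter (M × L) (fun x => θ x.1 * ν x.2) :=
    (S0188.result _).2 ⟨θ, ν, hθ, hν, rfl⟩
  obtain ⟨χ, hχ, ho⟩ := exists_over_hom f hf hη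
  refine ⟨χ, hχ, ?_, ?_⟩
  · have e : M.subtype = f.comp (MonoidHom.inl M L) := by
      ext m
      show (m : G) = (m : G) * ((1 : L) : G)
      rw [OneMemClass.coe_one, mul_one]
    rw [e]
    refine (over_comp_iff _ _ (isIrr_isCharacter hχ) hθ).2 ⟨_, hη, ho, ?_⟩
    rw [over_iff]
    have e2 : (fun x : M × L => θ x.1 * ν x.2) ∘ (MonoidHom.inl M L) = ν 1 • θ := by
      funext m
      show θ m * ν 1 = ν 1 * θ m
      rw [mul_comm]
    rw [e2, classInner_smul_left, classInner_irr_self hθ, mul_one]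
    exact isIrr_apply_one_ne_zero hν
  · have e : L.subtype = f.comp (MonoidHom.inr M L) := by
      ext m
      show (m : G) = ((1 : M) : G) * (m : G)
      rw [OneMemClass.coe_one, one_mul]
    rw [e]
    refine (over_comp_iff _ _ (isIrr_isCharacter hχ) hν).2 ⟨_, hη, ho, ?_⟩
    rw [over_iff]
    have e2 : (fun x : M × L => θ x.1 * ν x.2) ∘ (MonoidHom.inr M L) = θ 1 • ν := rfl
    rw [e2, classInner_smul_left, classInner_irr_self hν, mul_one]
    exact isIrr_apply_one_ne_zero hθ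

/-- two degrees over commuting normal subgroups -/
theorem link_two {M L N : Subgroup G} [M.Normal] [L.Normal] [N.Normal] (hMN : M ≤ N) (hLN : L ≤ N)
    (hNG : N ≤ commutator G)
    (hc : ∀ m ∈ M, ∀ l ∈ L, m * l = l * m) (hd : Disjoint M L) {θ : M → ℂ}
    (hθ : IsIrrCharacter M θ) (hθ1 : θ ≠ 1) {ν : L → ℂ} (hν : IsIrrCharacter L ν) (hν1 : ν ≠ 1)
    {χ χ' : G → ℂ} (hχ : IsIrrCharacter G χ) (ho : Over M.subtype χ θ)
    (hχ' : IsIrrCharacter G χ') (ho' : Over L.subtype χ' ν) :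
    ∃ e ∈ relCharDegrees N, ¬ Nat.Coprime (charDegree χ) e ∧ ¬ Nat.Coprime e (charDegree χ') := by
  obtain ⟨ψ, hψ, h1, h2⟩ := exists_over_two M L hc hd hθ hν
  obtain ⟨q, hq, hq'⟩ := common_factor (hMN.trans hNG) hθ hθ1
  obtain ⟨r, hr, hr'⟩ := common_factor (hLN.trans hNG) hν hν1
  refine ⟨charDegree ψ, rel_mono hMN (mem_relCharDegrees_of_over M hψ hθ h1 hθ1), ?_, ?_⟩
  · intro h3
    have := Nat.eq_one_of_dvd_coprimes h3 (hq' χ hχ ho) (hq' ψ hψ h1)
    omega
  · intro h3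
    have := Nat.eq_one_of_dvd_coprimes h3 (hr' ψ hψ h2) (hr' χ' hχ' ho')
    omega

/-- **The nilpotent case.** -/
theorem ch3_nilpotent (N : Subgroup G) [hN : N.Normal] (hnil : Group.IsNilpotent N)
    (hNG : N ≤ commutator G) (hIM : AllIM G)
    (hconn : ∀ x ∈ relCharDegrees N, ∀ y ∈ relCharDegrees N, Conn N x y) :
    ∀ a ∈ relCharDegrees N, ∀ b ∈ relCharDegrees N, Ch3 N a b := by
  classical
  by_cases hpg : ∃ p : ℕ, p.Prime ∧ IsPGroup p N
  · obtain ⟨p, hp, hNp⟩ := hpg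
    haveI : Fact p.Prime := ⟨hp⟩
    exact ch3_pgroup N hNp hNG hIM hconn
  -- Sylow subgroups of `N`
  let S : ℕ → Subgroup G := fun t => ((default : Sylow t N) : Subgroup N).map N.subtype
  have hSN : ∀ t, S t ≤ N := fun t => Subgroup.map_subtype_le _
  have hSn : ∀ t, t.Prime → (S t).Normal := by
    intro t ht
    haveI : Fact t.Prime := ⟨ht⟩
    have h1 : ((default : Sylow t N) : Subgroup N).Normal := by
      have := (Group.isNilpotent_of_finite_tfae (G := N)).out 0 3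
      exact this.1 hnil t ⟨ht⟩ default
    haveI : ((default : Sylow t N) : Subgroup N).Characteristic :=
      Sylow.characteristic_of_normal _ h1
    exact inferInstance
  have hdis : ∀ s t, s.Prime → t.Prime → s ≠ t → Disjoint (S s) (S t) := by
    intro s t hs ht hst
    haveI : Fact s.Prime := ⟨hs⟩
    haveI : Fact t.Prime := ⟨ht⟩
    apply Subgroup.disjoint_of_coprime_natCard
    have h1 : IsPGroup s (S s) := (default : Sylow s N).isPGroup'.map _
    have h2 : IsPGroup t (S t) := (default : Sylow t N).isPGroup'.map _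
    obtain ⟨a, ha⟩ := IsPGroup.iff_card.1 h1
    obtain ⟨b, hb⟩ := IsPGroup.iff_card.1 h2
    rw [ha, hb]
    exact Nat.Coprime.pow _ _ ((Nat.coprime_primes hs ht).2 hst)
  have hcom : ∀ s t, s.Prime → t.Prime → s ≠ t → ∀ m ∈ S s, ∀ l ∈ S t, m * l = l * m := by
    intro s t hs ht hst m hm l hl
    exact Subgroup.commute_of_normal_of_disjoint _ _ (hSn s hs) (hSn t ht) (hdis s t hs ht hst)
      m l hm hl
  have hdeg : ∀ a ∈ relCharDegrees N, ∃ t, t.Prime ∧ ∃ χ : G → ℂ, IsIrrCharacter G χ ∧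
      charDegree χ = a ∧ ∃ θ : S t → ℂ, IsIrrCharacter (S t) θ ∧ θ ≠ 1 ∧
        Over (S t).subtype χ θ := by
    rintro _ ⟨⟨χ, hχ⟩, hk, rfl⟩
    dsimp only at hk ⊢
    obtain ⟨t, ht, x, hx, hxne⟩ : ∃ t, t.Prime ∧ ∃ x ∈ S t, χ x ≠ χ 1 := by
      by_contra hcon
      push Not at hcon
      obtain ⟨x, hx, hxne⟩ := hk
      obtain ⟨d, ρ, hρ, rfl⟩ := id hχ
      let B : Subgroup N := (MonoidHom.ker (ρ : G →* _)).subgroupOf N
      have hB : ∀ t, t.Prime → ((default : Sylow t N) : Subgroup N) ≤ B := by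
        intro t ht y hy
        have h1 := hcon t ht y ⟨y, hy, rfl⟩
        rw [Representation.char_one] at h1
        exact (Characters.Values.character_eq_finrank_iff ρ (y : G)).1 h1
      have hB1 : B.index = 1 := by
        by_contra hne
        obtain ⟨t, ht, htd⟩ := Nat.exists_prime_and_dvd hne
        haveI : Fact t.Prime := ⟨ht⟩
        exact (default : Sylow t N).not_dvd_index
          (htd.trans (Subgroup.index_dvd_of_le (hB t ht)))
      rw [Subgroup.index_eq_one] at hB1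
      apply hxne
      have h2 : (⟨x, hx⟩ : N) ∈ B := by rw [hB1]; trivial
      have h3 : ρ x = 1 := h2
      rw [Representation.char_one]
      exact (Characters.Values.character_eq_finrank_iff ρ x).2 h3
    haveI := hSn t ht
    obtain ⟨θ, hθ, ho⟩ := exists_under (f := (S t).subtype) hχ
    exact ⟨t, ht, χ, hχ, rfl, θ, hθ, ne_one_of_over (S t) hχ ⟨x, hx, hxne⟩ hθ ho, ho⟩
  intro a ha b hb
  have self : ∀ {x : ℕ}, x ∈ relCharDegrees N → ¬ Nat.Coprime x x := fun hx =>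
    not_coprime_self (one_lt_of_mem_rel hNG hx)
  obtain ⟨s, hs, χ, hχ, rfl, θ, hθ, hθ1, ho⟩ := hdeg a ha
  obtain ⟨t, ht, χ', hχ', rfl, θ', hθ', hθ1', ho'⟩ := hdeg b hb
  haveI := hSn s hs
  haveI := hSn t ht
  by_cases hst : s = t
  swap
  · obtain ⟨e, he, h1, h2⟩ := link_two (hSN s) (hSN t) hNG (hcom s t hs ht hst)
      (hdis s t hs ht hst) hθ hθ1 hθ' hθ1' hχ ho hχ' ho'
    exact ⟨e, he, e, he, h1, self he, h2⟩
  subst hst
  -- another prime
  obtain ⟨r, hr, hrs, hrN⟩ : ∃ r : ℕ, r.Prime ∧ r ≠ s ∧ r ∣ Nat.card N := by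
    by_contra hcon
    push Not at hcon
    apply hpg
    refine ⟨s, hs, ?_⟩
    haveI : Fact s.Prime := ⟨hs⟩
    rw [IsPGroup.iff_card]
    exact ⟨_, Nat.eq_prime_pow_of_unique_prime_dvd Nat.card_pos.ne' (fun {d} hd hdN => by
      by_contra hds
      exact hcon d hd hds hdN)⟩
  haveI : Fact r.Prime := ⟨hr⟩
  haveI := hSn r hr
  have hSr : S r ≠ ⊥ := by
    intro hbot
    have h1 : ((default : Sylow r N) : Subgroup N) = ⊥ :=
      (Subgroup.map_eq_bot_iff_of_injective _ N.subtype_injective).1 hbot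
    have h2 := (default : Sylow r N).not_dvd_index
    rw [h1, Subgroup.index_bot] at h2
    exact h2 hrN
  haveI : Nontrivial (S r) := (Subgroup.nontrivial_iff_ne_bot _).2 hSr
  have hSrp : IsPGroup r (S r) := (default : Sylow r N).isPGroup'.map _
  obtain ⟨lam, hlam⟩ := H670.PSing.exists_linear_ne_one hSrp
  have hν := isIrr_lf lam
  have hν1 := lf_ne_one hlam
  obtain ⟨ψ, hψ, h1, h2⟩ := exists_over_two (S s) (S r) (hcom s r hs hr hrs.symm)
    (hdis s r hs hr hrs.symm) hθ hν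
  obtain ⟨ψ', hψ', h1', h2'⟩ := exists_over_two (S s) (S r) (hcom s r hs hr hrs.symm)
    (hdis s r hs hr hrs.symm) hθ' hν
  obtain ⟨q, hq, hq'⟩ := common_factor ((hSN s).trans hNG) hθ hθ1
  obtain ⟨q2, hq2, hq2'⟩ := common_factor ((hSN s).trans hNG) hθ' hθ1'
  obtain ⟨q3, hq3, hq3'⟩ := common_factor ((hSN r).trans hNG) hν hν1
  refine ⟨charDegree ψ, rel_mono (hSN s) (mem_relCharDegrees_of_over (S s) hψ hθ h1 hθ1),
    charDegree ψ', rel_mono (hSN s) (mem_relCharDegrees_of_over (S s) hψ' hθ' h1' hθ1'),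
    fun h3 => ?_, fun h3 => ?_, fun h3 => ?_⟩
  · have := Nat.eq_one_of_dvd_coprimes h3 (hq' χ hχ ho) (hq' ψ hψ h1)
    omega
  · have := Nat.eq_one_of_dvd_coprimes h3 (hq3' ψ hψ h2) (hq3' ψ' hψ' h2')
    omega
  · have := Nat.eq_one_of_dvd_coprimes h3 (hq2' ψ' hψ' h1') (hq2' χ' hχ' ho')
    omega

/-! ### The diameter -/

theorem edist_le_one {D : Set ℕ} (a b : ↥D) (h : ¬ Nat.Coprime (a : ℕ) b)
    (ha : 0 < (a : ℕ)) : (commonDivisorGraph.induce D).edist a b ≤ 1 := by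
  by_cases hab : a = b
  · rw [hab, SimpleGraph.edist_self]
    exact zero_le
  · refine le_of_eq (SimpleGraph.edist_eq_one_iff_adj.2 ?_)
    rw [SimpleGraph.comap_adj]
    refine ⟨fun h1 => hab (Subtype.ext h1), ?_⟩
    have h1 : Nat.gcd (a : ℕ) b ≠ 1 := h
    have h2 : 0 < Nat.gcd (a : ℕ) b := Nat.gcd_pos_of_pos_left _ ha
    show 1 < Nat.gcd (a : ℕ) b
    omega

theorem diam_le_four (N : Subgroup G) [N.Normal] (hs : Group.IsSolvable N)
    (hNG : N ≤ commutator G)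
    (hconn : (commonDivisorGraph.induce (relCharDegrees N)).Preconnected) :
    (commonDivisorGraph.induce (relCharDegrees N)).diam ≤ 4 := by
  have hc : ∀ x ∈ relCharDegrees N, ∀ y ∈ relCharDegrees N, Conn N x y :=
    fun x hx y hy => ⟨hx, hy, hconn _ _⟩
  have h1 : (commonDivisorGraph.induce (relCharDegrees N)).ediam ≤ 4 := by
    apply SimpleGraph.ediam_le_of_edist_le
    rintro ⟨a, ha⟩ ⟨b, hb⟩
    obtain ⟨c, hc', d, hd, e, he, h1, h2, h3, h4⟩ := conn_aux _ N rfl hs hNG hc a ha b hb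
    have k1 := edist_le_one (D := relCharDegrees N) ⟨a, ha⟩ ⟨c, hc'⟩ h1 (relCharDegrees_pos ha)
    have k2 := edist_le_one (D := relCharDegrees N) ⟨c, hc'⟩ ⟨d, hd⟩ h2 (relCharDegrees_pos hc')
    have k3 := edist_le_one (D := relCharDegrees N) ⟨d, hd⟩ ⟨e, he⟩ h3 (relCharDegrees_pos hd)
    have k4 := edist_le_one (D := relCharDegrees N) ⟨e, he⟩ ⟨b, hb⟩ h4 (relCharDegrees_pos he)
    calc _ ≤ _ := SimpleGraph.edist_triangle (v := (⟨d, hd⟩ : relCharDegrees N))
      _ ≤ (1 + 1) + (1 + 1) := add_le_add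
        (SimpleGraph.edist_triangle.trans (add_le_add k1 k2))
        (SimpleGraph.edist_triangle.trans (add_le_add k3 k4))
      _ = 4 := by norm_num
  exact ENat.toNat_le_of_le_natCast h1

theorem diam_le_three (N : Subgroup G) [N.Normal] (hnil : Group.IsNilpotent N)
    (hNG : N ≤ commutator G) (hIM : AllIM G)
    (hconn : (commonDivisorGraph.induce (relCharDegrees N)).Preconnected) :
    (commonDivisorGraph.induce (relCharDegrees N)).diam ≤ 3 := by
  have hc : ∀ x ∈ relCharDegrees N, ∀ y ∈ relCharDegrees N, Conn N x y :=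
    fun x hx y hy => ⟨hx, hy, hconn _ _⟩
  have h1 : (commonDivisorGraph.induce (relCharDegrees N)).ediam ≤ 3 := by
    apply SimpleGraph.ediam_le_of_edist_le
    rintro ⟨a, ha⟩ ⟨b, hb⟩
    obtain ⟨c, hc', d, hd, h1, h2, h3⟩ := ch3_nilpotent N hnil hNG hIM hc a ha b hb
    have k1 := edist_le_one (D := relCharDegrees N) ⟨a, ha⟩ ⟨c, hc'⟩ h1 (relCharDegrees_pos ha)
    have k2 := edist_le_one (D := relCharDegrees N) ⟨c, hc'⟩ ⟨d, hd⟩ h2 (relCharDegrees_pos hc')
    have k3 := edist_le_one (D := relCharDegrees N) ⟨d, hd⟩ ⟨b, hb⟩ h3 (relCharDegrees_pos hd)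
    calc _ ≤ _ := SimpleGraph.edist_triangle (v := (⟨d, hd⟩ : relCharDegrees N))
      _ ≤ (1 + 1) + 1 := add_le_add (SimpleGraph.edist_triangle.trans (add_le_add k1 k2)) k3
      _ = 3 := by norm_num
  exact ENat.toNat_le_of_le_natCast h1

end Cfsg.Agent.H673
end

-- part: H673/Final
section
/-!
# The relative degree graph: S4777 and S4778 from the Ito-Michler theorem

`IMStmt` is the statement of S4760, taken here as a hypothesis.
-/

set_option autoImplicit false
open Cfsg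

universe u

namespace Cfsg.Agent.H673

/-- The Ito-Michler theorem (statement of S4760) in the universe `u`. -/
def IMStmt : Prop :=
  ∀ (G : Type u) [Group G] [Finite G] (p : ℕ) [Fact p.Prime] (P : Sylow p G),
    ((P : Subgroup G).Normal ∧ IsMulCommutative P) ↔
      ∀ χ : Cfsg.IrrCharacter G, ¬ p ∣ Cfsg.charDegree (χ : G → ℂ)

/-- S4777 from the Ito-Michler theorem. -/
theorem s4777_of (hIM : IMStmt.{u}) {G : Type u} [Group G] [Finite G] (p : ℕ) [Fact p.Prime]
    (N : Subgroup G) [N.Normal] (hNp : IsPGroup p N) (hNab : IsMulCommutative N)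
    (hNG : N ≤ commutator G) (P : Sylow p G)
    (hdisc : ¬ (Cfsg.commonDivisorGraph.induce (Cfsg.relCharDegrees N)).Preconnected) :
    (P : Subgroup G).Normal ∧ commutator G ≤ P ∧ ⁅(P : Subgroup G), (P : Subgroup G)⁆ ≤ N ∧
      (∀ d ∈ Cfsg.relCharDegrees N, (∃ k : ℕ, d = p ^ k) ∨ Nat.Coprime d p) ∧
      (∃ x ∈ N, ∃ y ∈ (P : Subgroup G), x * y ≠ y * x) ∧
      ∀ M : Subgroup G, M.Normal → M ≠ ⊥ → (∀ K : Subgroup G, K.Normal → K < M → K = ⊥) →
        M ≤ commutator G → M ≤ Subgroup.center G := by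
  refine disc_abelian p N hNp hNab hNG P hdisc (fun r _ T _ hT Q => ?_)
  have h := (hIM (T ⧸ N.subgroupOf T) r Q).2 (fun χ => hT χ χ.2)
  exact ⟨h.1, fun a ha b hb => congrArg Subtype.val (h.2.is_comm.comm ⟨a, ha⟩ ⟨b, hb⟩)⟩

/-- S4778 from the Ito-Michler theorem. -/
theorem s4778_of (hIM : IMStmt.{u}) {G : Type u} [Group G] [Finite G]
    (N : Subgroup G) [N.Normal] [Group.IsSolvable N] (hNG : N ≤ commutator G)
    (hconn : (Cfsg.commonDivisorGraph.induce (Cfsg.relCharDegrees N)).Connected) :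
    (Cfsg.commonDivisorGraph.induce (Cfsg.relCharDegrees N)).diam ≤ 4 ∧
      (Group.IsNilpotent N →
        (Cfsg.commonDivisorGraph.induce (Cfsg.relCharDegrees N)).diam ≤ 3) := by
  refine ⟨diam_le_four N inferInstance hNG hconn.preconnected,
    fun hnil => diam_le_three N hnil hNG ?_ hconn.preconnected⟩
  intro r _ M T _ hMT hT Q
  have h := (hIM (T ⧸ M.subgroupOf T) r Q).2 (fun χ => hT χ χ.2)
  exact ⟨h.1, fun a ha b hb => congrArg Subtype.val (h.2.is_comm.comm ⟨a, ha⟩ ⟨b, hb⟩)⟩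

end Cfsg.Agent.H673
end
end
end
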